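import Mathlib
import Cfsg.Prelude.Def_Characters
import Cfsg.Agent.H4.RealClasses
import Cfsg.Agent.H4.Integral
import Cfsg.Agent.S0161

set_option autoImplicit false
set_option linter.unusedSectionVars false
set_option linter.style.haveILetI false

namespace Cfsg.Agent.H4

open Module Representation

universe u v w

open scoped ComplexConjugate

section OddSixteen

variable {G : Type u} [Group G]

theorem irr_degree_dvd_card [Finite G] (χ : IrrCharacter G) :
    ∃ n : ℕ, n ∣ Nat.card G ∧ χ.1 1 = n := by
  obtain ⟨n, ρ, hρ, h⟩ := χ.2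
  haveI := hρ
  refine ⟨n, ?_, ?_⟩
  · have := finrank_dvd_card ρ
    simpa using this
  · rw [← h, Representation.char_one]; simp

/-- If `G` has odd order then `|G| ≡ k(G) (mod 16)`. -/
theorem card_modEq_card_conjClasses_of_odd [Finite G] (hodd : Odd (Nat.card G)) :
    Nat.card G ≡ Nat.card (ConjClasses G) [MOD 16] := by
  classical
  haveI := Fintype.ofFinite G
  letI := fintypeIrr G
  choose d hd using fun χ : IrrCharacter G => irr_degree_dvd_card χ
  have hsq : (Nat.card G : ℕ) = ∑ χ : IrrCharacter G, d χ ^ 2 := by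
    have h := sum_irr_sq (G := G)
    rw [finsum_irr_eq_sum] at h
    have : ((∑ χ : IrrCharacter G, d χ ^ 2 : ℕ) : ℂ) = (Nat.card G : ℂ) := by
      rw [← h]; push_cast; exact Finset.sum_congr rfl fun χ _ => by rw [(hd χ).2]
    exact_mod_cast this.symm
  have hk : Nat.card (ConjClasses G) = ∑ χ : IrrCharacter G, 1 := by
    rw [← card_irr_eq_card_conjClasses, Nat.card_eq_fintype_card]; simp
  rw [← ZMod.natCast_eq_natCast_iff]
  rw [hsq, hk]; push_cast
  rw [← sub_eq_zero, ← Finset.sum_sub_distrib]
  have hoddd : ∀ χ, Odd (d χ) := fun χ => Odd.of_dvd_nat hodd (hd χ).1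
  have key : ∀ n : ℕ, Odd n → (2 : ZMod 16) * ((n : ZMod 16) ^ 2 - 1) = 0 := by
    intro n hn
    obtain ⟨m, rfl⟩ := hn
    have : ∀ x : ZMod 16, (2 : ZMod 16) * ((2 * x + 1) ^ 2 - 1) = 0 := by decide
    simpa using this m
  apply Finset.sum_involution (fun χ _ => irrConj χ)
  · intro χ _
    have hdc : d (irrConj χ) = d χ := by
      have h1 := (hd (irrConj χ)).2
      have h2 := (hd χ).2
      have : ((irrConj χ).1 1) = conj (χ.1 1) := rfl
      rw [this, h2, Complex.conj_natCast] at h1
      exact_mod_cast h1.symm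
    rw [hdc, ← two_mul]; exact key _ (hoddd χ)
  · intro χ _ hne hfix
    apply hne
    have hreal : ∀ g, (χ.1 g).im = 0 := by
      intro g
      have : conj (χ.1 g) = χ.1 g := congrFun (congrArg Subtype.val hfix) g
      exact Complex.conj_eq_iff_im.mp this
    have h1 := Cfsg.Agent.S0161.result hodd χ hreal
    have h2 := (hd χ).2
    rw [h1] at h2
    have h3 : ((d χ : ℕ) : ℂ) = 1 := h2.symm
    have : d χ = 1 := by exact_mod_cast h3
    rw [this]; simp
  · intro χ _
    apply Subtype.ext; funext g; simp [irrConj]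
  · intro χ _; exact Finset.mem_univ _

end OddSixteen

end Cfsg.Agent.H4
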