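import Mathlib
import Cfsg.Prelude.Def_Characters
import Cfsg.Agent.H4.Irr

set_option autoImplicit false
set_option linter.unusedSectionVars false
set_option linter.style.haveILetI false

/-!
# Restriction to a subgroup containing the normaliser of a TI Sylow subgroup (helper4)

If `P` is a TI Sylow `p`-subgroup of `G`, `H ≥ N_G(P)` and `χ` is a character with
`χ(1)² ≤ |P|`, then `[χ, χ]_G = [χ_H, χ_H]_H`.
-/

open Cfsg
open scoped ComplexConjugate

namespace Cfsg.Agent.H4

universe u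

section FixedComb

/-- A nonzero element of exponent `p` in a module for a finite `p`-group has a nonzero fixed
integral combination of its translates. -/
theorem fixed_comb {P : Type*} [Group P] [Fintype P] {p : ℕ} [Fact p.Prime] (hP : IsPGroup p P)
    {M : Type*} [AddCommGroup M] [DistribMulAction P M] (m : M) (hm : m ≠ 0)
    (hpm : (p : ℕ) • m = 0) :
    ∃ n : P → ℤ, (∑ y, n y • (y • m)) ≠ 0 ∧
      ∀ z : P, z • (∑ y, n y • (y • m)) = ∑ y, n y • (y • m) := by
  classical
  have hp : p.Prime := Fact.out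
  let T : AddSubgroup M :=
    { carrier := {t | ∃ n : P → ℤ, t = ∑ y, n y • (y • m)}
      zero_mem' := ⟨0, by simp⟩
      add_mem' := by
        rintro a b ⟨n, rfl⟩ ⟨n', rfl⟩
        exact ⟨n + n', by simp [add_smul, Finset.sum_add_distrib]⟩
      neg_mem' := by
        rintro a ⟨n, rfl⟩
        exact ⟨-n, by simp [Finset.sum_neg_distrib]⟩ }
  have hTmem : ∀ t : M, t ∈ T ↔ ∃ n : P → ℤ, t = ∑ y, n y • (y • m) := fun t => Iff.rfl
  have hstab : ∀ (z : P) (t : M), t ∈ T → z • t ∈ T := by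
    rintro z t ⟨n, rfl⟩
    refine ⟨fun y => n (z⁻¹ * y), ?_⟩
    rw [Finset.smul_sum]
    have h1 : ∀ y, z • (n y • (y • m)) = n y • ((z * y) • m) := fun y => by
      rw [smul_comm z (n y), mul_smul]
    simp_rw [h1]
    exact Fintype.sum_equiv (Equiv.mulLeft z) _ _ (fun y => by simp)
  have hpy : ∀ y : P, (p : ℤ) • (y • m) = 0 := fun y => by
    rw [natCast_zsmul, smul_comm, hpm, smul_zero]
  have hfin : Finite T := by
    have hsub : (T : Set M) ⊆
        Set.range (fun n : P → Fin p => ∑ y, ((n y : ℕ) : ℤ) • (y • m)) := by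
      rintro t ⟨n, rfl⟩
      have hp0 : (p : ℤ) ≠ 0 := by exact_mod_cast hp.ne_zero
      have hpos : (0 : ℤ) < p := by exact_mod_cast hp.pos
      refine ⟨fun y => ⟨(n y % p).toNat, ?_⟩, ?_⟩
      · have h1 := Int.emod_lt_of_pos (n y) hpos
        have h2 := Int.emod_nonneg (n y) hp0
        omega
      · refine Finset.sum_congr rfl fun y _ => ?_
        have h2 := Int.emod_nonneg (n y) hp0
        show (((n y % p).toNat : ℕ) : ℤ) • (y • m) = n y • (y • m)
        rw [Int.toNat_of_nonneg h2]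
        conv_rhs => rw [← Int.emod_add_mul_ediv (n y) p]
        rw [add_smul, mul_smul, smul_comm (p : ℤ), hpy, smul_zero, add_zero]
    exact ((Set.finite_range _).subset hsub).to_subtype
  letI : MulAction P T :=
    { smul := fun z t => ⟨z • (t : M), hstab z t t.2⟩
      one_smul := fun t => Subtype.ext (one_smul P (t : M))
      mul_smul := fun z z' t => Subtype.ext (mul_smul z z' (t : M)) }
  have hmT : m ∈ T := by
    refine ⟨fun y => if y = 1 then 1 else 0, ?_⟩
    simp
  have hord : addOrderOf (⟨m, hmT⟩ : T) = p := by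
    apply addOrderOf_eq_prime
    · exact Subtype.ext hpm
    · intro h
      exact hm (congrArg Subtype.val h)
  have hpT : p ∣ Nat.card T := hord ▸ addOrderOf_dvd_natCard _
  have h0 : (0 : T) ∈ MulAction.fixedPoints P T := fun z => Subtype.ext (smul_zero z)
  obtain ⟨⟨t, n, rfl⟩, hb, hb0⟩ := hP.exists_fixed_point_of_prime_dvd_card_of_fixed_point T hpT h0
  refine ⟨n, ?_, fun z => congrArg Subtype.val (hb z)⟩
  intro h
  exact hb0 (Subtype.ext h.symm)

end FixedComb

section Val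

variable {Γ₀ : Type*} [LinearOrderedCommGroupWithZero Γ₀] (v : Valuation ℂ Γ₀)

/-- A Nakayama-type statement for a valuation on `ℂ`: a finite family each of whose members is a
combination of members with coefficients of valuation `< 1` vanishes. -/
theorem val_nak {W : Type*} [AddCommGroup W] [Module ℂ W] {ι : Type*} [Fintype ι]
    {κ : Type*} [Fintype κ] (y : ι → W) (m : ι → κ → ℂ) (t : ι → κ → ι)
    (hm : ∀ i k, v (m i k) < 1) (hy : ∀ i, y i = ∑ k, m i k • y (t i k)) (i : ι) : y i = 0 := by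
  classical
  by_contra hne
  obtain ⟨φ, hφ⟩ : ∃ φ : Module.Dual ℂ W, φ (y i) ≠ 0 := by
    by_contra h
    push Not at h
    exact hne ((Module.forall_dual_apply_eq_zero_iff ℂ (y i)).mp h)
  obtain ⟨i₁, -, hi₁⟩ := Finset.exists_max_image Finset.univ (fun j => v (φ (y j)))
    ⟨i, Finset.mem_univ i⟩
  have hpos : v (φ (y i₁)) ≠ 0 := by
    have h1 := hi₁ i (Finset.mem_univ i)
    have h2 : v (φ (y i)) ≠ 0 := (Valuation.ne_zero_iff v).mpr hφ
    intro h0
    rw [h0] at h1
    exact h2 (le_antisymm h1 zero_le)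
  have heq : φ (y i₁) = ∑ k, m i₁ k * φ (y (t i₁ k)) := by
    conv_lhs => rw [hy i₁]
    rw [map_sum]
    exact Finset.sum_congr rfl fun k _ => by rw [map_smul, smul_eq_mul]
  have hlt : v (φ (y i₁)) < v (φ (y i₁)) := by
    conv_lhs => rw [heq]
    apply Valuation.map_sum_lt v hpos
    intro k _
    rw [map_mul]
    have h1 := hi₁ (t i₁ k) (Finset.mem_univ _)
    have h2 := hm i₁ k
    by_cases h0 : v (φ (y (t i₁ k))) = 0
    · rw [h0, mul_zero]
      exact zero_lt_iff.mpr hpos
    · calc v (m i₁ k) * v (φ (y (t i₁ k))) < 1 * v (φ (y (t i₁ k))) :=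
            mul_lt_mul_of_pos_right h2 (zero_lt_iff.mpr h0)
        _ = v (φ (y (t i₁ k))) := one_mul _
        _ ≤ v (φ (y i₁)) := h1
  exact lt_irrefl _ hlt

/-- The additive subgroup of elements of valuation `< 1`. -/
def valLt : AddSubgroup ℂ where
  carrier := {c | v c < 1}
  zero_mem' := by
    show v 0 < 1
    rw [map_zero]
    exact zero_lt_one
  add_mem' := fun {a b} ha hb => lt_of_le_of_lt (v.map_add a b) (max_lt ha hb)
  neg_mem' := fun {a} ha => by
    show v (-a) < 1
    rw [Valuation.map_neg]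
    exact ha

theorem mem_valLt (c : ℂ) : c ∈ valLt v ↔ v c < 1 := Iff.rfl

end Val

section NormComb

variable {Γ₀ : Type*} [LinearOrderedCommGroupWithZero Γ₀] (v : Valuation ℂ Γ₀)

/-- The translation action of `P` on functions `P → A`. -/
@[reducible] def transAct (P : Type*) [Group P] (A : Type*) [AddCommGroup A] :
    DistribMulAction P (P → A) where
  smul y a := fun x => a (y⁻¹ * x)
  one_smul a := by
    funext x
    show a (1⁻¹ * x) = a x
    rw [inv_one, one_mul]
  mul_smul y z a := by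
    funext x
    show a ((y * z)⁻¹ * x) = a (z⁻¹ * (y⁻¹ * x))
    rw [mul_inv_rev, mul_assoc]
  smul_zero y := rfl
  smul_add y a b := rfl

/-- If the translates of `u` under a finite `p`-group are linearly dependent, their sum is a
combination of them with coefficients of valuation `< 1` (for a valuation with `v p < 1`). -/
theorem norm_comb {P : Type*} [Group P] [Fintype P] {p : ℕ} [Fact p.Prime] (hP : IsPGroup p P)
    (hv : v (p : ℂ) < 1)
    {W : Type*} [AddCommGroup W] [Module ℂ W] (τ : Representation ℂ P W) (u : W)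
    (hdep : ¬ LinearIndependent ℂ (fun x : P => τ x u)) :
    ∃ μ : P → ℂ, (∀ x, v (μ x) < 1) ∧ ∑ x, τ x u = ∑ x, μ x • τ x u := by
  classical
  obtain ⟨c, hc, x₁, hx₁⟩ := Fintype.not_linearIndependent_iff.mp hdep
  obtain ⟨x₀, -, hx₀⟩ := Finset.exists_max_image Finset.univ (fun x => v (c x))
    ⟨x₁, Finset.mem_univ _⟩
  have hc0 : c x₀ ≠ 0 := by
    intro h0
    have h1 := hx₀ x₁ (Finset.mem_univ _)
    simp only [h0, map_zero] at h1
    exact (Valuation.ne_zero_iff v).mpr hx₁ (le_antisymm h1 zero_le)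
  have hvc0 : v (c x₀) ≠ 0 := (Valuation.ne_zero_iff v).mpr hc0
  obtain ⟨c', hc'def⟩ : ∃ c' : P → ℂ, c' = fun x => c x / c x₀ := ⟨_, rfl⟩
  have hc'le : ∀ x, v (c' x) ≤ 1 := fun x => by
    rw [hc'def]
    show v (c x / c x₀) ≤ 1
    rw [map_div₀]
    exact (div_le_one₀ (zero_lt_iff.mpr hvc0)).mpr (hx₀ x (Finset.mem_univ _))
  have hc'1 : c' x₀ = 1 := by
    rw [hc'def]
    exact div_self hc0
  have hc'rel : ∑ x, c' x • τ x u = 0 := by
    have h1 : ∑ x, c' x • τ x u = (c x₀)⁻¹ • ∑ x, c x • τ x u := by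
      rw [Finset.smul_sum]
      refine Finset.sum_congr rfl fun x _ => ?_
      rw [hc'def, smul_smul]
      congr 1
      show c x / c x₀ = (c x₀)⁻¹ * c x
      rw [div_eq_mul_inv, mul_comm]
    rw [h1, hc, smul_zero]
  letI := transAct P (ℂ ⧸ valLt v)
  obtain ⟨π, hπdef⟩ : ∃ π : ℂ →+ ℂ ⧸ valLt v, π = QuotientAddGroup.mk' (valLt v) := ⟨_, rfl⟩
  have hπ0 : ∀ z : ℂ, π z = 0 ↔ v z < 1 := fun z => by
    rw [hπdef]
    exact (QuotientAddGroup.eq_zero_iff z).trans (mem_valLt v z)
  obtain ⟨m₀, hm₀def⟩ : ∃ m₀ : P → ℂ ⧸ valLt v, m₀ = fun x => π (c' x) := ⟨_, rfl⟩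
  have hm₀ : m₀ ≠ 0 := by
    intro h
    have h1 := congrFun h x₀
    rw [hm₀def] at h1
    simp only [Pi.zero_apply] at h1
    rw [hc'1, hπ0, map_one] at h1
    exact lt_irrefl _ h1
  have hpm₀ : (p : ℕ) • m₀ = 0 := by
    funext x
    rw [hm₀def]
    show (p : ℕ) • π (c' x) = 0
    rw [← map_nsmul, hπ0, nsmul_eq_mul, map_mul]
    calc v (p : ℂ) * v (c' x) ≤ v (p : ℂ) * 1 := mul_le_mul' le_rfl (hc'le x)
      _ = v (p : ℂ) := mul_one _
      _ < 1 := hv
  obtain ⟨n, hn0, hnfix⟩ := fixed_comb hP m₀ hm₀ hpm₀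
  obtain ⟨a, hadef⟩ : ∃ a : P → ℂ, a = fun x => ∑ y, (n y : ℂ) * c' (y⁻¹ * x) := ⟨_, rfl⟩
  have hma : ∀ x, (∑ y, n y • (y • m₀)) x = π (a x) := by
    intro x
    rw [Finset.sum_apply, hadef]
    show ∑ y, (n y • (y • m₀)) x = π (∑ y, (n y : ℂ) * c' (y⁻¹ * x))
    rw [map_sum]
    refine Finset.sum_congr rfl fun y _ => ?_
    show n y • (m₀ (y⁻¹ * x)) = _
    rw [hm₀def]
    show n y • π (c' (y⁻¹ * x)) = _
    rw [← map_zsmul, zsmul_eq_mul]
  have hconst : ∀ x, π (a x) = π (a 1) := by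
    intro x
    rw [← hma, ← hma]
    have h1 := congrFun (hnfix x) x
    rw [← h1]
    show (∑ y, n y • (y • m₀)) (x⁻¹ * x) = _
    rw [inv_mul_cancel]
  have ha1 : ¬ v (a 1) < 1 := by
    intro h
    apply hn0
    funext x
    rw [hma, hconst]
    exact (hπ0 _).mpr h
  have hdiff : ∀ x, v (a x - a 1) < 1 := by
    intro x
    rw [← hπ0, map_sub, hconst, sub_self]
  have ha10 : a 1 ≠ 0 := by
    intro h
    apply ha1
    rw [h, map_zero]
    exact zero_lt_one
  have harel : ∑ x, a x • τ x u = 0 := by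
    have h1 : ∀ y : P, ∑ x, c' (y⁻¹ * x) • τ x u = 0 := by
      intro y
      have h2 : ∑ x, c' (y⁻¹ * x) • τ x u = τ y (∑ x, c' x • τ x u) := by
        rw [map_sum]
        refine (Fintype.sum_equiv (Equiv.mulLeft y) _ _ (fun x => ?_)).symm
        show τ y (c' x • τ x u) = c' (y⁻¹ * (y * x)) • τ (y * x) u
        rw [inv_mul_cancel_left, map_smul, map_mul]
        rfl
      rw [h2, hc'rel, map_zero]
    have h3 : ∑ x, a x • τ x u = ∑ y, (n y : ℂ) • ∑ x, c' (y⁻¹ * x) • τ x u := by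
      rw [hadef]
      simp only [Finset.sum_smul, Finset.smul_sum, smul_smul]
      exact Finset.sum_comm
    rw [h3]
    simp only [h1, smul_zero, Finset.sum_const_zero]
  refine ⟨fun x => -(a x - a 1) / a 1, fun x => ?_, ?_⟩
  · show v (-(a x - a 1) / a 1) < 1
    rw [map_div₀, Valuation.map_neg]
    have h1 : 0 < v (a 1) := zero_lt_iff.mpr ((Valuation.ne_zero_iff v).mpr ha10)
    rw [div_lt_one₀ h1]
    exact lt_of_lt_of_le (hdiff x) (not_lt.mp ha1)
  · have h1 : ∑ x, (-(a x - a 1) / a 1) • τ x u =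
        (a 1)⁻¹ • (a 1 • ∑ x, τ x u - ∑ x, a x • τ x u) := by
      rw [Finset.smul_sum, ← Finset.sum_sub_distrib, Finset.smul_sum]
      refine Finset.sum_congr rfl fun x _ => ?_
      rw [← sub_smul, smul_smul]
      congr 1
      field_simp
      ring
    rw [h1, harel, sub_zero, smul_smul, inv_mul_cancel₀ ha10, one_smul]

end NormComb

section Main

/-- There is a valuation subring of `ℂ` in which `p` is not a unit. -/
theorem exists_valuation (p : ℕ) (hp : p.Prime) :
    ∃ B : ValuationSubring ℂ, B.valuation (p : ℂ) < 1 := by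
  obtain ⟨A, hAdef⟩ : ∃ A : Subring ℂ, A = (Int.castRingHom ℂ).range := ⟨_, rfl⟩
  have hpA : (p : ℂ) ∈ A := by
    rw [hAdef]
    exact ⟨(p : ℤ), by simp⟩
  have hI : Ideal.span {(⟨(p : ℂ), hpA⟩ : A)} ≠ ⊤ := by
    intro h
    rw [Ideal.eq_top_iff_one, Ideal.mem_span_singleton'] at h
    obtain ⟨⟨a, ha⟩, h1⟩ := h
    have h2 : a * (p : ℂ) = 1 := congrArg Subtype.val h1
    rw [hAdef] at ha
    obtain ⟨n, rfl⟩ := ha
    have h3 : ((n * (p : ℤ) : ℤ) : ℂ) = ((1 : ℤ) : ℂ) := by
      push_cast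
      exact h2
    have h4 : n * (p : ℤ) = 1 := Int.cast_injective h3
    have h5 : (p : ℤ) ∣ 1 := Dvd.intro_left n h4
    have h6 : p ∣ 1 := by exact_mod_cast h5
    exact hp.one_lt.ne' (Nat.dvd_one.mp h6)
  obtain ⟨B, -, hB⟩ := Ideal.image_subset_nonunits_valuationSubring _ hI
  refine ⟨B, ?_⟩
  rw [← ValuationSubring.mem_nonunits_iff]
  apply hB
  exact ⟨⟨(p : ℂ), hpA⟩, Ideal.subset_span rfl, rfl⟩

/-- The key vanishing statement: `G` acts transitively on the finite set `X`, the `p`-subgroup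
`P` fixes `x₀` and acts freely on the other points, `f : X → W` is equivariant with total sum
zero, and the span of its values has dimension `< |P|`.  Then `f = 0` at `x₀`. -/
theorem ti_fixed_zero {G : Type*} [Group G] {p : ℕ} [Fact p.Prime]
    (P : Subgroup G) [Fintype P] (hP : IsPGroup p P)
    {X : Type*} [Fintype X] [MulAction G X] (x₀ : X)
    (hfix : ∀ x ∈ P, x • x₀ = x₀)
    (hfree : ∀ x ∈ P, ∀ q : X, q ≠ x₀ → x • q = q → x = 1)
    (htrans : ∀ q : X, ∃ g : G, g • x₀ = q)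
    {W : Type*} [AddCommGroup W] [Module ℂ W] [FiniteDimensional ℂ W]
    (τ : Representation ℂ G W) (f : X → W) (hf : ∀ (g : G) (q : X), f (g • q) = τ g (f q))
    (hsum : ∑ q, f q = 0)
    (hdim : Module.finrank ℂ (Submodule.span ℂ (Set.range f)) < Nat.card P) :
    f x₀ = 0 := by
  classical
  have hp : p.Prime := Fact.out
  obtain ⟨B, hB⟩ := exists_valuation p hp
  letI : MulAction P {q : X // q ≠ x₀} :=
    { smul := fun x q => ⟨(x : G) • q.1, fun h => q.2 (by
          have h1 : q.1 = (x : G)⁻¹ • x₀ := eq_inv_smul_iff.mpr h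
          exact h1.trans (hfix _ (P.inv_mem x.2)))⟩
      one_smul := fun q => Subtype.ext (one_smul G q.1)
      mul_smul := fun x y q => Subtype.ext (mul_smul (x : G) (y : G) q.1) }
  have hsmul : ∀ (x : P) (q : {q : X // q ≠ x₀}),
      ((x • q : {q : X // q ≠ x₀}) : X) = (x : G) • (q : X) := fun _ _ => rfl
  have hstab : ∀ (x : P) (q : {q : X // q ≠ x₀}), x • q = q → x = 1 := by
    intro x q h
    exact Subtype.ext (hfree x x.2 q.1 q.2 (congrArg Subtype.val h))
  obtain ⟨Φ, hΦdef⟩ : ∃ Φ : Quotient (MulAction.orbitRel P {q : X // q ≠ x₀}) × P →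
      {q : X // q ≠ x₀}, Φ = fun a => a.2 • a.1.out := ⟨_, rfl⟩
  have hmk : ∀ (x : P) (q : {q : X // q ≠ x₀}),
      (Quotient.mk'' (x • q) : Quotient (MulAction.orbitRel P {q : X // q ≠ x₀})) =
        Quotient.mk'' q := fun x q => Quotient.sound' (MulAction.mem_orbit q x)
  have hΦ : Function.Bijective Φ := by
    constructor
    · rintro ⟨O, x⟩ ⟨O', x'⟩ h
      rw [hΦdef] at h
      have h' : x • O.out = x' • O'.out := h
      have hO : O = O' := by
        have h1 := congrArg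
          (Quotient.mk'' : _ → Quotient (MulAction.orbitRel P {q : X // q ≠ x₀})) h'
        rw [hmk, hmk, Quotient.out_eq', Quotient.out_eq'] at h1
        exact h1
      subst hO
      have h2 : (x'⁻¹ * x) • O.out = O.out := by
        rw [mul_smul, h', inv_smul_smul]
      have h3 := hstab _ _ h2
      have h4 : x = x' := by
        rw [inv_mul_eq_one] at h3
        exact h3.symm
      rw [h4]
    · intro q
      have h1 : (Quotient.mk'' q : Quotient (MulAction.orbitRel P {q : X // q ≠ x₀})).out ∈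
          MulAction.orbit P q := Quotient.mk_out' (s₁ := MulAction.orbitRel P {q : X // q ≠ x₀}) q
      obtain ⟨x, hx⟩ := h1
      refine ⟨(Quotient.mk'' q, x⁻¹), ?_⟩
      rw [hΦdef]
      show x⁻¹ • (Quotient.mk'' q : Quotient (MulAction.orbitRel P {q : X // q ≠ x₀})).out = q
      rw [← hx, inv_smul_smul]
  obtain ⟨u, hudef⟩ : ∃ u : W, u = ∑ O : Quotient (MulAction.orbitRel P {q : X // q ≠ x₀}),
      f (O.out : X) := ⟨_, rfl⟩
  have hxu : ∀ g : G, τ g u = ∑ O : Quotient (MulAction.orbitRel P {q : X // q ≠ x₀}),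
      f (g • (O.out : X)) := by
    intro g
    rw [hudef, map_sum]
    exact Finset.sum_congr rfl fun O _ => (hf g _).symm
  have hNu : ∑ q : {q : X // q ≠ x₀}, f q.1 = ∑ x : P, τ (x : G) u := by
    calc ∑ q : {q : X // q ≠ x₀}, f q.1
        = ∑ a : Quotient (MulAction.orbitRel P {q : X // q ≠ x₀}) × P, f (Φ a).1 :=
          (Equiv.sum_comp (Equiv.ofBijective Φ hΦ) (fun q => f q.1)).symm
      _ = ∑ O : Quotient (MulAction.orbitRel P {q : X // q ≠ x₀}), ∑ x : P,
            f ((x : G) • (O.out : X)) := by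
          rw [Fintype.sum_prod_type, hΦdef]
          rfl
      _ = ∑ x : P, ∑ O : Quotient (MulAction.orbitRel P {q : X // q ≠ x₀}),
            f ((x : G) • (O.out : X)) := Finset.sum_comm
      _ = ∑ x : P, τ (x : G) u := Finset.sum_congr rfl fun x _ => (hxu x).symm
  have hw : f x₀ = -∑ x : P, τ (x : G) u := by
    rw [Fintype.sum_eq_add_sum_subtype_ne f x₀, hNu] at hsum
    exact eq_neg_of_add_eq_zero_left hsum
  have hdep : ¬ LinearIndependent ℂ (fun x : P => (τ.comp P.subtype) x u) := by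
    intro hli
    have h1 := finrank_span_eq_card hli
    have h2 : Submodule.span ℂ (Set.range fun x : P => (τ.comp P.subtype) x u) ≤
        Submodule.span ℂ (Set.range f) := by
      rw [Submodule.span_le]
      rintro _ ⟨x, rfl⟩
      show τ (x : G) u ∈ Submodule.span ℂ (Set.range f)
      rw [hxu]
      exact Submodule.sum_mem _ fun O _ => Submodule.subset_span ⟨_, rfl⟩
    have h3 := Submodule.finrank_mono h2
    rw [h1] at h3
    rw [Nat.card_eq_fintype_card] at hdim
    omega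
  obtain ⟨μ, hμ, hμsum⟩ := norm_comb B.valuation hP hB (τ.comp P.subtype) u hdep
  have hμsum' : ∑ x : P, τ (x : G) u = ∑ x : P, μ x • τ (x : G) u := hμsum
  choose γ hγ using htrans
  have key : ∀ q : X, f q = ∑ a : P × Quotient (MulAction.orbitRel P {q : X // q ≠ x₀}),
      (-μ a.1) • f (γ q • ((a.1 : G) • (a.2.out : X))) := by
    intro q
    have h1 : f q = τ (γ q) (f x₀) := by rw [← hf, hγ]
    rw [h1, hw, hμsum', map_neg, map_sum, Fintype.sum_prod_type, ← Finset.sum_neg_distrib]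
    refine Finset.sum_congr rfl fun x _ => ?_
    rw [map_smul, hxu, map_sum, Finset.smul_sum, ← Finset.sum_neg_distrib]
    refine Finset.sum_congr rfl fun O _ => ?_
    rw [← hf, neg_smul]
  exact val_nak B.valuation f
    (fun _ (a : P × Quotient (MulAction.orbitRel P {q : X // q ≠ x₀})) => -μ a.1)
    (fun q a => γ q • ((a.1 : G) • (a.2.out : X)))
    (fun q a => by rw [Valuation.map_neg]; exact hμ _) key x₀

end Main

section Apply

open scoped Pointwise

variable {G : Type u} [Group G] [Fintype G]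

/-- For a TI Sylow subgroup `P` and `H ≥ N_G(P)`, no nontrivial element of `P` lies in a
conjugate `g H g⁻¹` with `g ∉ H`. -/
theorem ti_free {p : ℕ} [Fact p.Prime] (P : Sylow p G)
    (hTI : ∀ g : G, g ∉ Subgroup.normalizer ((P : Subgroup G) : Set G) →
      (P : Subgroup G) ⊓ (MulAut.conj g • (P : Subgroup G)) = ⊥)
    (H : Subgroup G) (hH : Subgroup.normalizer ((P : Subgroup G) : Set G) ≤ H)
    (g : G) (hg : g ∉ H) (x : G) (hx : x ∈ (P : Subgroup G)) (hxg : g⁻¹ * x * g ∈ H) :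
    x = 1 := by
  classical
  by_contra hx1
  have hPH : (P : Subgroup G) ≤ H := Subgroup.le_normalizer.trans hH
  have hQ : IsPGroup p (((P : Subgroup G).map (MulAut.conj g⁻¹).toMonoidHom).subgroupOf H) :=
    (P.2.map _).comap_subtype
  obtain ⟨S, hS⟩ := hQ.exists_le_sylow
  obtain ⟨h, hh⟩ := MulAction.exists_smul_eq H (P.subtype hPH) S
  have hy : (⟨g⁻¹ * x * g, hxg⟩ : H) ∈ (S : Subgroup H) := by
    apply hS
    rw [Subgroup.mem_subgroupOf]
    refine ⟨x, hx, ?_⟩
    show MulAut.conj g⁻¹ x = g⁻¹ * x * g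
    rw [MulAut.conj_apply, inv_inv]
  rw [← hh, Sylow.coe_subgroup_smul, Subgroup.mem_pointwise_smul_iff_inv_smul_mem,
    Sylow.coe_subtype, Subgroup.mem_subgroupOf] at hy
  have hy' : (h : G)⁻¹ * (g⁻¹ * x * g) * (h : G) ∈ (P : Subgroup G) := by
    have h1 : (((MulAut.conj h)⁻¹ • (⟨g⁻¹ * x * g, hxg⟩ : H) : H) : G) =
        (h : G)⁻¹ * (g⁻¹ * x * g) * (h : G) := by
      rw [MulAut.smul_def, MulAut.conj_inv_apply]
      rfl
    rw [← h1]
    exact hy
  have hgh : g * (h : G) ∈ Subgroup.normalizer ((P : Subgroup G) : Set G) := by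
    by_contra hn
    have h1 := hTI _ hn
    have h2 : x ∈ (P : Subgroup G) ⊓ (MulAut.conj (g * (h : G)) • (P : Subgroup G)) := by
      refine Subgroup.mem_inf.mpr ⟨hx, ?_⟩
      rw [Subgroup.mem_pointwise_smul_iff_inv_smul_mem, MulAut.smul_def, MulAut.conj_inv_apply]
      have h3 : (g * (h : G))⁻¹ * x * (g * (h : G)) = (h : G)⁻¹ * (g⁻¹ * x * g) * (h : G) := by
        group
      rw [h3]
      exact hy'
    rw [h1, Subgroup.mem_bot] at h2
    exact hx1 h2
  apply hg
  have h4 := H.mul_mem (hH hgh) (H.inv_mem h.2)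
  rwa [mul_inv_cancel_right] at h4

/-- `τ` at a coset representative, for an `H`-fixed vector. -/
theorem out_apply_of_fixed {W : Type*} [AddCommGroup W] [Module ℂ W] (τ : Representation ℂ G W)
    (H : Subgroup G) (w : W) (hw : ∀ h ∈ H, τ h w = w) (a : G) :
    τ ((QuotientGroup.mk a : G ⧸ H).out) w = τ a w := by
  obtain ⟨h, hh⟩ := QuotientGroup.mk_out_eq_mul H a
  rw [hh, map_mul, Module.End.mul_apply, hw h h.2]

/-- For a TI Sylow subgroup `P`, `H ≥ N_G(P)` and a representation of degree `n` with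
`n² ≤ |P|`: an endomorphism commuting with `H` commutes with `G`. -/
theorem comm_of_comm {p : ℕ} [Fact p.Prime] (P : Sylow p G)
    (hTI : ∀ g : G, g ∉ Subgroup.normalizer ((P : Subgroup G) : Set G) →
      (P : Subgroup G) ⊓ (MulAut.conj g • (P : Subgroup G)) = ⊥)
    (H : Subgroup G) (hH : Subgroup.normalizer ((P : Subgroup G) : Set G) ≤ H)
    {n : ℕ} (ρ : Representation ℂ G (Fin n → ℂ)) (hdeg : n ^ 2 ≤ Nat.card (P : Subgroup G))
    (A : (Fin n → ℂ) →ₗ[ℂ] (Fin n → ℂ)) (hA : ∀ h ∈ H, A ∘ₗ ρ h = ρ h ∘ₗ A) (g : G) :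
    A ∘ₗ ρ g = ρ g ∘ₗ A := by
  classical
  rcases Nat.eq_zero_or_pos n with rfl | hn
  · apply LinearMap.ext
    intro x
    exact Subsingleton.elim _ _
  letI : Fintype (G ⧸ H) := Fintype.ofFinite _
  letI : Fintype (P : Subgroup G) := Fintype.ofFinite _
  obtain ⟨τ, hτ⟩ : ∃ τ : Representation ℂ G ((Fin n → ℂ) →ₗ[ℂ] (Fin n → ℂ)),
      τ = Representation.linHom ρ ρ := ⟨_, rfl⟩
  have hτapp : ∀ (g : G) (B : (Fin n → ℂ) →ₗ[ℂ] (Fin n → ℂ)), τ g B = ρ g ∘ₗ B ∘ₗ ρ g⁻¹ := by
    intro g B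
    rw [hτ, Representation.linHom_apply]
  have hρinv : ∀ g : G, ρ g⁻¹ ∘ₗ ρ g = LinearMap.id := fun g => by
    rw [← Module.End.mul_eq_comp, ← map_mul, inv_mul_cancel, map_one]
    rfl
  have hρinv' : ∀ g : G, ρ g ∘ₗ ρ g⁻¹ = LinearMap.id := fun g => by
    rw [← Module.End.mul_eq_comp, ← map_mul, mul_inv_cancel, map_one]
    rfl
  have hτA : ∀ h ∈ H, τ h A = A := by
    intro h hh
    rw [hτapp, ← LinearMap.comp_assoc, ← hA h hh, LinearMap.comp_assoc, hρinv', LinearMap.comp_id]
  obtain ⟨A₀, hA₀⟩ : ∃ A₀ : (Fin n → ℂ) →ₗ[ℂ] (Fin n → ℂ),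
      A₀ = (Fintype.card (G ⧸ H) : ℂ)⁻¹ • ∑ q : G ⧸ H, τ q.out A := ⟨_, rfl⟩
  have hcard : (Fintype.card (G ⧸ H) : ℂ) ≠ 0 := by
    exact_mod_cast Fintype.card_ne_zero
  have hFA : ∀ (g : G) (q : G ⧸ H), τ (g • q).out A = τ g (τ q.out A) := by
    intro g q
    induction q using QuotientGroup.induction_on with
    | H a =>
      rw [MulAction.Quotient.smul_mk, out_apply_of_fixed τ H A hτA,
        out_apply_of_fixed τ H A hτA, smul_eq_mul, map_mul]
      rfl
  have hτA₀ : ∀ g : G, τ g A₀ = A₀ := by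
    intro g
    rw [hA₀, map_smul, map_sum]
    congr 1
    rw [← Equiv.sum_comp (MulAction.toPerm g) (fun q : G ⧸ H => τ q.out A)]
    exact Finset.sum_congr rfl fun q _ => (hFA g q).symm
  have hw'fix : ∀ h ∈ H, τ h (A - A₀) = A - A₀ := fun h hh => by
    rw [map_sub, hτA h hh, hτA₀]
  have hf : ∀ (g : G) (q : G ⧸ H), τ (g • q).out (A - A₀) = τ g (τ q.out (A - A₀)) := by
    intro g q
    rw [map_sub, map_sub, hτA₀, hτA₀, map_sub, hτA₀, hFA]
  have hsum : ∑ q : G ⧸ H, τ q.out (A - A₀) = 0 := by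
    simp only [map_sub, hτA₀, Finset.sum_sub_distrib, Finset.sum_const, Finset.card_univ]
    rw [← Nat.cast_smul_eq_nsmul ℂ]
    conv_lhs => rw [hA₀]
    rw [smul_smul, mul_inv_cancel₀ hcard, one_smul, sub_self]
  have htr : ∀ (g : G) (B : (Fin n → ℂ) →ₗ[ℂ] (Fin n → ℂ)),
      LinearMap.trace ℂ (Fin n → ℂ) (τ g B) = LinearMap.trace ℂ (Fin n → ℂ) B := by
    intro g B
    rw [hτapp, LinearMap.trace_comp_comm', LinearMap.comp_assoc, hρinv, LinearMap.comp_id]
  have htrA₀ : LinearMap.trace ℂ (Fin n → ℂ) A₀ = LinearMap.trace ℂ (Fin n → ℂ) A := by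
    rw [hA₀, map_smul, map_sum]
    simp only [htr, Finset.sum_const, Finset.card_univ, smul_eq_mul, nsmul_eq_mul]
    rw [← mul_assoc, inv_mul_cancel₀ hcard, one_mul]
  have hdim : Module.finrank ℂ (Submodule.span ℂ
      (Set.range fun q : G ⧸ H => τ q.out (A - A₀))) < Nat.card (P : Subgroup G) := by
    have hle : Submodule.span ℂ (Set.range fun q : G ⧸ H => τ q.out (A - A₀)) ≤
        LinearMap.ker (LinearMap.trace ℂ (Fin n → ℂ)) := by
      rw [Submodule.span_le]
      rintro _ ⟨q, rfl⟩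
      show LinearMap.trace ℂ (Fin n → ℂ) (τ q.out (A - A₀)) = 0
      rw [htr, map_sub, htrA₀, sub_self]
    have hker : LinearMap.ker (LinearMap.trace ℂ (Fin n → ℂ)) ≠ ⊤ := by
      intro h
      have h1 : (1 : Module.End ℂ (Fin n → ℂ)) ∈ LinearMap.ker (LinearMap.trace ℂ (Fin n → ℂ)) :=
        h ▸ Submodule.mem_top
      rw [LinearMap.mem_ker, LinearMap.trace_one, Module.finrank_fin_fun] at h1
      exact hn.ne' (by exact_mod_cast h1)
    have h1 := Submodule.finrank_mono hle
    have h2 := Submodule.finrank_lt hker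
    have h3 : Module.finrank ℂ ((Fin n → ℂ) →ₗ[ℂ] (Fin n → ℂ)) = n ^ 2 := by
      rw [Module.finrank_linearMap, Module.finrank_fin_fun, pow_two]
    omega
  have hfix : ∀ x ∈ (P : Subgroup G), x • (QuotientGroup.mk 1 : G ⧸ H) = QuotientGroup.mk 1 := by
    intro x hx
    rw [MulAction.Quotient.smul_mk, smul_eq_mul, mul_one, QuotientGroup.eq, mul_one]
    exact H.inv_mem (Subgroup.le_normalizer.trans hH hx)
  have hfree : ∀ x ∈ (P : Subgroup G), ∀ q : G ⧸ H, q ≠ QuotientGroup.mk 1 → x • q = q →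
      x = 1 := by
    intro x hx q
    induction q using QuotientGroup.induction_on with
    | H a =>
      intro hq hxq
      have ha : a ∉ H := by
        intro ha
        apply hq
        rw [QuotientGroup.eq, mul_one]
        exact H.inv_mem ha
      rw [MulAction.Quotient.smul_mk, smul_eq_mul, QuotientGroup.eq] at hxq
      have h1 : a⁻¹ * x⁻¹ * a ∈ H := by
        have h2 : (x * a)⁻¹ * a = a⁻¹ * x⁻¹ * a := by group
        rw [← h2]
        exact hxq
      have h3 := ti_free P hTI H hH a ha x⁻¹ ((P : Subgroup G).inv_mem hx) h1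
      exact inv_eq_one.mp h3
  have htrans : ∀ q : G ⧸ H, ∃ g : G, g • (QuotientGroup.mk 1 : G ⧸ H) = q := by
    intro q
    induction q using QuotientGroup.induction_on with
    | H a => exact ⟨a, by rw [MulAction.Quotient.smul_mk, smul_eq_mul, mul_one]⟩
  have hzero := ti_fixed_zero (P : Subgroup G) P.2 (X := G ⧸ H) (QuotientGroup.mk 1 : G ⧸ H)
    hfix hfree htrans τ (fun q => τ q.out (A - A₀)) hf hsum hdim
  have hzero' : τ ((QuotientGroup.mk 1 : G ⧸ H).out) (A - A₀) = 0 := hzero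
  rw [out_apply_of_fixed τ H _ hw'fix, map_one] at hzero'
  have hAA₀ : A = A₀ := sub_eq_zero.mp hzero'
  have h5 := hτA₀ g
  rw [← hAA₀, hτapp] at h5
  calc A ∘ₗ ρ g = (ρ g ∘ₗ A ∘ₗ ρ g⁻¹) ∘ₗ ρ g := by rw [h5]
    _ = ρ g ∘ₗ A := by
      rw [LinearMap.comp_assoc, LinearMap.comp_assoc, hρinv, LinearMap.comp_id]

/-- Restriction of a representation to a subgroup. -/
def tiRes {n : ℕ} (ρ : Representation ℂ G (Fin n → ℂ)) (H : Subgroup G) :
    Representation ℂ H (Fin n → ℂ) := MonoidHom.comp ρ H.subtype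

theorem tiRes_apply {n : ℕ} (ρ : Representation ℂ G (Fin n → ℂ)) (H : Subgroup G) (h : H) :
    tiRes ρ H h = ρ (h : G) := rfl

/-- **Norm equality**: for a TI Sylow subgroup `P`, `H ≥ N_G(P)` and a character of degree `n`
with `n² ≤ |P|`, the norm of the character equals the norm of its restriction to `H`. -/
theorem classInner_restrict_of_TI {p : ℕ} [Fact p.Prime] (P : Sylow p G)
    (hTI : ∀ g : G, g ∉ Subgroup.normalizer ((P : Subgroup G) : Set G) →
      (P : Subgroup G) ⊓ (MulAut.conj g • (P : Subgroup G)) = ⊥)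
    (H : Subgroup G) [Fintype H] (hH : Subgroup.normalizer ((P : Subgroup G) : Set G) ≤ H)
    {n : ℕ} (ρ : Representation ℂ G (Fin n → ℂ)) (hdeg : n ^ 2 ≤ Nat.card (P : Subgroup G)) :
    classInner ρ.character ρ.character =
      classInner (fun h : H => ρ.character h) (fun h : H => ρ.character h) := by
  have hchar : (fun h : H => ρ.character h) = (tiRes ρ H).character := rfl
  rw [hchar, classInner_character ρ ρ, classInner_character (tiRes ρ H) (tiRes ρ H)]
  congr 1
  let res : Representation.IntertwiningMap ρ ρ →ₗ[ℂ]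
      Representation.IntertwiningMap (tiRes ρ H) (tiRes ρ H) :=
    { toFun := fun f => ⟨f.toLinearMap, fun h => f.isIntertwining' h⟩
      map_add' := fun f g => rfl
      map_smul' := fun c f => rfl }
  have hinj : Function.Injective res := by
    intro f g hfg
    apply Representation.IntertwiningMap.ext
    exact congrArg
      (fun k : Representation.IntertwiningMap (tiRes ρ H) (tiRes ρ H) => k.toLinearMap) hfg
  have hsurj : Function.Surjective res := by
    intro f
    exact ⟨⟨f.toLinearMap, fun g => comm_of_comm P hTI H hH ρ hdeg f.toLinearMap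
      (fun h hh => f.isIntertwining' ⟨h, hh⟩) g⟩, rfl⟩
  exact (LinearEquiv.ofBijective res ⟨hinj, hsurj⟩).finrank_eq

end Apply

end Cfsg.Agent.H4
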