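import Mathlib
import Cfsg.Prelude.Def_Characters
import Cfsg.Agent.H4.Brauer

set_option autoImplicit false
set_option linter.unusedSectionVars false
set_option linter.style.haveILetI false

open Cfsg
open scoped ComplexConjugate

namespace Cfsg.Agent.H4

universe u

section PRegular

variable {G : Type u} [Group G]

/-- In a finite group with a normal subgroup `Q` of order prime to `p` and index a power of `p`,
the elements of order prime to `p` are exactly the elements of `Q`. -/
theorem dvd_orderOf_iff_not_mem [Finite G] {p : ℕ} (hp : p.Prime) (Q : Subgroup G) [Q.Normal]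
    (hQ : (Nat.card Q).Coprime p) {b : ℕ} (hb : Q.index = p ^ b) (e : G) :
    p ∣ orderOf e ↔ e ∉ Q := by
  constructor
  · intro h he
    have h1 : orderOf e ∣ Nat.card Q := by
      have := orderOf_dvd_natCard (⟨e, he⟩ : Q)
      rwa [Subgroup.orderOf_mk] at this
    exact hp.one_lt.ne' (Nat.Coprime.eq_one_of_dvd hQ.symm (h.trans h1))
  · intro he
    by_contra h
    apply he
    have h1 : orderOf (QuotientGroup.mk' Q e) ∣ orderOf e := orderOf_map_dvd _ e
    have h2 : orderOf (QuotientGroup.mk' Q e) ∣ p ^ b := by
      rw [← hb, Subgroup.index_eq_card]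
      exact orderOf_dvd_natCard _
    have hc : (orderOf e).Coprime (p ^ b) :=
      Nat.Coprime.pow_right _ ((Nat.Prime.coprime_iff_not_dvd hp).mpr h).symm
    have h3 : orderOf (QuotientGroup.mk' Q e) = 1 := Nat.eq_one_of_dvd_coprimes hc h1 h2
    rw [orderOf_eq_one_iff] at h3
    exact (QuotientGroup.eq_one_iff e).mp h3

/-- An elementary group has a normal `p`-complement for every prime `p`. -/
theorem exists_normal_p_complement_of_elementary {E : Type u} [Group E] [Finite E] {p q : ℕ}
    (hp : p.Prime) (hq : q.Prime) (hE : IsElementary q E) :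
    ∃ Q : Subgroup E, Q.Normal ∧ (Nat.card Q).Coprime p ∧ ∃ b : ℕ, Q.index = p ^ b := by
  obtain ⟨x, hx, hxq, k, hk⟩ := hE
  have hzc : Subgroup.zpowers x ≤ Subgroup.center E := Subgroup.zpowers_le.mpr hx
  haveI hzn : (Subgroup.zpowers x).Normal := by
    constructor
    intro n hn g
    have hcomm := Subgroup.mem_center_iff.mp (hzc hn) g
    have : g * n * g⁻¹ = n := by rw [hcomm, mul_inv_cancel_right]
    rw [this]; exact hn
  by_cases hpq : p = q
  · subst hpq
    refine ⟨Subgroup.zpowers x, hzn, ?_, k, hk⟩
    rw [Nat.card_zpowers]; exact hxq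
  · haveI : Fact p.Prime := ⟨hp⟩
    obtain P : Sylow p E := default
    have hPc : (P : Subgroup E) ≤ Subgroup.center E := by
      intro g hg
      apply hzc
      have h1 : orderOf (QuotientGroup.mk' (Subgroup.zpowers x) g) ∣ q ^ k := by
        rw [← hk, Subgroup.index_eq_card]
        exact orderOf_dvd_natCard _
      obtain ⟨j, hj⟩ := (IsPGroup.iff_orderOf.mp P.2) ⟨g, hg⟩
      rw [Subgroup.orderOf_mk] at hj
      have h2 : orderOf (QuotientGroup.mk' (Subgroup.zpowers x) g) ∣ p ^ j := by
        rw [← hj]; exact orderOf_map_dvd _ g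
      have hc : (p ^ j).Coprime (q ^ k) :=
        Nat.Coprime.pow _ _ ((Nat.coprime_primes hp hq).mpr hpq)
      have h3 : orderOf (QuotientGroup.mk' (Subgroup.zpowers x) g) = 1 :=
        Nat.eq_one_of_dvd_coprimes hc h2 h1
      rw [orderOf_eq_one_iff] at h3
      exact (QuotientGroup.eq_one_iff g).mp h3
    have hP : Subgroup.normalizer (P : Set E) ≤ Subgroup.centralizer (P : Set E) := by
      intro g _
      rw [Subgroup.mem_centralizer_iff]
      intro h hh
      exact (Subgroup.mem_center_iff.mp (hPc hh) g).symm
    have hc := MonoidHom.ker_transferSylow_isComplement' P hP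
    refine ⟨(MonoidHom.transferSylow P hP).ker, inferInstance, ?_, ?_⟩
    · have h1 : Nat.card (MonoidHom.transferSylow P hP).ker = (P : Subgroup E).index :=
        hc.index_eq_card.symm
      rw [h1]
      exact ((Nat.Prime.coprime_iff_not_dvd hp).mpr P.not_dvd_index).symm
    · obtain ⟨n, hn⟩ := (IsPGroup.iff_card).mp P.2
      exact ⟨n, by rw [hc.symm.index_eq_card]; exact hn⟩

open Classical in
/-- The function induced from the trivial character of a normal subgroup. -/
theorem indFun_one_of_normal [Fintype G] (Q : Subgroup G) [hQ : Q.Normal] :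
    indFun Q (fun _ => (1 : ℂ)) = fun g => if g ∈ Q then (Q.index : ℂ) else 0 := by
  classical
  funext g
  rw [indFun_apply]
  have hQc : (Nat.card Q : ℂ) ≠ 0 := (neZero_card_complex Q).out
  by_cases hg : g ∈ Q
  · have : ∀ x : G, extendByZero Q (fun _ => (1 : ℂ)) (x⁻¹ * g * x) = 1 := by
      intro x
      have hm : x⁻¹ * g * x ∈ Q := by simpa using hQ.conj_mem g hg x⁻¹
      rw [extendByZero_of_mem _ _ hm]
    rw [Finset.sum_congr rfl fun x _ => this x, Finset.sum_const, Finset.card_univ, nsmul_eq_mul,
      ← Nat.card_eq_fintype_card, if_pos hg, mul_one, ← Subgroup.card_mul_index Q]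
    push_cast
    field_simp
  · have : ∀ x : G, extendByZero Q (fun _ => (1 : ℂ)) (x⁻¹ * g * x) = 0 := by
      intro x
      have hm : x⁻¹ * g * x ∉ Q := by
        intro hm
        apply hg
        have := hQ.conj_mem _ hm x
        simpa [mul_assoc] using this
      rw [extendByZero_of_not_mem _ _ hm]
    rw [Finset.sum_congr rfl fun x _ => this x, Finset.sum_const_zero, mul_zero, if_neg hg]

/-- The function `p ^ a` on `p`-regular elements and `0` elsewhere is a generalized character. -/
theorem isGeneralizedCharacter_pRegular [Finite G] (p : ℕ) (hp : p.Prime) :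
    IsGeneralizedCharacter G
      (fun x : G => if p ∣ orderOf x then 0 else ((p ^ (Nat.card G).factorization p : ℕ) : ℂ)) := by
  classical
  apply brauer_characterization
  · intro g h
    have : orderOf (h * g * h⁻¹) = orderOf g := by
      have := orderOf_injective (MulAut.conj h).toMonoidHom (MulAut.conj h).injective g
      simpa using this
    simp only [this]
  · intro E q hq hE
    haveI : Fintype E := Fintype.ofFinite E
    obtain ⟨Q, hQn, hQc, b, hb⟩ := exists_normal_p_complement_of_elementary hp hq hE
    haveI := hQn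
    have hba : b ≤ (Nat.card G).factorization p := by
      have h1 : p ^ b ∣ Nat.card G := by
        rw [← hb]
        exact (Subgroup.index_dvd_card Q).trans (Subgroup.card_subgroup_dvd_card E)
      exact (Nat.Prime.pow_dvd_iff_le_factorization hp Nat.card_pos.ne').mp h1
    have hone : IsCharacter E (fun _ : E => (1 : ℂ)) :=
      isCharacter_of_isIrrCharacter isIrrCharacter_one
    have hQ1 : IsCharacter Q (fun _ : Q => (1 : ℂ)) :=
      isCharacter_of_isIrrCharacter isIrrCharacter_one
    have hind := isCharacter_indFun Q _ hQ1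
    have hch := isCharacter_nsmul (p ^ ((Nat.card G).factorization p - b)) hind
    refine ⟨_, 0, hch, isCharacter_zero, ?_⟩
    rw [sub_zero, indFun_one_of_normal]
    funext e
    rw [Pi.smul_apply, Subgroup.orderOf_coe]
    by_cases he : e ∈ Q
    · rw [if_neg ((dvd_orderOf_iff_not_mem hp Q hQc hb e).not.mpr (not_not.mpr he)), if_pos he, hb,
        smul_eq_mul, ← Nat.cast_mul, ← pow_add, Nat.sub_add_cancel hba]
    · rw [if_pos ((dvd_orderOf_iff_not_mem hp Q hQc hb e).mpr he), if_neg he, smul_zero]

/-- Multiplying a character by the `p`-regular indicator (times the `p`-part of the group order)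
gives a generalized character. -/
theorem isGeneralizedCharacter_pRegular_mul [Finite G] (p : ℕ) (hp : p.Prime) {χ : G → ℂ}
    (hχ : IsCharacter G χ) :
    IsGeneralizedCharacter G
      (fun x : G => if p ∣ orderOf x then 0
        else ((p ^ (Nat.card G).factorization p : ℕ) : ℂ) * χ x) := by
  obtain ⟨a, b, ha, hb, hab⟩ := isGeneralizedCharacter_pRegular (G := G) p hp
  refine ⟨a * χ, b * χ, isCharacter_mul ha hχ, isCharacter_mul hb hχ, ?_⟩
  funext x
  have := congrFun hab x
  simp only [Pi.sub_apply, Pi.mul_apply] at this ⊢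
  rw [← sub_mul, ← this]
  split_ifs <;> simp

end PRegular

end Cfsg.Agent.H4
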