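import Mathlib
import Cfsg.Prelude.Def_Characters
import Cfsg.Prelude.Def_Transfer

/-!
# S3805 team project (lead: helper4): definitions and EXACT piece statements

`G` finite, `T` a Sylow 3-subgroup, elementary abelian of order 9, `C_G(T) = T`,
`N = N_G(T)`, `N/T` Klein four, `C_G(t) ≤ N` for all `t ∈ T#`.  Goal: `N = G`.

Normal form (`Cfg`): `T = ⟨a⟩ × ⟨b⟩`, commuting involutions `u, v ∈ N`, `u` centralizes `a` and
inverts `b`, `v` inverts `a` and centralizes `b`; `N = T·{1,u,v,uv} ≅ S₃ × S₃`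
(`A₁ = ⟨a,v⟩`, `A₂ = ⟨b,u⟩`).  The configuration is symmetric under `(a,b,u,v) ↦ (b,a,v,u)`.

`S₁ = a^{±1}·A₂` (12 elements of orders 3 and 6) is a TI-set with normalizer `N`;
`P₁ = 3·1_{S₁^G}` is a generalized character of norm 3, `P₁ = 1 + χ₁ - χ₂`.
-/

set_option autoImplicit false

namespace Cfsg.Agent.H4.Tn

open Subgroup

universe u

/-- The `S₃ × S₃` configuration. -/
structure Cfg (G : Type u) [Group G] (T : Subgroup G) (a b u v : G) : Prop where
  syl : ∃ S : Sylow 3 G, (S : Subgroup G) = T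
  cardT : Nat.card T = 9
  comm : ∀ x ∈ T, ∀ y ∈ T, x * y = y * x
  aT : a ∈ T
  bT : b ∈ T
  a3 : a ^ 3 = 1
  b3 : b ^ 3 = 1
  Telts : ∀ t ∈ T, ∃ i j : ℕ, t = a ^ i * b ^ j
  indep : ∀ i j : ℕ, a ^ i * b ^ j = 1 → 3 ∣ i ∧ 3 ∣ j
  u2 : u * u = 1
  v2 : v * v = 1
  uv : u * v = v * u
  ua : u * a = a * u
  ub : u * b = b⁻¹ * u
  va : v * a = a⁻¹ * v
  vb : v * b = b * v
  uN : u ∈ normalizer (T : Set G)
  vN : v ∈ normalizer (T : Set G)
  Nelts : ∀ g ∈ normalizer (T : Set G),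
    ∃ t ∈ T, g = t ∨ g = t * u ∨ g = t * v ∨ g = t * (u * v)
  cardN : Nat.card (normalizer (T : Set G)) = 36
  loc : ∀ t ∈ T, t ≠ 1 → centralizer ({t} : Set G) ≤ normalizer (T : Set G)

/-- `S₁ = a^{±1}·⟨b,u⟩`. -/
def S1 {G : Type u} [Group G] (a b u : G) : Set G :=
  {g | ∃ w ∈ closure ({b, u} : Set G), g = a * w ∨ g = a⁻¹ * w}

/-- The union of the `G`-conjugates of `S₁`. -/
def S1G {G : Type u} [Group G] (a b u : G) : Set G := {g | ∃ x : G, x * g * x⁻¹ ∈ S1 a b u}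

/-- `P₁ = 3·1_{S₁^G}`. -/
noncomputable def P1 {G : Type u} [Group G] (a b u : G) : G → ℂ :=
  (S1G a b u).indicator (fun _ => 3)

/-- `P₁ = 1 + χ₁ - χ₂`. -/
def IsDec {G : Type u} [Group G] (a b u : G) (χ₁ χ₂ : IrrCharacter G) : Prop :=
  ∀ g : G, 1 + χ₁.1 g - χ₂.1 g = P1 a b u g

/-! ## Structure pieces -/

/-- COMPL: a Klein four complement to `T` in `N` (Schur–Zassenhaus). -/
def StCompl : Prop := ∀ (G : Type u) [Group G] [Finite G] (T : Sylow 3 G),
    Nat.card T = 9 →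
    ∀ [((T : Subgroup G).subgroupOf (normalizer ((T : Subgroup G) : Set G))).Normal],
    IsKleinFour (↥(normalizer ((T : Subgroup G) : Set G)) ⧸
      (T : Subgroup G).subgroupOf (normalizer ((T : Subgroup G) : Set G))) →
    ∃ x y : G, x ∈ normalizer ((T : Subgroup G) : Set G) ∧
      y ∈ normalizer ((T : Subgroup G) : Set G) ∧ x * x = 1 ∧ y * y = 1 ∧ x * y = y * x ∧
      x ∉ (T : Subgroup G) ∧ y ∉ (T : Subgroup G) ∧ x * y ∉ (T : Subgroup G) ∧
      ∀ g ∈ normalizer ((T : Subgroup G) : Set G),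
        ∃ t ∈ (T : Subgroup G), g = t ∨ g = t * x ∨ g = t * y ∨ g = t * (x * y)

/-- NORMAL: the normal form, from a Klein four complement `{1,x,y,xy}` acting faithfully. -/
def StNormal : Prop := ∀ (G : Type u) [Group G] [Finite G] (T : Sylow 3 G) (x y : G),
    Cfsg.IsElementaryAbelian 3 (T : Subgroup G) → Nat.card T = 9 →
    centralizer ((T : Subgroup G) : Set G) = T →
    (∀ t ∈ (T : Subgroup G), t ≠ 1 →
      centralizer ({t} : Set G) ≤ normalizer ((T : Subgroup G) : Set G)) →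
    x ∈ normalizer ((T : Subgroup G) : Set G) → y ∈ normalizer ((T : Subgroup G) : Set G) →
    x * x = 1 → y * y = 1 → x * y = y * x →
    x ∉ (T : Subgroup G) → y ∉ (T : Subgroup G) → x * y ∉ (T : Subgroup G) →
    (∀ g ∈ normalizer ((T : Subgroup G) : Set G),
        ∃ t ∈ (T : Subgroup G), g = t ∨ g = t * x ∨ g = t * y ∨ g = t * (x * y)) →
    ∃ a b u v : G, Cfg G (T : Subgroup G) a b u v

/-- STRUCT: the hypotheses of S3805 give the configuration. -/
def StStruct : Prop := ∀ (G : Type u) [Group G] [Finite G] (T : Sylow 3 G),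
    Cfsg.IsElementaryAbelian 3 (T : Subgroup G) → Nat.card T = 9 →
    centralizer ((T : Subgroup G) : Set G) = T →
    ∀ [((T : Subgroup G).subgroupOf (normalizer ((T : Subgroup G) : Set G))).Normal],
    IsKleinFour (↥(normalizer ((T : Subgroup G) : Set G)) ⧸
      (T : Subgroup G).subgroupOf (normalizer ((T : Subgroup G) : Set G))) →
    (∀ t ∈ (T : Subgroup G), t ≠ 1 →
      centralizer ({t} : Set G) ≤ normalizer ((T : Subgroup G) : Set G)) →
    ∃ a b u v : G, Cfg G (T : Subgroup G) a b u v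

/-- SWAP: the symmetry `(a,b,u,v) ↦ (b,a,v,u)`. -/
def StSwap : Prop := ∀ (G : Type u) [Group G] [Finite G] (T : Subgroup G) (a b u v : G),
    Cfg G T a b u v → Cfg G T b a v u

/-- TIT: `T` is a TI-subgroup with normalizer `N`. -/
def StTIT : Prop := ∀ (G : Type u) [Group G] [Finite G] (T : Subgroup G) (a b u v : G),
    Cfg G T a b u v → ∀ t ∈ T, t ≠ 1 → ∀ g : G, g * t * g⁻¹ ∈ T → g ∈ normalizer (T : Set G)

/-- S1: basic facts on `S₁`. -/
def StS1 : Prop := ∀ (G : Type u) [Group G] [Finite G] (T : Subgroup G) (a b u v : G),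
    Cfg G T a b u v →
    (∀ s ∈ S1 a b u, s ∈ normalizer (T : Set G)) ∧
    (∀ n ∈ normalizer (T : Set G), ∀ s ∈ S1 a b u, n * s * n⁻¹ ∈ S1 a b u) ∧
    (∀ s ∈ S1 a b u, s⁻¹ ∈ S1 a b u) ∧
    (∀ s ∈ S1 a b u, s * s ≠ 1) ∧
    Nat.card (S1 a b u) = 12

/-- TI: `S₁` is a TI-set with normalizer `N`. -/
def StTI : Prop := ∀ (G : Type u) [Group G] [Finite G] (T : Subgroup G) (a b u v : G),
    Cfg G T a b u v →
    ∀ s ∈ S1 a b u, ∀ x : G, x * s * x⁻¹ ∈ S1 a b u → x ∈ normalizer (T : Set G)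

/-- VALS: membership in `S₁^G`. -/
def StVals : Prop := ∀ (G : Type u) [Group G] [Finite G] (T : Subgroup G) (a b u v : G),
    Cfg G T a b u v →
    a ∈ S1G a b u ∧ a * b ∈ S1G a b u ∧ u * a ∈ S1G a b u ∧ b ∉ S1G a b u ∧
    ∀ x : G, x * x = 1 → x ∉ S1G a b u

/-- COUNT: `|S₁^G| = |G|/3`. -/
def StCount : Prop := ∀ (G : Type u) [Group G] [Finite G] (T : Subgroup G) (a b u v : G),
    Cfg G T a b u v → 3 * Nat.card (S1G a b u) = Nat.card G

/-- CA: the centralizer of `a` is `⟨a⟩ × ⟨b,u⟩`, of order 18. -/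
def StCa : Prop := ∀ (G : Type u) [Group G] [Finite G] (T : Subgroup G) (a b u v : G),
    Cfg G T a b u v →
    (∀ x ∈ centralizer ({a} : Set G), ∃ w ∈ closure ({b, u} : Set G),
      x = w ∨ x = a * w ∨ x = a⁻¹ * w) ∧
    (∀ w ∈ closure ({b, u} : Set G), w * a = a * w) ∧
    Nat.card (closure ({b, u} : Set G)) = 6 ∧
    Nat.card (centralizer ({a} : Set G)) = 18 ∧
    centralizer ({a} : Set G) ≤ normalizer (T : Set G) ∧
    (∀ n ∈ normalizer (T : Set G), n ∉ centralizer ({a} : Set G) → n * a * n⁻¹ = a⁻¹) ∧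
    (∀ n ∈ normalizer (T : Set G), ∀ w ∈ closure ({b, u} : Set G),
      n * w * n⁻¹ ∈ closure ({b, u} : Set G))

/-- LAM: a linear character `λ` of `C_G(a)` with `λ(a^i w) = ω^i` (`w ∈ ⟨b,u⟩`). -/
def StLam : Prop := ∀ (G : Type u) [Group G] [Finite G] (T : Subgroup G) (a b u v : G),
    Cfg G T a b u v →
    ∃ (l : centralizer ({a} : Set G) → ℂ) (ω : ℂ), ω ≠ 1 ∧ ω ^ 3 = 1 ∧
      IsCharacter (centralizer ({a} : Set G)) l ∧
      ∀ x : centralizer ({a} : Set G), ∀ w ∈ closure ({b, u} : Set G),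
        ((x : G) = w → l x = 1) ∧ ((x : G) = a * w → l x = ω) ∧
        ((x : G) = a⁻¹ * w → l x = ω ^ 2)

/-- GEN: `P₁` is a difference of two characters (`Ind_C^G 1 - Ind_C^G λ`, `C = C_G(a)`). -/
def StGen : Prop := ∀ (G : Type u) [Group G] [Finite G] (T : Subgroup G) (a b u v : G),
    Cfg G T a b u v →
    ∃ Φ Ψ : G → ℂ, IsCharacter G Φ ∧ IsCharacter G Ψ ∧ ∀ g : G, Φ g - Ψ g = P1 a b u g

/-- NORM3 (pure character theory): a generalized character of norm 3 containing the trivial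
character once and vanishing at 1 is `1 + χ₁ - χ₂`. -/
def StNorm3 : Prop := ∀ (G : Type u) [Group G] [Fintype G] (Φ Ψ : G → ℂ),
    IsCharacter G Φ → IsCharacter G Ψ →
    classInner (Φ - Ψ) (Φ - Ψ) = 3 → classInner (Φ - Ψ) (fun _ => 1) = 1 → Φ 1 = Ψ 1 →
    ∃ χ₁ χ₂ : IrrCharacter G, ∀ g : G, Φ g - Ψ g = 1 + χ₁.1 g - χ₂.1 g

/-- DECOMP: `P₁ = 1 + χ₁ - χ₂`. -/
def StDecomp : Prop := ∀ (G : Type u) [Group G] [Finite G] (T : Subgroup G) (a b u v : G),
    Cfg G T a b u v → ∃ χ₁ χ₂ : IrrCharacter G, IsDec a b u χ₁ χ₂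

/-! ## The involution formula -/

/-- PAIRSLOC: pairs of conjugates of an involution `x` with product in `S₁`. -/
def StPairsLoc : Prop := ∀ (G : Type u) [Group G] [Finite G] (T : Subgroup G) (a b u v : G),
    Cfg G T a b u v → ∀ x : G, x * x = 1 →
    3 * Nat.card {p : G × G // IsConj x p.1 ∧ IsConj x p.2 ∧ p.1 * p.2 ∈ S1 a b u} =
      2 * Nat.card {y : G // IsConj x y ∧ y * a * y⁻¹ = a⁻¹} ^ 2

/-- PAIRSGLOB: pairs of conjugates of `x` with product in `S₁^G`. -/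
def StPairsGlob : Prop := ∀ (G : Type u) [Group G] [Finite G] (T : Subgroup G) (a b u v : G),
    Cfg G T a b u v → ∀ x : G,
    36 * Nat.card {p : G × G // IsConj x p.1 ∧ IsConj x p.2 ∧ p.1 * p.2 ∈ S1G a b u} =
      Nat.card G *
        Nat.card {p : G × G // IsConj x p.1 ∧ IsConj x p.2 ∧ p.1 * p.2 ∈ S1 a b u}

/-- INV: the involution formula `18 k² (f - χ₁(x))² = f (f+1) |G| i_a(x)²`. -/
def StInv : Prop := ∀ (G : Type u) [Group G] [Finite G] (T : Subgroup G) (a b u v : G),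
    Cfg G T a b u v → ∀ χ₁ χ₂ : IrrCharacter G, IsDec a b u χ₁ χ₂ → ∀ x : G, x * x = 1 →
    18 * (Nat.card {y : G // IsConj x y} : ℂ) ^ 2 * (χ₁.1 1 - χ₁.1 x) ^ 2 =
      χ₁.1 1 * (χ₁.1 1 + 1) * (Nat.card G : ℂ) *
        (Nat.card {y : G // IsConj x y ∧ y * a * y⁻¹ = a⁻¹} : ℂ) ^ 2

/-! ## Fusion of involutions -/

/-- UV: `u` and `v` are not conjugate. -/
def StUV : Prop := ∀ (G : Type u) [Group G] [Finite G] (T : Subgroup G) (a b u v : G),
    Cfg G T a b u v → ¬ IsConj u v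

/-- INVA: an involution inverting `a` is conjugate to `v` or to `uv`. -/
def StInvA : Prop := ∀ (G : Type u) [Group G] [Finite G] (T : Subgroup G) (a b u v : G),
    Cfg G T a b u v → ∀ y : G, y * y = 1 → y * a * y⁻¹ = a⁻¹ → IsConj v y ∨ IsConj (u * v) y

/-- IA12: if `uv ~ v`, exactly 12 conjugates of `v` invert `a`. -/
def StIA12 : Prop := ∀ (G : Type u) [Group G] [Finite G] (T : Subgroup G) (a b u v : G),
    Cfg G T a b u v → IsConj (u * v) v →
    Nat.card {y : G // IsConj v y ∧ y * a * y⁻¹ = a⁻¹} = 12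

/-- IB9: if `uv ~ v` and `u ≁ v`, exactly 9 conjugates of `v` invert `b`. -/
def StIB9 : Prop := ∀ (G : Type u) [Group G] [Finite G] (T : Subgroup G) (a b u v : G),
    Cfg G T a b u v → IsConj (u * v) v → ¬ IsConj u v →
    Nat.card {y : G // IsConj v y ∧ y * b * y⁻¹ = b⁻¹} = 9

/-- CENT: centralizer orders (in the form used by column orthogonality). -/
def StCent : Prop := ∀ (G : Type u) [Group G] [Finite G] (T : Subgroup G) (a b u v : G),
    Cfg G T a b u v →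
    Nat.card {c : G // c * b * c⁻¹ = b} = 18 ∧
    Nat.card {c : G // c * (a * b) * c⁻¹ = a * b} = 9 ∧
    Nat.card {c : G // c * (u * a) * c⁻¹ = u * a} = 6

/-! ## Pure character theory / group theory / arithmetic -/

/-- RT3: values at a real element of order 3. -/
def StRT3 : Prop := ∀ (G : Type u) [Group G] [Finite G] (χ : G → ℂ), IsCharacter G χ →
    ∀ d g : G, d ^ 3 = 1 → g * d * g⁻¹ = d⁻¹ →
    ∃ n₀ n₁ : ℕ, χ 1 = (n₀ : ℂ) + 2 * n₁ ∧ χ d = (n₀ : ℂ) - n₁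

/-- RT2: values at an involution. -/
def StRT2 : Prop := ∀ (G : Type u) [Group G] [Finite G] (χ : G → ℂ), IsCharacter G χ →
    ∀ x : G, x * x = 1 → ∃ n₀ n₁ : ℕ, χ 1 = (n₀ : ℂ) + n₁ ∧ χ x = (n₀ : ℂ) - n₁

/-- TWIST: linear times irreducible is irreducible. -/
def StTwist : Prop := ∀ (G : Type u) [Group G] [Finite G] (l χ : IrrCharacter G), l.1 1 = 1 →
    ∃ ψ : IrrCharacter G, ∀ g : G, ψ.1 g = l.1 g * χ.1 g

/-- NT: the Pell-type arithmetic. -/
def StNT : Prop := ∀ e m : ℤ, 1 ≤ e → 8 * m ^ 2 = 9 * e * (e + 1) → 8 ≤ e ∧ e % 3 ≠ 1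

/-- FPF: a noncyclic group of order 9 and exponent 3 cannot act fixed-point-freely. -/
def StFpf : Prop := ∀ (G : Type u) [Group G] [Finite G] (Q T : Subgroup G),
    T ≤ normalizer (Q : Set G) → (Nat.card Q).Coprime 3 → Nat.card T = 9 →
    (∀ t ∈ T, t ^ 3 = 1) → (∀ x ∈ T, ∀ y ∈ T, x * y = y * x) →
    (∀ q ∈ Q, ∀ t ∈ T, t ≠ 1 → t * q = q * t → q = 1) → Q = ⊥

/-- FRATT: Frattini argument. -/
def StFratt : Prop := ∀ (G : Type u) [Group G] [Finite G] (T : Subgroup G) (a b u v : G),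
    Cfg G T a b u v → ∀ K : Subgroup G, K.Normal → T ≤ K → u ∈ K → ∀ g : G, g ∈ K ∨ g * v ∈ K

/-- FIN: a normal subgroup `K ≥ T` with `K ∩ N = T` forces `T ⊴ G`. -/
def StFin : Prop := ∀ (G : Type u) [Group G] [Finite G] (T : Subgroup G) (a b u v : G),
    Cfg G T a b u v → ∀ K : Subgroup G, K.Normal → T ≤ K → u ∉ K → v ∉ K → u * v ∉ K →
    normalizer (T : Set G) = ⊤

/-! ## Assemblies -/

/-- L1: if `u ∈ ker χ₁` then `χ₁` is linear and trivial on `T`. -/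
def StL1 : Prop := ∀ (G : Type u) [Group G] [Finite G] (T : Subgroup G) (a b u v : G),
    Cfg G T a b u v → ∀ χ₁ χ₂ : IrrCharacter G, IsDec a b u χ₁ χ₂ → χ₁.1 u = χ₁.1 1 →
    χ₁.1 1 = 1 ∧ χ₁.1 a = 1 ∧ χ₁.1 b = 1

/-- F0: no fusion among `u, v, uv`. -/
def StF0 : Prop := ∀ (G : Type u) [Group G] [Finite G] (T : Subgroup G) (a b u v : G),
    Cfg G T a b u v → ¬ IsConj u v → ¬ IsConj (u * v) u → ¬ IsConj (u * v) v →
    normalizer (T : Set G) = ⊤

/-- F2: the fusion `uv ~ v` is impossible. -/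
def StF2 : Prop := ∀ (G : Type u) [Group G] [Finite G] (T : Subgroup G) (a b u v : G),
    Cfg G T a b u v → ¬ IsConj u v → IsConj (u * v) v → False

/-- Final assembly. -/
theorem main (hStruct : StStruct.{u}) (hSwap : StSwap.{u}) (hUV : StUV.{u}) (hF0 : StF0.{u})
    (hF2 : StF2.{u}) {G : Type u} [Group G] [Finite G]
    (T : Sylow 3 G) (hT : Cfsg.IsElementaryAbelian 3 (T : Subgroup G)) (hcard : Nat.card T = 9)
    (hC : Subgroup.centralizer ((T : Subgroup G) : Set G) = T)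
    [hn : ((T : Subgroup G).subgroupOf (Subgroup.normalizer ((T : Subgroup G) : Set G))).Normal]
    (hK : IsKleinFour (↥(Subgroup.normalizer ((T : Subgroup G) : Set G)) ⧸
      (T : Subgroup G).subgroupOf (Subgroup.normalizer ((T : Subgroup G) : Set G))))
    (hloc : ∀ t ∈ (T : Subgroup G), t ≠ 1 →
      Subgroup.centralizer ({t} : Set G) ≤ Subgroup.normalizer ((T : Subgroup G) : Set G)) :
    Subgroup.normalizer ((T : Subgroup G) : Set G) = ⊤ := by
  obtain ⟨a, b, u, v, cfg⟩ := hStruct G T hT hcard hC hK hloc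
  have huv := hUV G _ a b u v cfg
  by_cases h2 : IsConj (u * v) v
  · exact (hF2 G _ a b u v cfg huv h2).elim
  by_cases h1 : IsConj (u * v) u
  · have cfg' := hSwap G _ a b u v cfg
    refine (hF2 G _ b a v u cfg' (fun h => huv h.symm) ?_).elim
    rw [← cfg.uv]; exact h1
  exact hF0 G _ a b u v cfg huv h1 h2

end Cfsg.Agent.H4.Tn
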