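import Mathlib

/-!
helper4: an irreducible module for an operator of prime order `r` over a finite field with `q`
elements (no fixed vectors) has dimension the order of `q` modulo `r`
(piece EL-IRR of helper42's S5949 project).
-/

set_option autoImplicit false

namespace Cfsg.Agent.H4.El

open Polynomial

theorem finrank_of_irreducible_pow_eq_one {F : Type*} [Field F] [Fintype F] {V : Type*}
    [AddCommGroup V] [Module F V] [FiniteDimensional F V] (T : Module.End F V) (r : ℕ)
    (hr : r.Prime) (hrF : (r : F) ≠ 0) (hT : T ^ r = 1) (hV : Nontrivial V)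
    (hfix : ∀ v, T v = v → v = 0)
    (hirr : ∀ U : Submodule F V, (∀ v ∈ U, T v ∈ U) → U = ⊥ ∨ U = ⊤) :
    Module.finrank F V = orderOf (Fintype.card F : ZMod r) := by
  classical
  have : Fact r.Prime := ⟨hr⟩
  obtain ⟨w, hw⟩ := exists_ne (0 : V)
  have hint : IsIntegral F T := Algebra.IsIntegral.isIntegral T
  have hμmonic : (minpoly F T).Monic := minpoly.monic hint
  have hμ0 : minpoly F T ≠ 0 := hμmonic.ne_zero
  have hK : ∀ g : F[X], ∀ v : V, v ≠ 0 → aeval T g v = 0 → aeval T g = 0 := by
    intro g v hv hgv
    have hinv : ∀ u ∈ LinearMap.ker (aeval T g), T u ∈ LinearMap.ker (aeval T g) := by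
      intro u hu
      rw [LinearMap.mem_ker] at hu ⊢
      have hc : aeval T g * T = T * aeval T g := by
        have h1 : aeval T (g * X) = aeval T (X * g) := by rw [mul_comm]
        rw [map_mul, map_mul, aeval_X] at h1
        exact h1
      show (aeval T g * T) u = 0
      rw [hc]
      show T (aeval T g u) = 0
      rw [hu, map_zero]
    rcases hirr _ hinv with h | h
    · exfalso
      apply hv
      have h1 : v ∈ LinearMap.ker (aeval T g) := LinearMap.mem_ker.2 hgv
      rw [h] at h1
      exact (Submodule.mem_bot F).1 h1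
    · exact LinearMap.ker_eq_top.1 h
  have hT1 : T ≠ 1 := by
    intro h
    apply hw
    apply hfix
    rw [h]
    rfl
  have hμirr : Irreducible (minpoly F T) := by
    rw [irreducible_iff]
    refine ⟨?_, ?_⟩
    · intro hu
      have h0 : (minpoly F T).natDegree = 0 := natDegree_eq_zero_of_isUnit hu
      have hpos : 0 < (minpoly F T).natDegree := minpoly.natDegree_pos hint
      omega
    · intro a b hab
      have h0 : aeval T a * aeval T b = 0 := by
        rw [← map_mul, ← hab]
        exact minpoly.aeval F T
      by_cases hb : aeval T b w = 0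
      · have hb0 : aeval T b = 0 := hK b w hw hb
        obtain ⟨c, hc⟩ := minpoly.dvd F T hb0
        left
        have h1 : minpoly F T * 1 = minpoly F T * (a * c) := by
          rw [mul_one]
          conv_lhs => rw [hab, hc]
          ring
        have h2 : 1 = a * c := mul_left_cancel₀ hμ0 h1
        exact IsUnit.of_mul_eq_one c h2.symm
      · have ha0 : aeval T a = 0 := by
          apply hK a (aeval T b w) hb
          show (aeval T a * aeval T b) w = 0
          rw [h0]
          rfl
        obtain ⟨c, hc⟩ := minpoly.dvd F T ha0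
        right
        have h1 : minpoly F T * 1 = minpoly F T * (b * c) := by
          rw [mul_one]
          conv_lhs => rw [hab, hc]
          ring
        have h2 : 1 = b * c := mul_left_cancel₀ hμ0 h1
        exact IsUnit.of_mul_eq_one c h2.symm
  have hdvd : minpoly F T ∣ cyclotomic r F := by
    have h1 : minpoly F T ∣ (X : F[X]) ^ r - 1 := by
      apply minpoly.dvd F T
      rw [map_sub, map_pow, aeval_X, map_one, hT, sub_self]
    rw [← cyclotomic_prime_mul_X_sub_one F r] at h1
    rcases hμirr.prime.dvd_or_dvd h1 with h | h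
    · exact h
    · exfalso
      obtain ⟨c, hc⟩ := h
      have h2 : aeval T ((X : F[X]) - 1) = 0 := by
        rw [hc, map_mul, minpoly.aeval, zero_mul]
      rw [map_sub, aeval_X, map_one] at h2
      exact hT1 (sub_eq_zero.1 h2)
  have hfin : Module.finrank F V = (minpoly F T).natDegree := by
    let Φ : F[X] →ₗ[F] V := (LinearMap.applyₗ w).comp (aeval T).toLinearMap
    have hΦ : ∀ g, Φ g = aeval T g w := fun g => rfl
    have hsurj : Function.Surjective Φ := by
      rw [← LinearMap.range_eq_top]
      have hinv : ∀ v ∈ LinearMap.range Φ, T v ∈ LinearMap.range Φ := by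
        rintro v ⟨g, rfl⟩
        refine ⟨X * g, ?_⟩
        rw [hΦ, hΦ, map_mul, aeval_X]
        rfl
      rcases hirr _ hinv with h | h
      · exfalso
        apply hw
        have h1 : w ∈ LinearMap.range Φ := ⟨1, by rw [hΦ, map_one]; rfl⟩
        rw [h] at h1
        exact (Submodule.mem_bot F).1 h1
      · exact h
    have hker : LinearMap.ker Φ =
        (Ideal.span {minpoly F T} : Ideal F[X]).restrictScalars F := by
      ext g
      rw [LinearMap.mem_ker, Submodule.restrictScalars_mem, Ideal.mem_span_singleton, hΦ]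
      constructor
      · intro h
        exact minpoly.dvd F T (hK g w hw h)
      · rintro ⟨c, rfl⟩
        rw [map_mul, minpoly.aeval, zero_mul]
        rfl
    have e1 : (F[X] ⧸ LinearMap.ker Φ) ≃ₗ[F] V := Φ.quotKerEquivOfSurjective hsurj
    have e2 : (F[X] ⧸ LinearMap.ker Φ) ≃ₗ[F]
        (F[X] ⧸ (Ideal.span {minpoly F T} : Ideal F[X]).restrictScalars F) :=
      Submodule.quotEquivOfEq _ _ hker
    have e3 : (F[X] ⧸ (Ideal.span {minpoly F T} : Ideal F[X]).restrictScalars F) ≃ₗ[F]
        (F[X] ⧸ (Ideal.span {minpoly F T} : Ideal F[X])) :=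
      Submodule.Quotient.restrictScalarsEquiv F _
    rw [← e1.finrank_eq, e2.finrank_eq, e3.finrank_eq]
    exact finrank_quotient_span_eq_natDegree
  obtain ⟨p, hp⟩ := CharP.exists F
  have := hp
  have : Fact p.Prime := ⟨CharP.char_is_prime F p⟩
  obtain ⟨f, -, hcard⟩ := FiniteField.card F p
  have hpr : p ≠ r := by
    intro h
    apply hrF
    rw [← h]
    exact CharP.cast_eq_zero F p
  have hcop : p.Coprime r := (Nat.coprime_primes (Fact.out : p.Prime) hr).2 hpr
  have hdeg := natDegree_of_dvd_cyclotomic_of_irreducible hcard hcop hdvd hμirr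
  rw [hfin, hdeg, hcard, ← orderOf_units, ZMod.coe_unitOfCoprime]

end Cfsg.Agent.H4.El

section check

example {F : Type*} [Field F] [Fintype F] {V : Type*}
    [AddCommGroup V] [Module F V] [FiniteDimensional F V] (T : Module.End F V) (r : ℕ)
    (hr : r.Prime) (hrF : (r : F) ≠ 0) (hT : T ^ r = 1) (hV : Nontrivial V)
    (hfix : ∀ v, T v = v → v = 0)
    (hirr : ∀ U : Submodule F V, (∀ v ∈ U, T v ∈ U) → U = ⊥ ∨ U = ⊤) :
    Module.finrank F V = orderOf (Fintype.card F : ZMod r) :=
  Cfsg.Agent.H4.El.finrank_of_irreducible_pow_eq_one T r hr hrF hT hV hfix hirr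

end check
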