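import Mathlib

/-!
helper4: Maschke's averaging argument for a single operator of finite order prime to the
characteristic (piece EL-MASCHKE of helper42's S5949 project).
-/

set_option autoImplicit false

namespace Cfsg.Agent.H4.El

theorem exists_invariant_compl {F : Type*} [Field F] {V : Type*} [AddCommGroup V] [Module F V]
    [FiniteDimensional F V] (T : Module.End F V) (N : ℕ) (hN : (N : F) ≠ 0) (hT : T ^ N = 1)
    (U : Submodule F V) (hU : ∀ v ∈ U, T v ∈ U) :
    ∃ U' : Submodule F V, (∀ v ∈ U', T v ∈ U') ∧ IsCompl U U' := by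
  have hN0 : N ≠ 0 := by
    rintro rfl
    exact hN Nat.cast_zero
  have hN1 : N - 1 + 1 = N := Nat.sub_add_cancel (Nat.one_le_iff_ne_zero.2 hN0)
  obtain ⟨U₀, hc⟩ := Submodule.exists_isCompl U
  let πE : Module.End F V := U.subtype ∘ₗ (U.linearProjOfIsCompl U₀ hc)
  have hπU : ∀ v, πE v ∈ U := fun v => (U.linearProjOfIsCompl U₀ hc v).2
  have hπfix : ∀ u ∈ U, πE u = u := by
    intro u hu
    show ((U.linearProjOfIsCompl U₀ hc u : U) : V) = u
    have h1 := Submodule.linearProjOfIsCompl_apply_left hc ⟨u, hu⟩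
    have h2 := congrArg Subtype.val h1
    exact h2
  let S : Module.End F V := T ^ (N - 1)
  have hTS : T * S = 1 := by
    show T * T ^ (N - 1) = 1
    rw [← pow_succ', hN1, hT]
  have hST : S * T = 1 := by
    show T ^ (N - 1) * T = 1
    rw [← pow_succ, hN1, hT]
  have hcomm : Commute T S := (Commute.refl T).pow_right _
  have hTSj : ∀ j : ℕ, T ^ j * S ^ j = 1 := fun j => by
    rw [← hcomm.mul_pow, hTS, one_pow]
  have hTUj : ∀ j : ℕ, ∀ v ∈ U, (T ^ j) v ∈ U := by
    intro j
    induction j with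
    | zero =>
      intro v hv
      rw [pow_zero]
      exact hv
    | succ j ih =>
      intro v hv
      rw [pow_succ]
      exact ih _ (hU v hv)
  have hSN : S ^ N = 1 := by
    show (T ^ (N - 1)) ^ N = 1
    rw [← pow_mul, mul_comm, pow_mul, hT, one_pow]
  let g : ℕ → Module.End F V := fun j => T ^ j * πE * S ^ j
  have hshift : ∀ j, T * g j * S = g (j + 1) := by
    intro j
    show T * (T ^ j * πE * S ^ j) * S = T ^ (j + 1) * πE * S ^ (j + 1)
    rw [pow_succ' T, pow_succ S]
    simp only [mul_assoc]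
  have hgN : g N = g 0 := by
    show T ^ N * πE * S ^ N = T ^ 0 * πE * S ^ 0
    rw [hT, hSN, pow_zero, pow_zero]
  have hsum : T * (∑ j ∈ Finset.range N, g j) * S = ∑ j ∈ Finset.range N, g j := by
    rw [Finset.mul_sum, Finset.sum_mul]
    simp only [hshift]
    have h1 := Finset.sum_range_succ' g N
    have h2 := Finset.sum_range_succ g N
    rw [hgN] at h2
    exact add_right_cancel (h1.symm.trans h2)
  have hTcomm : T * (∑ j ∈ Finset.range N, g j) = (∑ j ∈ Finset.range N, g j) * T := by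
    calc T * (∑ j ∈ Finset.range N, g j)
        = T * (∑ j ∈ Finset.range N, g j) * (S * T) := by rw [hST, mul_one]
      _ = (T * (∑ j ∈ Finset.range N, g j) * S) * T := by simp only [mul_assoc]
      _ = (∑ j ∈ Finset.range N, g j) * T := by rw [hsum]
  let P : Module.End F V := (N : F)⁻¹ • ∑ j ∈ Finset.range N, g j
  have hgU : ∀ j v, g j v ∈ U := by
    intro j v
    show (T ^ j) (πE ((S ^ j) v)) ∈ U
    exact hTUj j _ (hπU _)
  have hPU : ∀ v, P v ∈ U := by
    intro v
    show ((N : F)⁻¹ • ∑ j ∈ Finset.range N, g j) v ∈ U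
    rw [LinearMap.smul_apply, LinearMap.sum_apply]
    exact U.smul_mem _ (U.sum_mem (fun j _ => hgU j v))
  have hSUj : ∀ j : ℕ, ∀ v ∈ U, (S ^ j) v ∈ U := by
    intro j v hv
    show ((T ^ (N - 1)) ^ j) v ∈ U
    rw [← pow_mul]
    exact hTUj _ v hv
  have hgfix : ∀ j, ∀ u ∈ U, g j u = u := by
    intro j u hu
    show (T ^ j) (πE ((S ^ j) u)) = u
    rw [hπfix _ (hSUj j u hu)]
    show (T ^ j * S ^ j) u = u
    rw [hTSj]
    rfl
  have hPfix : ∀ u ∈ U, P u = u := by
    intro u hu
    show ((N : F)⁻¹ • ∑ j ∈ Finset.range N, g j) u = u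
    rw [LinearMap.smul_apply, LinearMap.sum_apply, Finset.sum_congr rfl (fun j _ => hgfix j u hu),
      Finset.sum_const, Finset.card_range, ← Nat.cast_smul_eq_nsmul F, smul_smul,
      inv_mul_cancel₀ hN, one_smul]
  have hPT : T * P = P * T := by
    show T * ((N : F)⁻¹ • ∑ j ∈ Finset.range N, g j) = ((N : F)⁻¹ • ∑ j ∈ Finset.range N, g j) * T
    rw [mul_smul_comm, smul_mul_assoc, hTcomm]
  refine ⟨LinearMap.ker P, ?_, ?_⟩
  · intro v hv
    rw [LinearMap.mem_ker] at hv ⊢
    have h1 : P (T v) = (P * T) v := rfl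
    rw [h1, ← hPT]
    show T (P v) = 0
    rw [hv, map_zero]
  · have hf : ∀ x : U, (P.codRestrict U hPU) x = x := fun x => Subtype.ext (hPfix x x.2)
    have h1 := LinearMap.isCompl_of_proj hf
    rw [LinearMap.ker_codRestrict] at h1
    exact h1

end Cfsg.Agent.H4.El

section check

example {F : Type*} [Field F] {V : Type*} [AddCommGroup V] [Module F V]
    [FiniteDimensional F V] (T : Module.End F V) (N : ℕ) (hN : (N : F) ≠ 0) (hT : T ^ N = 1)
    (U : Submodule F V) (hU : ∀ v ∈ U, T v ∈ U) :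
    ∃ U' : Submodule F V, (∀ v ∈ U', T v ∈ U') ∧ IsCompl U U' :=
  Cfsg.Agent.H4.El.exists_invariant_compl T N hN hT U hU

end check
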