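import Cfsg.Agent.H2.CensusStmts
import Cfsg.Agent.H11.SmallSimple
import Cfsg.Agent.H21.SimpleTools

/-!
# Pieces S0983-TB1 and S0983-TB2 (for helper2): orders `4620` and `5460` by two blocks
-/

set_option autoImplicit false

open Cfsg Cfsg.Agent.H2.Census

universe u

namespace Cfsg.Agent.H4.Census

/-- Sums over `range (N + 1)` of functions supported on the support of `c`, when this support
is known to lie in a small set `L`. -/
theorem support_lemma (N p e k d₀ : ℕ) (c : ℕ → ℕ) (IsDeg : ℕ → Prop) (B : ℕ) (L : Finset ℕ)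
    (hB : N ≤ B * B)
    (hc : ∀ D, c D ≠ 0 → 3 ≤ D ∧ D ∣ N ∧ (D % p = 1 ∨ D % p = p - 1) ∧ (k ≠ 1 → 2 * p ≤ D) ∧
      IsDeg D)
    (hsq : 1 + ∑ D ∈ Finset.range (N + 1), c D * (D * D) + (p - 1) / e * (d₀ * d₀) ≤ N)
    (hL : ∀ D < B, (decide (3 ≤ D) && decide (D ∣ N) &&
        (decide (D % p = 1) || decide (D % p = p - 1)) &&
        (decide (k = 1) || decide (2 * p ≤ D)) &&
        decide (D * D + (p - 1) / e * (d₀ * d₀) < N)) = true → D ∈ L) :
    (∀ D, c D ≠ 0 → D ∈ L) ∧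
    (∑ D ∈ Finset.range (N + 1), c D = ∑ D ∈ L, c D) ∧
    (∑ D ∈ Finset.range (N + 1), sgn p D * ((c D : ℤ) * (D : ℤ)) =
      ∑ D ∈ L, sgn p D * ((c D : ℤ) * (D : ℤ))) := by
  classical
  have hN : 0 < N := by omega
  have hsupp : ∀ D, c D ≠ 0 → D ∈ L ∧ D ∈ Finset.range (N + 1) := by
    intro D hD
    obtain ⟨h3, hdvd, hmod, hk, -⟩ := hc D hD
    have hle : D ≤ N := Nat.le_of_dvd hN hdvd
    have hmem : D ∈ Finset.range (N + 1) := Finset.mem_range.2 (by omega)
    have h1 : c D * (D * D) ≤ ∑ D ∈ Finset.range (N + 1), c D * (D * D) :=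
      Finset.single_le_sum (f := fun D => c D * (D * D)) (fun _ _ => Nat.zero_le _) hmem
    have h2 : D * D ≤ c D * (D * D) := Nat.le_mul_of_pos_left _ (Nat.pos_of_ne_zero hD)
    have h3' : D * D + (p - 1) / e * (d₀ * d₀) < N := by omega
    have hDB : D < B := by
      have : D * D < B * B := by omega
      exact Nat.mul_self_lt_mul_self_iff.1 this
    refine ⟨hL D hDB ?_, hmem⟩
    have hk' : k = 1 ∨ 2 * p ≤ D := by
      by_cases hk1 : k = 1
      · exact Or.inl hk1
      · exact Or.inr (hk hk1)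
    simp only [Bool.and_eq_true, Bool.or_eq_true, decide_eq_true_eq]
    exact ⟨⟨⟨⟨h3, hdvd⟩, hmod⟩, hk'⟩, h3'⟩
  have hgen : ∀ {M : Type} [AddCommMonoid M] (f : ℕ → M), (∀ D, c D = 0 → f D = 0) →
      ∑ D ∈ Finset.range (N + 1), f D = ∑ D ∈ L, f D := by
    intro M _ f hf
    have e1 : ∑ D ∈ Finset.range (N + 1), f D = ∑ D ∈ Finset.range (N + 1) ∪ L, f D := by
      apply Finset.sum_subset Finset.subset_union_left
      intro x _ hx
      apply hf
      by_contra hcx
      exact hx (hsupp x hcx).2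
    have e2 : ∑ D ∈ L, f D = ∑ D ∈ Finset.range (N + 1) ∪ L, f D := by
      apply Finset.sum_subset Finset.subset_union_right
      intro x _ hx
      apply hf
      by_contra hcx
      exact hx (hsupp x hcx).1
    rw [e1, e2]
  refine ⟨fun D hD => (hsupp D hD).1, hgen c (fun D h => h), hgen _ ?_⟩
  intro D h
  rw [h]
  simp

/-- The bound on the exceptional degree. -/
theorem d0_bound (N m d₀ B S : ℕ) (hsq : 1 + S + m * (d₀ * d₀) ≤ N) (hB : N ≤ m * (B * B)) :
    d₀ < B := by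
  have h1 : m * (d₀ * d₀) < m * (B * B) := by omega
  have h2 : d₀ * d₀ < B * B := Nat.lt_of_mul_lt_mul_left h1
  exact Nat.mul_self_lt_mul_self_iff.1 h2

/-- Brauer data at the prime `3`: two consecutive degrees. -/
theorem pair_of_three (N : ℕ) (IsDeg : ℕ → Prop) (hbd : BrauerData N 3 IsDeg) :
    ∃ x, 3 ≤ x ∧ x % 3 = 1 ∧ x ∣ N ∧ (x + 1) ∣ N ∧ IsDeg x ∧ IsDeg (x + 1) ∧ x * x < N := by
  classical
  obtain ⟨n, k, e, d₀, ε, c, hn, hn3, hfact, he, he2, hε, hd3, hdN, hdmod, hkd, hdeg0, hc,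
    hsum, hsgn, hsq, hlast⟩ := hbd
  have he' : e = 2 := by
    have := Nat.le_of_dvd (by norm_num) he
    omega
  subst he'
  have hN : 0 < N := by omega
  -- a degree with nonzero multiplicity
  have hex : ∃ D₁ ∈ Finset.range (N + 1), c D₁ ≠ 0 := by
    by_contra hno
    have : ∑ D ∈ Finset.range (N + 1), c D = 0 :=
      Finset.sum_eq_zero (fun D hD => by
        by_contra hcD
        exact hno ⟨D, hD, hcD⟩)
    omega
  obtain ⟨D₁, hmem, hcD₁⟩ := hex
  have hsplit := Finset.add_sum_erase (Finset.range (N + 1)) c hmem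
  have hrest : ∑ D ∈ (Finset.range (N + 1)).erase D₁, c D = 0 := by omega
  have hc1 : c D₁ = 1 := by omega
  have hzero : ∀ D, D ≠ D₁ → c D = 0 := by
    intro D hD
    by_contra hcD
    have hDmem : D ∈ (Finset.range (N + 1)).erase D₁ := by
      rw [Finset.mem_erase]
      refine ⟨hD, Finset.mem_range.2 ?_⟩
      have := Nat.le_of_dvd hN (hc D hcD).2.1
      omega
    have := (Finset.sum_eq_zero_iff.1 hrest) D hDmem
    exact hcD this
  have hs2 : ∑ D ∈ Finset.range (N + 1), sgn 3 D * ((c D : ℤ) * (D : ℤ)) =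
      sgn 3 D₁ * (D₁ : ℤ) := by
    rw [Finset.sum_eq_single_of_mem D₁ hmem, hc1]
    · simp
    · intro b _ hb
      rw [hzero b hb]
      simp
  have hs3 : ∑ D ∈ Finset.range (N + 1), c D * (D * D) = D₁ * D₁ := by
    rw [Finset.sum_eq_single_of_mem D₁ hmem, hc1, one_mul]
    intro b _ hb
    rw [hzero b hb, zero_mul]
  rw [hs2] at hsgn
  rw [hs3] at hsq
  have hm : (3 - 1) / 2 = 1 := by norm_num
  rw [hm, one_mul] at hsq
  obtain ⟨hD3, hDN, hDmod, -, hDdeg⟩ := hc D₁ hcD₁
  rcases hDmod with hmod | hmod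
  · -- sign `+1`
    have hs : sgn 3 D₁ = 1 := by unfold sgn; rw [if_pos hmod]
    rw [hs, one_mul] at hsgn
    rcases hε with rfl | rfl
    · have hd : d₀ = D₁ + 1 := by omega
      subst hd
      exact ⟨D₁, hD3, hmod, hDN, hdN, hDdeg, hdeg0, by omega⟩
    · omega
  · -- sign `-1`
    have hs : sgn 3 D₁ = -1 := by
      unfold sgn
      rw [if_neg (by omega)]
    rw [hs] at hsgn
    rcases hε with rfl | rfl
    · omega
    · have hd : D₁ = d₀ + 1 := by omega
      subst hd
      exact ⟨d₀, hd3, by omega, hdN, hDN, hdeg0, hDdeg, by omega⟩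

/-- Order `4620`, the prime `11`: the degrees prime to `11` are `1`, `20`, `21`. -/
theorem degs_4620 (IsDeg : ℕ → Prop) (hbd : BrauerData 4620 11 IsDeg) :
    ∀ D, IsDeg D → ¬ 11 ∣ D → D = 1 ∨ D = 20 ∨ D = 21 := by
  obtain ⟨n, k, e, d₀, ε, c, hn, hn11, hfact, he, he2, hε, hd3, hdN, hdmod, hkd, hdeg0, hc,
    hsum, hsgn, hsq, hlast⟩ := hbd
  have he' : e = 2 ∨ e = 5 ∨ e = 10 := by
    have := Nat.le_of_dvd (by norm_num) he
    interval_cases e <;> omega
  obtain ⟨j, rfl⟩ : ∃ j, n = 11 * j + 1 := ⟨n / 11, by omega⟩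
  have hnke : (11 * j + 1) * (k * e) = 420 := by
    have : 11 * ((11 * j + 1) * (k * e)) = (11 * j + 1) * (11 * (k * e)) := by ring
    omega
  have hj : 11 * j + 1 ≤ 420 := Nat.le_of_dvd (by norm_num) (Dvd.intro _ hnke)
  have hj0 : j ≠ 0 := by
    rintro rfl
    norm_num [Nat.factorial] at hfact
  have hj38 : j ≤ 38 := by omega
  have hj1 : 1 ≤ j := by omega
  have hcases : (j = 1 ∧ k = 7 ∧ e = 5) ∨ (j = 19 ∧ k = 1 ∧ e = 2) := by
    rcases he' with rfl | rfl | rfl <;> interval_cases j <;> omega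
  push_cast at hdmod
  rcases hcases with ⟨rfl, rfl, rfl⟩ | ⟨rfl, rfl, rfl⟩
  · -- `n = 12`, `k = 7`, `e = 5`
    exfalso
    have hd22 : 22 ≤ d₀ := by
      have := hkd (by norm_num)
      omega
    have hdB : d₀ < 49 := d0_bound 4620 ((11 - 1) / 5) d₀ 49 _ hsq (by norm_num)
    have key : d₀ = 28 ∧ ε = -1 := by
      rcases hε with rfl | rfl <;> interval_cases d₀ <;> omega
    obtain ⟨rfl, rfl⟩ := key
    obtain ⟨-, hs1, -⟩ := support_lemma 4620 11 5 7 28 c IsDeg 68 ∅ (by norm_num) hc hsq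
      (by decide)
    rw [hs1, Finset.sum_empty] at hsum
    omega
  · -- `n = 210`, `k = 1`, `e = 2`
    have hdB : d₀ < 31 := d0_bound 4620 ((11 - 1) / 2) d₀ 31 _ hsq (by norm_num)
    have key : d₀ = 20 ∧ ε = -1 := by
      rcases hε with rfl | rfl <;> interval_cases d₀ <;> omega
    obtain ⟨rfl, rfl⟩ := key
    obtain ⟨hsupp, hs1, hs2⟩ := support_lemma 4620 11 2 1 20 c IsDeg 68 {10, 12, 21}
      (by norm_num) hc hsq (by decide)
    rw [hs1] at hsum
    rw [hs2] at hsgn
    simp [sgn] at hsum hsgn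
    have hvals : c 10 = 0 ∧ c 12 = 0 := by omega
    intro D hD h11
    rcases hlast rfl D hD h11 with h | h | h
    · left; exact h
    · right; left; exact h
    · right; right
      have hm := hsupp D h
      simp only [Finset.mem_insert, Finset.mem_singleton] at hm
      rcases hm with rfl | rfl | rfl
      · exact absurd hvals.1 h
      · exact absurd hvals.2 h
      · rfl

/-- **Piece S0983-TB1.** -/
theorem no_simple_4620 {G : Type u} [Group G] [Finite G] [IsSimpleGroup G] (hBD : StmtBD.{u})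
    (h : Nat.card G = 4620) : False := by
  have hnc : ¬ IsCyclic G :=
    Cfsg.Agent.H11.not_isCyclic_of_not_isMulCommutative
      (Cfsg.Agent.H21.not_comm_of_not_prime (by rw [h]; norm_num))
  have : Fact (Nat.Prime 11) := ⟨by norm_num⟩
  have h11 := hBD G hnc 11 (by norm_num) (by rw [h]; norm_num) (by rw [h]; norm_num)
  have h3 := hBD G hnc 3 (by norm_num) (by rw [h]; norm_num) (by rw [h]; norm_num)
  rw [h] at h11 h3
  have hdegs := degs_4620 _ h11
  obtain ⟨x, hx3, hxmod, hxN, hx1N, hxdeg, hx1deg, hxx⟩ := pair_of_three _ _ h3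
  have hxB : x < 68 := by
    have : x * x < 68 * 68 := by omega
    exact Nat.mul_self_lt_mul_self_iff.1 this
  have hx : x = 4 ∨ x = 10 := by
    interval_cases x <;> omega
  rcases hx with rfl | rfl
  · have := hdegs 4 hxdeg (by norm_num)
    omega
  · have := hdegs 10 hxdeg (by norm_num)
    omega

/-- Order `5460`, the prime `13`: the degrees prime to `13` are `1`, `12`, `35`. -/
theorem degs_5460 (IsDeg : ℕ → Prop) (hbd : BrauerData 5460 13 IsDeg) :
    ∀ D, IsDeg D → ¬ 13 ∣ D → D = 1 ∨ D = 35 ∨ D = 12 := by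
  obtain ⟨n, k, e, d₀, ε, c, hn, hn13, hfact, he, he2, hε, hd3, hdN, hdmod, hkd, hdeg0, hc,
    hsum, hsgn, hsq, hlast⟩ := hbd
  have he' : e = 2 ∨ e = 3 ∨ e = 4 ∨ e = 6 ∨ e = 12 := by
    have := Nat.le_of_dvd (by norm_num) he
    interval_cases e <;> omega
  obtain ⟨j, rfl⟩ : ∃ j, n = 13 * j + 1 := ⟨n / 13, by omega⟩
  have hnke : (13 * j + 1) * (k * e) = 420 := by
    have : 13 * ((13 * j + 1) * (k * e)) = (13 * j + 1) * (13 * (k * e)) := by ring
    omega
  have hj : 13 * j + 1 ≤ 420 := Nat.le_of_dvd (by norm_num) (Dvd.intro _ hnke)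
  have hj0 : j ≠ 0 := by
    rintro rfl
    norm_num [Nat.factorial] at hfact
  have hj32 : j ≤ 32 := by omega
  have hj1 : 1 ≤ j := by omega
  have hcases : (j = 1 ∧ k = 15 ∧ e = 2) ∨ (j = 1 ∧ k = 10 ∧ e = 3) ∨ (j = 1 ∧ k = 5 ∧ e = 6) ∨
      (j = 8 ∧ k = 2 ∧ e = 2) ∨ (j = 8 ∧ k = 1 ∧ e = 4) := by
    rcases he' with rfl | rfl | rfl | rfl | rfl <;> interval_cases j <;> omega
  push_cast at hdmod
  rcases hcases with ⟨rfl, rfl, rfl⟩ | ⟨rfl, rfl, rfl⟩ | ⟨rfl, rfl, rfl⟩ | ⟨rfl, rfl, rfl⟩ |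
    ⟨rfl, rfl, rfl⟩
  · -- `n = 14`, `k = 15`, `e = 2`
    exfalso
    have hd26 : 26 ≤ d₀ := by
      have := hkd (by norm_num)
      omega
    have hdB : d₀ < 31 := d0_bound 5460 ((13 - 1) / 2) d₀ 31 _ hsq (by norm_num)
    have key : d₀ = 28 ∧ ε = 1 := by
      rcases hε with rfl | rfl <;> interval_cases d₀ <;> omega
    obtain ⟨rfl, rfl⟩ := key
    obtain ⟨-, hs1, -⟩ := support_lemma 5460 13 2 15 28 c IsDeg 74 ∅ (by norm_num) hc hsq
      (by decide)
    rw [hs1, Finset.sum_empty] at hsum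
    omega
  · -- `n = 14`, `k = 10`, `e = 3`
    exfalso
    have hd26 : 26 ≤ d₀ := by
      have := hkd (by norm_num)
      omega
    have hdB : d₀ < 37 := d0_bound 5460 ((13 - 1) / 3) d₀ 37 _ hsq (by norm_num)
    rcases hε with rfl | rfl <;> interval_cases d₀ <;> omega
  · -- `n = 14`, `k = 5`, `e = 6`
    exfalso
    have hd26 : 26 ≤ d₀ := by
      have := hkd (by norm_num)
      omega
    have hdB : d₀ < 53 := d0_bound 5460 ((13 - 1) / 6) d₀ 53 _ hsq (by norm_num)
    rcases hε with rfl | rfl <;> interval_cases d₀ <;> omega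
  · -- `n = 105`, `k = 2`, `e = 2`
    exfalso
    have hd26 : 26 ≤ d₀ := by
      have := hkd (by norm_num)
      omega
    have hdB : d₀ < 31 := d0_bound 5460 ((13 - 1) / 2) d₀ 31 _ hsq (by norm_num)
    have key : d₀ = 28 ∧ ε = 1 := by
      rcases hε with rfl | rfl <;> interval_cases d₀ <;> omega
    obtain ⟨rfl, rfl⟩ := key
    obtain ⟨-, hs1, -⟩ := support_lemma 5460 13 2 2 28 c IsDeg 74 ∅ (by norm_num) hc hsq
      (by decide)
    rw [hs1, Finset.sum_empty] at hsum
    omega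
  · -- `n = 105`, `k = 1`, `e = 4`
    have hdB : d₀ < 43 := d0_bound 5460 ((13 - 1) / 4) d₀ 43 _ hsq (by norm_num)
    have key : (d₀ = 4 ∧ ε = 1) ∨ (d₀ = 30 ∧ ε = 1) ∨ (d₀ = 35 ∧ ε = -1) := by
      rcases hε with rfl | rfl <;> interval_cases d₀ <;> omega
    rcases key with ⟨rfl, rfl⟩ | ⟨rfl, rfl⟩ | ⟨rfl, rfl⟩
    · exfalso
      obtain ⟨-, hs1, hs2⟩ := support_lemma 5460 13 4 1 4 c IsDeg 74 {12, 14}
        (by norm_num) hc hsq (by decide)
      rw [hs1] at hsum
      rw [hs2] at hsgn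
      simp [sgn] at hsum hsgn
      omega
    · exfalso
      obtain ⟨-, hs1, hs2⟩ := support_lemma 5460 13 4 1 30 c IsDeg 74 {12, 14}
        (by norm_num) hc hsq (by decide)
      rw [hs1] at hsum
      rw [hs2] at hsgn
      simp [sgn] at hsum hsgn
      omega
    · obtain ⟨hsupp, hs1, hs2⟩ := support_lemma 5460 13 4 1 35 c IsDeg 74 {12, 14}
        (by norm_num) hc hsq (by decide)
      rw [hs1] at hsum
      rw [hs2] at hsgn
      simp [sgn] at hsum hsgn
      have hvals : c 14 = 0 := by omega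
      intro D hD h13
      rcases hlast rfl D hD h13 with h | h | h
      · left; exact h
      · right; left; exact h
      · right; right
        have hm := hsupp D h
        simp only [Finset.mem_insert, Finset.mem_singleton] at hm
        rcases hm with rfl | rfl
        · rfl
        · exact absurd hvals h

/-- **Piece S0983-TB2.** -/
theorem no_simple_5460 {G : Type u} [Group G] [Finite G] [IsSimpleGroup G] (hBD : StmtBD.{u})
    (h : Nat.card G = 5460) : False := by
  have hnc : ¬ IsCyclic G :=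
    Cfsg.Agent.H11.not_isCyclic_of_not_isMulCommutative
      (Cfsg.Agent.H21.not_comm_of_not_prime (by rw [h]; norm_num))
  have : Fact (Nat.Prime 13) := ⟨by norm_num⟩
  have h13 := hBD G hnc 13 (by norm_num) (by rw [h]; norm_num) (by rw [h]; norm_num)
  have h3 := hBD G hnc 3 (by norm_num) (by rw [h]; norm_num) (by rw [h]; norm_num)
  rw [h] at h13 h3
  have hdegs := degs_5460 _ h13
  obtain ⟨x, hx3, hxmod, hxN, hx1N, hxdeg, hx1deg, hxx⟩ := pair_of_three _ _ h3
  have hxB : x < 74 := by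
    have : x * x < 74 * 74 := by omega
    exact Nat.mul_self_lt_mul_self_iff.1 this
  have hx : x = 4 ∨ x = 13 := by
    interval_cases x <;> omega
  rcases hx with rfl | rfl
  · have := hdegs 4 hxdeg (by norm_num)
    omega
  · have := hdegs 14 hx1deg (by norm_num)
    omega

section checkTB

example {G : Type u} [Group G] [Finite G] [IsSimpleGroup G] (hBD : StmtBD.{u})
    (h : Nat.card G = 4620) : False := no_simple_4620 hBD h

example {G : Type u} [Group G] [Finite G] [IsSimpleGroup G] (hBD : StmtBD.{u})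
    (h : Nat.card G = 5460) : False := no_simple_5460 hBD h

end checkTB

end Cfsg.Agent.H4.Census
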