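import Cfsg.Agent.H87.CrDefs
import Cfsg.Agent.H15.CrIMG
import Cfsg.Agent.Lib.Helper96.CrStepFn
import Cfsg.Agent.H4.CrStepCore

/-!
Piece CR-STEP of S5141 (Craven's theorem), exact statement.
-/

set_option autoImplicit false

namespace Cfsg.Agent.H4.Cr

open Cfsg Cfsg.FusionSystem Cfsg.Agent.H86 Cfsg.Agent.H87 Cfsg.Agent.H87.Cr

variable {Ω : Type*} [Group Ω] {S T : Subgroup Ω}

theorem fix_step [Finite S] {p : ℕ} [Fact p.Prime] (hS : IsPGroup p S) {F : FusionSystem S}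
    {E : FusionSystem T} (hE : E.IsWeaklyNormalIn F p) {P : Subgroup Ω} (hP : E.IsCentric P)
    {k : Ω → Ω} (hk : Mor F (P ⊔ centralizerIn S T) k) (hkP : ∀ x ∈ P, k x = x) :
    ∃ k₁, Mor F (normalizerIn T P ⊔ centralizerIn S T) k₁ ∧
      (∀ y ∈ P ⊔ centralizerIn S T, k₁ y = k y) ∧ ∀ n ∈ normalizerIn T P, n⁻¹ * k₁ n ∈ P :=
  fix_step_core hS hE (fun hP' _ hl => Cfsg.Agent.H15.Cr.img_cent hS hE hP' hl)
    (fun hP' hfn _ hk' hkP' => Cfsg.Agent.Lib.Helper96.Cr.fix_step_fn hS hE hP' hfn hk' hkP')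
    hP hk hkP

section check

example [Finite S] {p : ℕ} [Fact p.Prime] (hS : IsPGroup p S) {F : FusionSystem S} {E : FusionSystem T} (hE : E.IsWeaklyNormalIn F p) {P : Subgroup Ω} (hP : E.IsCentric P) {k : Ω → Ω} (hk : Mor F (P ⊔ centralizerIn S T) k) (hkP : ∀ x ∈ P, k x = x) : ∃ k₁, Mor F (normalizerIn T P ⊔ centralizerIn S T) k₁ ∧ (∀ y ∈ P ⊔ centralizerIn S T, k₁ y = k y) ∧ ∀ n ∈ normalizerIn T P, n⁻¹ * k₁ n ∈ P :=
  fix_step hS hE hP hk hkP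

end check

end Cfsg.Agent.H4.Cr
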