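import Cfsg.Agent.H87.CrDefs
import Cfsg.Agent.H11.CrBar
import Cfsg.Agent.H4.CrStep
import Cfsg.Agent.H4.CrNormCore

/-!
Piece CR-NORM of S5141 (Craven's theorem), exact statement.
-/

set_option autoImplicit false

namespace Cfsg.Agent.H4.Cr

open Cfsg Cfsg.FusionSystem Cfsg.Agent.H86 Cfsg.Agent.H87 Cfsg.Agent.H87.Cr

variable {Ω : Type*} [Group Ω] {S T : Subgroup Ω}

theorem fix_normalizer [Finite S] {p : ℕ} [Fact p.Prime] (hS : IsPGroup p S)
    {F : FusionSystem S} {E : FusionSystem T} (hE : E.IsWeaklyNormalIn F p) {P : Subgroup Ω}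
    (hP : E.IsCentric P) {b : Ω → Ω} (hb : ∀ c ∈ centralizerIn S T, b c ∈ centralizerIn S T)
    (h : Fix F T P b) : ∃ j : ℕ, Fix F T (normalizerIn T P) (b^[p ^ j]) :=
  fix_normalizer_core hS hE hP h (fun hk hkP => fix_step hS hE hP hk hkP)
    (fun hbar n => Cfsg.Agent.H11.Cr.bar_iter hS hE
      (isCentric_of_le hP (Cfsg.Agent.H86.le_normalizerIn hP.1) inf_le_left) hb hbar n)

section check

example [Finite S] {p : ℕ} [Fact p.Prime] (hS : IsPGroup p S) {F : FusionSystem S} {E : FusionSystem T} (hE : E.IsWeaklyNormalIn F p) {P : Subgroup Ω} (hP : E.IsCentric P) {b : Ω → Ω} (hb : ∀ c ∈ centralizerIn S T, b c ∈ centralizerIn S T) (h : Fix F T P b) : ∃ j : ℕ, Fix F T (normalizerIn T P) (b^[p ^ j]) :=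
  fix_normalizer hS hE hP hb h

end check

end Cfsg.Agent.H4.Cr
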