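import Mathlib
import Cfsg.Agent.H81.ExDefs

/-!
# EX-LIN: the counting argument (`StLin`) for helper81's EX project

`Z` an elementary abelian 2-group, `ξ` of order dividing 3, `A` an elementary abelian
2-group acting on `Z`, `A₁` of index at most 2 commuting with `ξ`, `a` inverting `ξ`, and
`|B| |C_Z(B)| ≤ |A| |C_Z(A)|` for all `B ≤ A`: then `[Z, ξ]` has order 1 or 4.
-/

set_option autoImplicit false
set_option linter.unusedSectionVars false

namespace Cfsg.Agent.H4.Ex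

universe u

section

variable {Z : Type u} [CommGroup Z] [Finite Z] {A : Type u} [Group A] [Finite A]

theorem lin_apply_mul (ρ : A →* MulAut Z) (b c : A) (z : Z) : ρ (b * c) z = ρ b (ρ c z) := by
  rw [map_mul, MulAut.mul_apply]

theorem lin_apply_comm (ρ : A →* MulAut Z) (hAc : ∀ b c : A, b * c = c * b) (b c : A) (z : Z) :
    ρ b (ρ c z) = ρ c (ρ b z) := by
  rw [← lin_apply_mul, ← lin_apply_mul, hAc]

theorem lin_four (hZ : ∀ z : Z, z * z = 1) (p q r s : Z) (h : p * q = r * s) :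
    q * s = p * r := by
  calc q * s = p * (p * q) * s := by rw [← mul_assoc, hZ, one_mul]
    _ = p * (r * s) * s := by rw [h]
    _ = p * r * (s * s) := by simp only [mul_assoc]
    _ = p * r := by rw [hZ, mul_one]

/-- Lemma N. -/
theorem lin_lemN (ρ : A →* MulAut Z) (hZ : ∀ z : Z, z * z = 1) (M : Subgroup Z) :
    ∀ (n : ℕ) (b : A), b ^ 2 ^ n = 1 → (∀ z ∈ M, ρ b z ∈ M) →
      (∀ z ∈ M, ρ b z * z = 1 → z = 1) → ∀ z ∈ M, z = 1 := by
  intro n
  induction n with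
  | zero =>
    intro b hb _ hinj z hz
    have hb1 : b = 1 := by simpa using hb
    apply hinj z hz
    rw [hb1, map_one, MulAut.one_apply, hZ]
  | succ n ih =>
    intro b hb hinv hinj
    have hbb : (b * b) ^ 2 ^ n = 1 := by
      rw [← pow_two, ← pow_mul, ← pow_succ']; exact hb
    refine ih (b * b) hbb ?_ ?_
    · intro z hz
      rw [lin_apply_mul]
      exact hinv _ (hinv z hz)
    · intro z hz h1
      rw [lin_apply_mul] at h1
      have hw : ρ b z * z ∈ M := M.mul_mem (hinv z hz) hz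
      have hw1 : ρ b z * z = 1 := by
        apply hinj _ hw
        rw [map_mul]
        calc ρ b (ρ b z) * ρ b z * (ρ b z * z)
            = ρ b (ρ b z) * z * (ρ b z * ρ b z) := by
              simp only [mul_comm, mul_left_comm]
          _ = 1 := by rw [hZ, mul_one, h1]
      exact hinj z hz hw1

/-- Key lemma (well-founded induction on subgroups). -/
theorem lin_lemKey (ρ : A →* MulAut Z) (hZ : ∀ z : Z, z * z = 1) (hA2 : IsPGroup 2 A)
    (hAc : ∀ b c : A, b * c = c * b) (A₁ : Subgroup A) (V : Set Z) (hV1 : (1 : Z) ∈ V) :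
    ∀ M : Subgroup Z, (∀ b ∈ A₁, ∀ z ∈ M, ρ b z ∈ M) → (∃ z ∈ M, z ∉ V) →
      ∃ v ∈ M, v ∉ V ∧ ∀ b ∈ A₁, ρ b v * v ∈ V := by
  intro M
  refine WellFoundedLT.induction
    (motive := fun M : Subgroup Z => (∀ b ∈ A₁, ∀ z ∈ M, ρ b z ∈ M) → (∃ z ∈ M, z ∉ V) →
      ∃ v ∈ M, v ∉ V ∧ ∀ b ∈ A₁, ρ b v * v ∈ V) M ?_
  intro M ih hinv hex
  by_cases hcase : ∀ b ∈ A₁, ∀ z ∈ M, ρ b z * z ∈ V
  · obtain ⟨z, hzM, hzV⟩ := hex
    exact ⟨z, hzM, hzV, fun b hb => hcase b hb z hzM⟩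
  · push Not at hcase
    obtain ⟨b, hb, z, hzM, hzV⟩ := hcase
    let φ : Z →* Z :=
      { toFun := fun z => ρ b z * z
        map_one' := by simp
        map_mul' := by
          intro x y
          simp only [map_mul]
          exact mul_mul_mul_comm _ _ _ _ }
    have hφ : ∀ z, φ z = ρ b z * z := fun _ => rfl
    have hle : M.map φ ≤ M := by
      rintro _ ⟨x, hx, rfl⟩
      exact M.mul_mem (hinv b hb x hx) hx
    have hne : M.map φ ≠ M := by
      intro heq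
      have hsurj : Function.Surjective
          (fun x : ↥M => (⟨φ x, hle (Subgroup.mem_map_of_mem φ x.2)⟩ : ↥M)) := by
        rintro ⟨y, hy⟩
        have hy' : y ∈ M.map φ := by rw [heq]; exact hy
        obtain ⟨x, hx, rfl⟩ := hy'
        exact ⟨⟨x, hx⟩, rfl⟩
      have hinj := Finite.injective_iff_surjective.mpr hsurj
      have htriv : ∀ z ∈ M, z = 1 := by
        obtain ⟨n, hn⟩ := hA2 b
        refine lin_lemN ρ hZ M n b hn (hinv b hb) ?_
        intro x hx hx1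
        have h2 := @hinj ⟨x, hx⟩ ⟨1, M.one_mem⟩ (by
          apply Subtype.ext
          show φ x = φ 1
          rw [hφ, hx1, map_one])
        exact congrArg Subtype.val h2
      have hz1 : z = 1 := htriv z hzM
      apply hzV
      rw [hz1, map_one, mul_one]
      exact hV1
    have hlt : M.map φ < M := lt_of_le_of_ne hle hne
    obtain ⟨v, hvM, hvV, hv⟩ := ih (M.map φ) hlt (by
      rintro c hc _ ⟨x, hx, rfl⟩
      refine ⟨ρ c x, hinv c hc x hx, ?_⟩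
      rw [hφ, hφ, map_mul, lin_apply_comm ρ hAc b c x]) ⟨φ z, Subgroup.mem_map_of_mem φ hzM, hzV⟩
    exact ⟨v, hle hvM, hvV, hv⟩


theorem lin_six (hZ : ∀ z : Z, z * z = 1) (p q r : Z) : p * q * (r * p) * (q * r) = 1 := by
  have h : p * q * (r * p) * (q * r) = (p * p) * (q * q) * (r * r) := by ac_rfl
  rw [h, hZ p, hZ q, hZ r, one_mul, one_mul]

theorem lin_bool4 (x y : Z) (hx : x ≠ 1) (hy : y ≠ 1) (hxy : x * y ≠ 1) (hne : x ≠ y)
    (j₁ k₁ j₂ k₂ : Bool)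
    (h : (if j₁ then x else 1) * (if k₁ then y else 1) =
      (if j₂ then x else 1) * (if k₂ then y else 1)) :
    j₁ = j₂ ∧ k₁ = k₂ := by
  have hx' : (1 : Z) ≠ x := fun h => hx h.symm
  have hy' : (1 : Z) ≠ y := fun h => hy h.symm
  have hxy' : (1 : Z) ≠ x * y := fun h => hxy h.symm
  have hne' : y ≠ x := fun h => hne h.symm
  cases j₁ <;> cases k₁ <;> cases j₂ <;> cases k₂ <;> simp_all

theorem lin_core (ρ : A →* MulAut Z) (ξ : MulAut Z) (A₁ : Subgroup A) (a : A)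
    (hZ : ∀ z : Z, z * z = 1) (hA2 : IsPGroup 2 A) (hAc : ∀ b c : A, b * c = c * b)
    (ha : a * a = 1) (hA1 : ∀ b : A, b ∈ A₁ ∨ a⁻¹ * b ∈ A₁)
    (hξ3 : ∀ z, ξ (ξ (ξ z)) = z)
    (hbξ : ∀ b ∈ A₁, ∀ z, ρ b (ξ z) = ξ (ρ b z))
    (hαξ : ∀ z, ρ a (ξ z) = ξ (ξ (ρ a z)))
    (W FA : Set Z) (hW : ∀ z, z ∈ W ↔ ∃ y, ξ y * y = z)
    (hFA : ∀ z, z ∈ FA ↔ ∀ b : A, ρ b z = z)
    (H : ∀ B : Subgroup A, Nat.card ↥B * Set.ncard {z : Z | ∀ b ∈ B, ρ b z = z} ≤
      Nat.card A * FA.ncard) :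
    W.ncard = 1 ∨ W.ncard = 4 := by
  have hinv : ∀ z : Z, z⁻¹ = z := fun z => inv_eq_of_mul_eq_one_left (hZ z)
  have heq1 : ∀ x y : Z, x * y = 1 → x = y := by
    intro x y h
    rw [mul_eq_one_iff_eq_inv, hinv] at h
    exact h
  have hα2 : ∀ z, ρ a (ρ a z) = z := by
    intro z
    rw [← lin_apply_mul, ha, map_one, MulAut.one_apply]
  have hρc := lin_apply_comm ρ hAc
  -- facts on `W`
  have hW1 : (1 : Z) ∈ W := (hW 1).mpr ⟨1, by simp⟩
  have hWmul : ∀ x ∈ W, ∀ y ∈ W, x * y ∈ W := by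
    intro x hx y hy
    obtain ⟨p, rfl⟩ := (hW x).mp hx
    obtain ⟨q, rfl⟩ := (hW y).mp hy
    exact (hW _).mpr ⟨p * q, by rw [map_mul]; exact mul_mul_mul_comm _ _ _ _⟩
  have hWξ : ∀ x ∈ W, ξ x ∈ W := by
    intro x hx
    obtain ⟨p, rfl⟩ := (hW x).mp hx
    exact (hW _).mpr ⟨ξ p, by rw [map_mul]⟩
  have hWα : ∀ x ∈ W, ρ a x ∈ W := by
    intro x hx
    obtain ⟨p, rfl⟩ := (hW x).mp hx
    refine (hW _).mpr ⟨ξ (ξ (ρ a p)), ?_⟩
    rw [hξ3, map_mul, hαξ, mul_comm]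
  have hWb : ∀ b ∈ A₁, ∀ x ∈ W, ρ b x ∈ W := by
    intro b hb x hx
    obtain ⟨p, rfl⟩ := (hW x).mp hx
    exact (hW _).mpr ⟨ρ b p, by rw [map_mul, hbξ b hb]⟩
  have hW3 : ∀ x ∈ W, x * ξ x * ξ (ξ x) = 1 := by
    intro x hx
    obtain ⟨p, rfl⟩ := (hW x).mp hx
    simp only [map_mul, hξ3]
    exact lin_six hZ _ _ _
  have hWfix : ∀ x ∈ W, ξ x = x → x = 1 := by
    intro x hx hfix
    have h3 := hW3 x hx
    rw [hfix, hfix, hZ, one_mul] at h3
    exact h3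
  -- facts on `FA`, `F1`
  obtain ⟨F1, hF1def⟩ : ∃ F1 : Set Z, F1 = {z | ∀ b ∈ A₁, ρ b z = z} := ⟨_, rfl⟩
  have hF1 : ∀ z, z ∈ F1 ↔ ∀ b ∈ A₁, ρ b z = z := by
    intro z; rw [hF1def]; exact Iff.rfl
  have hFAα : ∀ z, z ∈ FA → ρ a z = z := fun z hz => (hFA z).mp hz a
  have hFAmk : ∀ z, z ∈ F1 → ρ a z = z → z ∈ FA := by
    intro z hz hαz
    refine (hFA z).mpr fun b => ?_
    rcases hA1 b with hb | hb
    · exact (hF1 z).mp hz b hb
    · have hb' : b = a * (a⁻¹ * b) := by simp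
      rw [hb', lin_apply_mul, (hF1 z).mp hz _ hb, hαz]
  have hFA1mem : (1 : Z) ∈ FA := (hFA 1).mpr fun b => map_one _
  have hFAmul : ∀ x ∈ FA, ∀ y ∈ FA, x * y ∈ FA := by
    intro x hx y hy
    refine (hFA _).mpr fun b => ?_
    rw [map_mul, (hFA x).mp hx b, (hFA y).mp hy b]
  -- `U` and `V₀`
  obtain ⟨U, hU⟩ : ∃ U : Set Z, ∀ z, z ∈ U ↔ (z ∈ W ∧ ρ a z = z) :=
    ⟨{z | z ∈ W ∧ ρ a z = z}, fun _ => Iff.rfl⟩
  obtain ⟨V₀, hV₀⟩ : ∃ V₀ : Set Z, ∀ z, z ∈ V₀ ↔ (z ∈ W ∧ z ∈ FA) :=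
    ⟨{z | z ∈ W ∧ z ∈ FA}, fun _ => Iff.rfl⟩
  have hUmul : ∀ x ∈ U, ∀ y ∈ U, x * y ∈ U := by
    intro x hx y hy
    have hx' := (hU x).mp hx
    have hy' := (hU y).mp hy
    exact (hU _).mpr ⟨hWmul x hx'.1 y hy'.1, by rw [map_mul, hx'.2, hy'.2]⟩
  have hU1 : (1 : Z) ∈ U := (hU 1).mpr ⟨hW1, map_one _⟩
  have hUkey : ∀ q ∈ U, ρ a (ξ q) = ξ q → q = 1 := by
    intro q hq h
    have hq' := (hU q).mp hq
    rw [hαξ, hq'.2] at h
    exact hWfix q hq'.1 (ξ.injective h)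
  have hS1 : W.ncard ≤ U.ncard * U.ncard := by
    rw [← Set.ncard_prod]
    refine Set.ncard_le_ncard_of_injOn (fun w => (w * ρ a w, ξ w * ρ a (ξ w))) ?_ ?_
      (Set.toFinite _)
    · intro w hw
      have hmem : ∀ x ∈ W, x * ρ a x ∈ U := by
        intro x hx
        exact (hU _).mpr ⟨hWmul x hx _ (hWα x hx), by rw [map_mul, hα2, mul_comm]⟩
      exact ⟨hmem w hw, hmem (ξ w) (hWξ w hw)⟩
    · intro w₁ hw₁ w₂ hw₂ h
      simp only [Prod.mk.injEq] at h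
      obtain ⟨h1, h2⟩ := h
      have hd : w₁ * w₂ ∈ U :=
        (hU _).mpr ⟨hWmul _ hw₁ _ hw₂, by rw [map_mul]; exact lin_four hZ _ _ _ _ h1⟩
      have hd2 : ρ a (ξ (w₁ * w₂)) = ξ (w₁ * w₂) := by
        rw [map_mul, map_mul]; exact lin_four hZ _ _ _ _ h2
      exact heq1 _ _ (hUkey _ hd hd2)
  have hS2 : U.ncard * U.ncard ≤ W.ncard := by
    rw [← Set.ncard_prod]
    refine Set.ncard_le_ncard_of_injOn (fun p : Z × Z => p.1 * ξ p.2) ?_ ?_ (Set.toFinite _)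
    · rintro ⟨u, u'⟩ ⟨hu, hu'⟩
      exact hWmul _ ((hU _).mp hu).1 _ (hWξ _ ((hU _).mp hu').1)
    · rintro ⟨u₁, u₁'⟩ ⟨hu₁, hu₁'⟩ ⟨u₂, u₂'⟩ ⟨hu₂, hu₂'⟩ h
      dsimp only at h
      have hp : ξ (u₁' * u₂') = u₁ * u₂ := by rw [map_mul]; exact lin_four hZ _ _ _ _ h
      have hq : u₁' * u₂' = 1 := by
        apply hUkey _ (hUmul _ hu₁' _ hu₂')
        rw [hp]; exact ((hU _).mp (hUmul _ hu₁ _ hu₂)).2
      have hp1 : u₁ * u₂ = 1 := by rw [← hp, hq, map_one]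
      rw [heq1 _ _ hp1, heq1 _ _ hq]
  have hS : W.ncard = U.ncard * U.ncard := le_antisymm hS1 hS2
  have hV0 : FA.ncard * V₀.ncard ≤ F1.ncard := by
    rw [← Set.ncard_prod]
    refine Set.ncard_le_ncard_of_injOn (fun p : Z × Z => p.1 * ξ p.2) ?_ ?_ (Set.toFinite _)
    · rintro ⟨c, u⟩ ⟨hc, hu⟩
      refine (hF1 _).mpr ?_
      intro b hb
      show ρ b (c * ξ u) = c * ξ u
      rw [map_mul, hbξ b hb, (hFA c).mp hc b, (hFA u).mp ((hV₀ u).mp hu).2 b]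
    · rintro ⟨c₁, u₁⟩ ⟨hc₁, hu₁⟩ ⟨c₂, u₂⟩ ⟨hc₂, hu₂⟩ h
      dsimp only at h
      have hu₁' := (hV₀ _).mp hu₁
      have hu₂' := (hV₀ _).mp hu₂
      have hp : ξ (u₁ * u₂) = c₁ * c₂ := by rw [map_mul]; exact lin_four hZ _ _ _ _ h
      have hu : u₁ * u₂ ∈ U :=
        (hU _).mpr ⟨hWmul _ hu₁'.1 _ hu₂'.1, hFAα _ (hFAmul _ hu₁'.2 _ hu₂'.2)⟩
      have hq : u₁ * u₂ = 1 := by
        apply hUkey _ hu
        rw [hp]; exact hFAα _ (hFAmul _ hc₁ _ hc₂)
      have hp1 : c₁ * c₂ = 1 := by rw [← hp, hq, map_one]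
      rw [heq1 _ _ hp1, heq1 _ _ hq]
  have hidx2 : Nat.card A ≤ 2 * Nat.card ↥A₁ := by
    have hsurj : Function.Surjective
        (fun p : Bool × ↥A₁ => (if p.1 then a else 1) * (p.2 : A)) := by
      intro x
      rcases hA1 x with hx | hx
      · exact ⟨(false, ⟨x, hx⟩), by simp⟩
      · exact ⟨(true, ⟨a⁻¹ * x, hx⟩), by simp⟩
    have h := Nat.card_le_card_of_surjective _ hsurj
    rw [Nat.card_prod] at h
    simpa using h
  have hA1pos : 0 < Nat.card ↥A₁ := Nat.card_pos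
  have hFApos : 0 < FA.ncard := (Set.ncard_pos (Set.toFinite _)).mpr ⟨1, hFA1mem⟩
  have HA1 : Nat.card ↥A₁ * F1.ncard ≤ Nat.card A * FA.ncard := by
    rw [hF1def]; exact H A₁
  have hV0le : V₀.ncard ≤ 2 := by
    by_contra hcon
    have hcon' : 3 ≤ V₀.ncard := by omega
    have h1 : FA.ncard * 3 ≤ F1.ncard := le_trans (Nat.mul_le_mul_left _ hcon') hV0
    have h2 : Nat.card ↥A₁ * (FA.ncard * 3) ≤ Nat.card ↥A₁ * F1.ncard :=
      Nat.mul_le_mul_left _ h1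
    have h3 : Nat.card A * FA.ncard ≤ 2 * Nat.card ↥A₁ * FA.ncard :=
      Nat.mul_le_mul_right _ hidx2
    have h4 : 0 < Nat.card ↥A₁ * FA.ncard := Nat.mul_pos hA1pos hFApos
    nlinarith
  have hU1' : 0 < U.ncard := (Set.ncard_pos (Set.toFinite _)).mpr ⟨1, hU1⟩
  have hV01 : (1 : Z) ∈ V₀ := (hV₀ 1).mpr ⟨hW1, hFA1mem⟩
  by_cases hsub : U ⊆ V₀
  · have hle : U.ncard ≤ 2 := le_trans (Set.ncard_le_ncard hsub (Set.toFinite _)) hV0le
    have h12 : U.ncard = 1 ∨ U.ncard = 2 := by omega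
    rcases h12 with h | h
    · left; rw [hS, h]
    · right; rw [hS, h]
  · exfalso
    obtain ⟨u₀, hu₀U, hu₀V⟩ := Set.not_subset.mp hsub
    obtain ⟨Usub, hUsub⟩ : ∃ M : Subgroup Z, ∀ z, z ∈ M ↔ z ∈ U :=
      ⟨{ carrier := U
         mul_mem' := fun {x y} hx hy => hUmul x hx y hy
         one_mem' := hU1
         inv_mem' := fun {x} hx => by rw [hinv]; exact hx }, fun _ => Iff.rfl⟩
    obtain ⟨v, hvU, hvV, hv⟩ := lin_lemKey ρ hZ hA2 hAc A₁ V₀ hV01 Usub (by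
      intro b hb z hz
      have hz' := (hU z).mp ((hUsub z).mp hz)
      exact (hUsub _).mpr ((hU _).mpr ⟨hWb b hb z hz'.1, by rw [hρc, hz'.2]⟩))
      ⟨u₀, (hUsub _).mpr hu₀U, hu₀V⟩
    have hvU' := (hU v).mp ((hUsub v).mp hvU)
    have hvF1 : v ∉ F1 := fun h => hvV ((hV₀ v).mpr ⟨hvU'.1, hFAmk v h hvU'.2⟩)
    have hex : ∃ b₁ ∈ A₁, ρ b₁ v ≠ v := by
      by_contra hcon
      push Not at hcon
      exact hvF1 ((hF1 v).mpr hcon)
    obtain ⟨b₁, hb₁, hb₁v⟩ := hex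
    have hv₀V : ρ b₁ v * v ∈ V₀ := hv b₁ hb₁
    have hv₀1 : ρ b₁ v * v ≠ 1 := fun h => hb₁v (heq1 _ _ h)
    have hV0two : ∀ x ∈ V₀, x = 1 ∨ x = ρ b₁ v * v := by
      intro x hx
      by_contra hcon
      push Not at hcon
      have h3 : ({1, ρ b₁ v * v, x} : Set Z).ncard = 3 :=
        Set.ncard_eq_three.mpr ⟨1, ρ b₁ v * v, x, fun h => hv₀1 h.symm,
          fun h => hcon.1 h.symm, fun h => hcon.2 h.symm, rfl⟩
      have hsub3 : ({1, ρ b₁ v * v, x} : Set Z) ⊆ V₀ := by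
        intro y hy
        rcases hy with rfl | rfl | rfl
        · exact hV01
        · exact hv₀V
        · exact hx
      have h4 := Set.ncard_le_ncard hsub3 (Set.toFinite _)
      omega
    obtain ⟨B, hB⟩ : ∃ B : Subgroup A, ∀ b, b ∈ B ↔ (b ∈ A₁ ∧ ρ b v = v) :=
      ⟨{ carrier := {b | b ∈ A₁ ∧ ρ b v = v}
         mul_mem' := fun {x y} (hx : x ∈ A₁ ∧ ρ x v = v) (hy : y ∈ A₁ ∧ ρ y v = v) =>
           (⟨A₁.mul_mem hx.1 hy.1, by rw [lin_apply_mul, hy.2, hx.2]⟩ :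
             x * y ∈ A₁ ∧ ρ (x * y) v = v)
         one_mem' := (⟨A₁.one_mem, by rw [map_one, MulAut.one_apply]⟩ :
             (1 : A) ∈ A₁ ∧ ρ 1 v = v)
         inv_mem' := fun {x} (hx : x ∈ A₁ ∧ ρ x v = v) =>
           (⟨A₁.inv_mem hx.1, by
              rw [map_inv, MulAut.inv_apply, MulEquiv.symm_apply_eq]; exact hx.2.symm⟩ :
             x⁻¹ ∈ A₁ ∧ ρ x⁻¹ v = v) }, fun _ => Iff.rfl⟩
    have hdich : ∀ y ∈ A₁, y ∈ B ∨ b₁⁻¹ * y ∈ B := by
      intro y hy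
      rcases hV0two _ (hv y hy) with h | h
      · left; exact (hB y).mpr ⟨hy, heq1 _ _ h⟩
      · right
        refine (hB _).mpr ⟨A₁.mul_mem (A₁.inv_mem hb₁) hy, ?_⟩
        have h' : ρ y v = ρ b₁ v := mul_right_cancel h
        rw [lin_apply_mul, h', ← lin_apply_mul, inv_mul_cancel, map_one, MulAut.one_apply]
    have hidx4 : Nat.card A ≤ 4 * Nat.card ↥B := by
      have hsurj : Function.Surjective (fun p : (Bool × Bool) × ↥B =>
          (if p.1.1 then a else 1) * (if p.1.2 then b₁ else 1) * (p.2 : A)) := by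
        intro x
        rcases hA1 x with hx | hx
        · rcases hdich x hx with h | h
          · exact ⟨((false, false), ⟨x, h⟩), by simp⟩
          · exact ⟨((false, true), ⟨b₁⁻¹ * x, h⟩), by simp⟩
        · rcases hdich _ hx with h | h
          · exact ⟨((true, false), ⟨a⁻¹ * x, h⟩), by simp⟩
          · exact ⟨((true, true), ⟨b₁⁻¹ * (a⁻¹ * x), h⟩), by simp [mul_assoc]⟩
      have h := Nat.card_le_card_of_surjective _ hsurj
      rw [Nat.card_prod, Nat.card_prod] at h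
      simpa using h
    obtain ⟨FB, hFBdef⟩ : ∃ FB : Set Z, FB = {z | ∀ b ∈ B, ρ b z = z} := ⟨_, rfl⟩
    have hFB : ∀ z, z ∈ FB ↔ ∀ b ∈ B, ρ b z = z := by
      intro z; rw [hFBdef]; exact Iff.rfl
    have HB : Nat.card ↥B * FB.ncard ≤ Nat.card A * FA.ncard := by
      rw [hFBdef]; exact H B
    have hv₀W : ρ b₁ v * v ∈ W := ((hV₀ _).mp hv₀V).1
    have hξv₀ : ξ (ρ b₁ v * v) ≠ ρ b₁ v * v := fun h => hv₀1 (hWfix _ hv₀W h)
    have hξv₀1 : ξ (ρ b₁ v * v) ≠ 1 := by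
      intro h
      apply hv₀1
      have h' : ξ (ρ b₁ v * v) = ξ 1 := by rw [h, map_one]
      exact ξ.injective h'
    have hprod1 : ρ b₁ v * v * ξ (ρ b₁ v * v) ≠ 1 := fun h => hξv₀ (heq1 _ _ h).symm
    let δ : Z →* Z :=
      { toFun := fun z => ρ b₁ z * z
        map_one' := by simp
        map_mul' := by
          intro x y
          simp only [map_mul]
          exact mul_mul_mul_comm _ _ _ _ }
    have hδc : ∀ c ∈ F1, δ c = 1 := by
      intro c hc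
      show ρ b₁ c * c = 1
      rw [(hF1 c).mp hc b₁ hb₁, hZ]
    have hδv : δ v = ρ b₁ v * v := rfl
    have hδξv : δ (ξ v) = ξ (ρ b₁ v * v) := by
      show ρ b₁ (ξ v) * ξ v = _
      rw [hbξ b₁ hb₁, map_mul]
    have hδite1 : ∀ j : Bool, δ (if j then v else 1) = if j then ρ b₁ v * v else 1 := by
      intro j; cases j
      · simp
      · simp [hδv]
    have hδite2 : ∀ k : Bool, δ (if k then ξ v else 1) = if k then ξ (ρ b₁ v * v) else 1 := by
      intro k; cases k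
      · simp
      · simp [hδξv]
    have hF1B : 4 * F1.ncard ≤ FB.ncard := by
      have hcard : (F1 ×ˢ (Set.univ : Set (Bool × Bool))).ncard = F1.ncard * 4 := by
        rw [Set.ncard_prod, Set.ncard_univ]; simp
      have hle : (F1 ×ˢ (Set.univ : Set (Bool × Bool))).ncard ≤ FB.ncard := by
        refine Set.ncard_le_ncard_of_injOn
          (fun p : Z × (Bool × Bool) =>
            p.1 * (if p.2.1 then v else 1) * (if p.2.2 then ξ v else 1)) ?_ ?_ (Set.toFinite _)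
        · rintro ⟨c, j, k⟩ ⟨hc, -⟩
          refine (hFB _).mpr ?_
          intro b hb
          have hb' := (hB b).mp hb
          show ρ b (c * (if j then v else 1) * (if k then ξ v else 1)) =
            c * (if j then v else 1) * (if k then ξ v else 1)
          have e1 : ρ b c = c := (hF1 c).mp hc b hb'.1
          have e2 : ρ b v = v := hb'.2
          have e3 : ρ b (ξ v) = ξ v := by rw [hbξ b hb'.1, e2]
          cases j <;> cases k <;> simp [e1, e2, e3]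
        · rintro ⟨c₁, j₁, k₁⟩ ⟨hc₁, -⟩ ⟨c₂, j₂, k₂⟩ ⟨hc₂, -⟩ h
          dsimp only at h
          have h' := congrArg δ h
          simp only [map_mul] at h'
          rw [hδc c₁ hc₁, hδc c₂ hc₂, one_mul, one_mul] at h'
          simp only [hδite1, hδite2] at h'
          obtain ⟨rfl, rfl⟩ := lin_bool4 _ _ hv₀1 hξv₀1 hprod1 (fun h => hξv₀ h.symm) _ _ _ _ h'
          have hcc : c₁ = c₂ := mul_right_cancel (mul_right_cancel h)
          rw [hcc]
      omega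
    have hV0ge : 2 ≤ V₀.ncard := by
      have h2 : ({1, ρ b₁ v * v} : Set Z).ncard = 2 := Set.ncard_pair (fun h => hv₀1 h.symm)
      have hsub2 : ({1, ρ b₁ v * v} : Set Z) ⊆ V₀ := by
        intro y hy
        rcases hy with rfl | rfl
        · exact hV01
        · exact hv₀V
      have h4 := Set.ncard_le_ncard hsub2 (Set.toFinite _)
      omega
    have hFA2 : 2 * FA.ncard ≤ F1.ncard := by
      have h2 := Nat.mul_le_mul_left FA.ncard hV0ge
      omega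
    have hBpos : 0 < Nat.card ↥B := Nat.card_pos
    have h5 : 8 * FA.ncard ≤ FB.ncard := by omega
    have h6 : Nat.card ↥B * (8 * FA.ncard) ≤ Nat.card ↥B * FB.ncard :=
      Nat.mul_le_mul_left _ h5
    have h7 : Nat.card A * FA.ncard ≤ 4 * Nat.card ↥B * FA.ncard :=
      Nat.mul_le_mul_right _ hidx4
    have h8 : 0 < Nat.card ↥B * FA.ncard := Nat.mul_pos hBpos hFApos
    nlinarith

/-- EX-LIN. -/
theorem lin : Cfsg.Agent.H81.Ex.StLin.{u} := by
  unfold Cfsg.Agent.H81.Ex.StLin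
  intro Z _ _ A _ _ ρ ξ A₁ a hZ hA2 hAc ha hA1 hξ hc hinvt H
  have hinv : ∀ z : Z, z⁻¹ = z := fun z => inv_eq_of_mul_eq_one_left (hZ z)
  have hξ3 : ∀ z, ξ (ξ (ξ z)) = z := by
    intro z
    have h := congrArg (fun f : MulAut Z => f z) hξ
    simpa [MulAut.mul_apply] using h
  have hαξ : ∀ z, ρ a (ξ z) = ξ (ξ (ρ a z)) := by
    intro z
    have h := congrArg (fun f : MulAut Z => f z) hinvt
    simp only [MulAut.mul_apply, MulAut.inv_apply] at h
    rw [h, MulEquiv.symm_apply_eq, hξ3]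
  have hbξ : ∀ b ∈ A₁, ∀ z, ρ b (ξ z) = ξ (ρ b z) := by
    intro b hb z
    have h := congrArg (fun f : MulAut Z => f z) (hc b hb)
    simpa [MulAut.mul_apply] using h
  exact lin_core ρ ξ A₁ a hZ hA2 hAc ha hA1 hξ3 hbξ hαξ {z | ∃ y : Z, ξ y * y⁻¹ = z}
    {z | ∀ b : A, ρ b z = z} (by intro z; simp [hinv]) (fun z => Iff.rfl) H

end

example : Cfsg.Agent.H81.Ex.StLin.{u} := lin

end Cfsg.Agent.H4.Ex
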