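import Mathlib
import Cfsg.Prelude.Def_Characters
import Cfsg.Prelude.Def_Blocks
import Cfsg.Agent.H4.ItoP1
import Cfsg.Agent.H19.DetExt
import Cfsg.Agent.H84.PrincipalPairs
import Cfsg.Agent.H2.Transfer
import Cfsg.Agent.H40.Resid

/-!
# Galois-fixed characters of degree prime to `p` in the principal block (S4553)

Setting: `N = O^p(G)` with `G / N` cyclic and nontrivial, `σ` the Galois automorphism raising
`p`-power roots of unity to the power `1 + p` and fixing `p'`-roots of unity (realised by the power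
map `g ↦ g ^ k` on the group).

* `card_hom_pow_prime_eq_one` : a cyclic group of order `p ^ m`, `m ≥ 1`, has exactly `p` linear
  characters of order dividing `p`.
* `quot_pow_eq_of_pElement` : in `G / N` the `k`-th power map is the `(1 + p)`-th power map.
* `pow_coprime_card` : `k` is prime to `|G|`.
* `not_dvd_detOrder_of_pResidual` : characters of `O^p(G)` have determinantal order prime to `p`.
* `exists_fixed_extension` : a `P`-invariant `σ`-fixed irreducible character of `N` of degree prime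
  to `p` has a `σ`-fixed extension to `G` (its canonical extension).
* `regSum_eq_of_regular_mem` : the sum over `p`-regular elements only sees `N`.
* `exists_hom_of_extensions`, `hom_eq_of_mul_ext_eq` : Gallagher for extensions.
* `galois_fixed_count` : the count of S4553.
-/

set_option autoImplicit false
set_option linter.unusedSectionVars false
set_option linter.style.haveILetI false

namespace Cfsg.Agent.H4

open Cfsg

universe u

section GalB0

/-- A cyclic group of order `p ^ m` with `m ≥ 1` has exactly `p` homomorphisms to `ℂˣ` of order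
dividing `p`. -/
theorem card_hom_pow_prime_eq_one {C : Type u} [Group C] [Finite C] (hC : IsCyclic C) (p m : ℕ)
    (hp : p.Prime) (hm : 1 ≤ m) (hcard : Nat.card C = p ^ m) :
    Nat.card {lam : C →* ℂˣ // lam ^ p = 1} = p := by
  classical
  haveI : Fact p.Prime := ⟨hp⟩
  letI : CommGroup C := IsCyclic.commGroup
  obtain ⟨e⟩ := CommGroup.monoidHom_mulEquiv_of_hasEnoughRootsOfUnity C ℂ
  have h1 : Nat.card {lam : C →* ℂˣ // lam ^ p = 1} = Nat.card {x : C // x ^ p = 1} := by
    apply Nat.card_congr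
    refine e.toEquiv.subtypeEquiv (fun lam => ?_)
    constructor
    · intro h
      show e lam ^ p = 1
      rw [← map_pow, h, map_one]
    · intro h
      have h2 : e (lam ^ p) = e 1 := by
        rw [map_pow, map_one]
        exact h
      exact e.injective h2
  rw [h1]
  apply le_antisymm
  · letI : Fintype C := Fintype.ofFinite C
    rw [Nat.card_eq_fintype_card, Fintype.card_subtype]
    exact IsCyclic.card_pow_eq_one_le hp.pos
  · have hdvd : p ∣ Nat.card C := by
      rw [hcard]
      exact dvd_pow_self p (by omega)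
    obtain ⟨x, hx⟩ := exists_prime_orderOf_dvd_card' p hdvd
    have h3 : Nat.card (Subgroup.zpowers x) = p := by rw [Nat.card_zpowers, hx]
    let f : Subgroup.zpowers x → {y : C // y ^ p = 1} := fun y => ⟨y.1, by
      obtain ⟨i, hi⟩ := Subgroup.mem_zpowers_iff.mp y.2
      rw [← hi, ← zpow_natCast, ← zpow_mul, mul_comm, zpow_mul, zpow_natCast]
      have : x ^ p = 1 := by rw [← hx]; exact pow_orderOf_eq_one x
      rw [this, one_zpow]⟩
    have hinj : Function.Injective f := by
      intro a b hab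
      have hv : (f a).1 = (f b).1 := by rw [hab]
      exact Subtype.ext hv
    have h4 := Nat.card_le_card_of_injective f hinj
    rw [h3] at h4
    exact h4

variable {G : Type u} [Group G] [Finite G]

/-- In the `p`-group `G / N`, the `k`-th power map agrees with the `(1 + p)`-th power map. -/
theorem quot_pow_eq_of_pElement (N : Subgroup G) [hN : N.Normal] (p : ℕ) [Fact p.Prime]
    (hquot : IsPGroup p (G ⧸ N)) (k : ℕ)
    (hk₁ : ∀ g : G, (∃ j : ℕ, orderOf g = p ^ j) → g ^ k = g ^ (1 + p)) (x : G ⧸ N) :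
    x ^ k = x ^ (1 + p) := by
  have hp : p.Prime := Fact.out
  obtain ⟨g, rfl⟩ := QuotientGroup.mk_surjective x
  obtain ⟨a, b, hb, hab⟩ := Nat.exists_eq_pow_mul_and_not_dvd (orderOf_pos g).ne' p hp.ne_one
  have hb0 : b ≠ 0 := by
    rintro rfl
    exact hb (dvd_zero p)
  have h1 : orderOf (g ^ b) = p ^ a := by
    rw [orderOf_pow_of_dvd hb0 (Dvd.intro_left _ hab.symm), hab,
      Nat.mul_div_cancel _ (Nat.pos_of_ne_zero hb0)]
  have h2 := hk₁ (g ^ b) ⟨a, h1⟩
  have hcop : p.Coprime b := (Nat.Prime.coprime_iff_not_dvd hp).mpr hb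
  apply (hquot.powEquiv hcop).injective
  show ((g : G ⧸ N) ^ k) ^ b = ((g : G ⧸ N) ^ (1 + p)) ^ b
  rw [← QuotientGroup.mk_pow, ← QuotientGroup.mk_pow, ← QuotientGroup.mk_pow,
    ← QuotientGroup.mk_pow, ← pow_mul, ← pow_mul, mul_comm k b, mul_comm (1 + p) b, pow_mul,
    pow_mul, h2]

/-- The exponent `k` is prime to the group order. -/
theorem pow_coprime_card (p : ℕ) [Fact p.Prime] (k : ℕ)
    (hk₁ : ∀ g : G, (∃ j : ℕ, orderOf g = p ^ j) → g ^ k = g ^ (1 + p))
    (hk₂ : ∀ g : G, Nat.Coprime (orderOf g) p → g ^ k = g) : k.Coprime (Nat.card G) := by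
  have hp : p.Prime := Fact.out
  apply Nat.Coprime.symm
  apply Nat.coprime_of_dvd
  intro q hq hqG hqk
  haveI : Fact q.Prime := ⟨hq⟩
  obtain ⟨g, hg⟩ := exists_prime_orderOf_dvd_card' q hqG
  have h1 : g ^ k = 1 := orderOf_dvd_iff_pow_eq_one.mp (hg ▸ hqk)
  have h2 : g = 1 := by
    by_cases hqp : q = p
    · have h3 := hk₁ g ⟨1, by rw [hg, hqp, pow_one]⟩
      have h4 : g ^ p = 1 := by
        rw [← hqp, ← hg]
        exact pow_orderOf_eq_one g
      rw [h1, pow_add, pow_one, h4, mul_one] at h3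
      exact h3.symm
    · have h3 := hk₂ g (by rw [hg]; exact (Nat.coprime_primes hq hp).mpr hqp)
      rw [h1] at h3
      exact h3.symm
  rw [h2, orderOf_one] at hg
  exact hq.ne_one hg.symm

/-- Characters of `O^p(G)` have determinantal order prime to `p`. -/
theorem not_dvd_detOrder_of_pResidual (N : Subgroup G) (p : ℕ) [Fact p.Prime]
    (hNres : N = pResidual p G) (θ : N → ℂ) : ¬ p ∣ detOrder θ := by
  have hp : p.Prime := Fact.out
  obtain ⟨a, b, hb, hab⟩ :=
    Nat.exists_eq_pow_mul_and_not_dvd (Nat.card_pos (α := N)).ne' p hp.ne_one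
  let f : N →* ℂˣ := (powMonoidHom b).comp (H82.detHom θ)
  have hf : ∀ n : N, f n = H82.detHom θ n ^ b := fun n => rfl
  have hgen : ∀ n : N, Nat.Coprime (orderOf (n : G)) p → f n = 1 := by
    intro n hn
    have h1 : H82.detHom θ n ^ orderOf (n : G) = 1 := by
      rw [← map_pow, Subgroup.orderOf_coe, pow_orderOf_eq_one, map_one]
    have h2 : H82.detHom θ n ^ (p ^ a * b) = 1 := by
      rw [← hab, ← map_pow, pow_card_eq_one', map_one]
    have h3 : (f n) ^ (p ^ a) = 1 := by
      rw [hf, ← pow_mul, mul_comm]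
      exact h2
    have h4 : (f n) ^ orderOf (n : G) = 1 := by
      rw [hf, ← pow_mul, mul_comm, pow_mul, h1, one_pow]
    have h5 := pow_gcd_eq_one.mpr ⟨h3, h4⟩
    have h6 : Nat.gcd (p ^ a) (orderOf (n : G)) = 1 := Nat.Coprime.pow_left a hn.symm
    rwa [h6, pow_one] at h5
  have hNle : N ≤ pResidual p G := le_of_eq hNres
  have hNge : pResidual p G ≤ N := le_of_eq hNres.symm
  have hle : pResidual p G ≤ f.ker.map N.subtype := by
    unfold pResidual
    rw [Subgroup.closure_le]
    intro x hx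
    have hxN : x ∈ N := hNge (Subgroup.subset_closure hx)
    exact ⟨⟨x, hxN⟩, MonoidHom.mem_ker.mpr (hgen ⟨x, hxN⟩ hx), rfl⟩
  have hall : ∀ n : N, detChar θ n ^ b = 1 := by
    intro n
    obtain ⟨n', hn', hnn⟩ := hle (hNle n.2)
    have e : n' = n := Subtype.ext hnn
    subst e
    have h1 := MonoidHom.mem_ker.mp hn'
    rw [hf] at h1
    have h2 := congrArg (Units.val) h1
    rwa [Units.val_pow_eq_pow_val, H82.detHom_apply, Units.val_one] at h2
  intro hdvd
  exact hb (hdvd.trans ((H82.detOrder_dvd_iff θ b).mpr hall))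

/-- A `P`-invariant, `σ`-fixed irreducible character of `N = O^p(G)` of degree prime to `p` has a
`σ`-fixed extension to `G`. -/
theorem exists_fixed_extension (N : Subgroup G) [hN : N.Normal] (p : ℕ) [Fact p.Prime]
    (hNres : N = pResidual p G) (P : Sylow p G) (m : ℕ) (hidx : N.index = p ^ m) (k : ℕ)
    (hkcop : k.Coprime (Nat.card G)) {θ : N → ℂ} (hθ : IsIrrCharacter N θ)
    (hdeg : ¬ p ∣ charDegree θ)
    (hPinv : ∀ x ∈ (P : Subgroup G), ∀ n : N, θ ⟨x * n * x⁻¹, hN.conj_mem n n.2 x⟩ = θ n)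
    (hfix : ∀ n : N, θ (n ^ k) = θ n) :
    ∃ η : G → ℂ, IsIrrCharacter G η ∧ (∀ n : N, η n = θ n) ∧ ∀ g : G, η (g ^ k) = η g := by
  have hp : p.Prime := Fact.out
  have hθc := isCharacter_of_isIrrCharacter hθ
  have hd : θ 1 = (charDegree θ : ℂ) := isCharacter_one_eq hθc
  have hcf : IsClassFunction N θ := isClassFunction_of_isCharacter hθc
  have hinv : ∀ (g : G) (n : N), θ ⟨g * n * g⁻¹, hN.conj_mem (n : G) n.2 g⟩ = θ n := by
    intro g n
    obtain ⟨s, hs, t, ht, rfl⟩ := H40.exists_mul_sylow_pResidual P g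
    have htN : t ∈ N := (le_of_eq hNres.symm) ht
    have h1 := hPinv s hs (⟨t, htN⟩ * n * ⟨t, htN⟩⁻¹)
    have h2 : θ (⟨t, htN⟩ * n * ⟨t, htN⟩⁻¹) = θ n := hcf n ⟨t, htN⟩
    rw [← h2, ← h1]
    congr 1
    apply Subtype.ext
    simp [mul_assoc]
  have hdet : ¬ p ∣ detOrder θ := not_dvd_detOrder_of_pResidual N p hNres θ
  have hcop' : Nat.Coprime N.index (detOrder θ * charDegree θ) := by
    rw [hidx]
    apply Nat.Coprime.pow_left
    apply Nat.Coprime.mul_right
    · exact (Nat.Prime.coprime_iff_not_dvd hp).mpr hdet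
    · exact (Nat.Prime.coprime_iff_not_dvd hp).mpr hdeg
  obtain ⟨χ, ⟨hχ, hext, hdetχ⟩, huniq⟩ :=
    Cfsg.Agent.S0867.result N θ hθ hinv (charDegree θ) hd hcop'
  refine ⟨χ, hχ, hext, ?_⟩
  have h1 : IsIrrCharacter G (fun g => χ (g ^ k)) := H79.isIrrCharacter_comp_pow k hkcop hχ
  have h2 : ∀ n : N, (fun g => χ (g ^ k)) (n : G) = θ n := by
    intro n
    show χ ((n : G) ^ k) = θ n
    have h3 := hext (n ^ k)
    rw [hfix] at h3
    exact h3
  have h3 : Nat.Coprime N.index (detOrder (fun g => χ (g ^ k))) := by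
    have h4 := detOrder_comp_pow_dvd k hkcop (isCharacter_of_isIrrCharacter hχ)
    rw [hdetχ] at h4
    rw [hidx]
    apply Nat.Coprime.pow_left
    exact Nat.Coprime.coprime_dvd_right h4 ((Nat.Prime.coprime_iff_not_dvd hp).mpr hdet)
  have h5 := huniq _ h1 h2 h3
  intro g
  exact congrFun h5 g

/-- The sum over the `p`-regular elements only sees a subgroup containing all of them. -/
theorem regSum_eq_of_regular_mem [Fintype G] (N : Subgroup G) [Fintype N] (p : ℕ)
    (hreg : ∀ g : G, ¬ p ∣ orderOf g → g ∈ N) (f : G → ℂ) (θ : N → ℂ)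
    (hf : ∀ n : N, ¬ p ∣ orderOf (n : G) → f n = θ n) :
    H84.regSum p f = H84.regSum p θ := by
  classical
  unfold H84.regSum
  have h1 : ∑ g : G, pRegularPart p f g =
      ∑ g ∈ Finset.univ.filter (fun g : G => g ∈ N), pRegularPart p f g := by
    symm
    apply Finset.sum_subset (Finset.filter_subset _ _)
    intro g _ hg
    rw [Finset.mem_filter] at hg
    have : p ∣ orderOf g := by
      by_contra h
      exact hg ⟨Finset.mem_univ g, hreg g h⟩
    exact H81.pRegularPart_of_dvd p f this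
  rw [h1, Finset.sum_subtype (Finset.univ.filter (fun g : G => g ∈ N)) (p := fun g => g ∈ N)
    (by intro x; simp)]
  apply Finset.sum_congr rfl
  intro n _
  by_cases hn : p ∣ orderOf (n : G)
  · rw [H81.pRegularPart_of_dvd p f hn,
      H81.pRegularPart_of_dvd p θ (by rwa [Subgroup.orderOf_coe] at hn)]
  · rw [H81.pRegularPart_of_not_dvd p f hn,
      H81.pRegularPart_of_not_dvd p θ (by rwa [Subgroup.orderOf_coe] at hn)]
    exact hf n hn

/-- A linear character times an irreducible character is irreducible. -/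
theorem isIrrCharacter_hom_mul (β : G →* ℂˣ) {η : G → ℂ} (hη : IsIrrCharacter G η) :
    IsIrrCharacter G (fun g => ((β g : ℂˣ) : ℂ) * η g) := by
  obtain ⟨d, τ, hτirr, rfl⟩ := hη
  haveI := hτirr
  have e : (fun g => ((β g : ℂˣ) : ℂ) * τ.character g) = (H19.twistRep τ β).character := by
    funext g
    rw [H19.twistRep_character]
  rw [e]
  exact isIrrCharacter_of_irreducible _ (H19.twistRep_irreducible τ β)

/-- Two irreducible extensions of the same irreducible character of a normal subgroup differ by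
a linear character trivial on the subgroup. -/
theorem exists_hom_of_extensions (N : Subgroup G) [hN : N.Normal] {ϑ : N → ℂ}
    (hϑ : IsIrrCharacter N ϑ) {η χ' : G → ℂ} (hη : IsIrrCharacter G η)
    (hηN : ∀ n : N, η n = ϑ n) (h1 : IsIrrCharacter G χ') (h2 : ∀ n : N, χ' n = ϑ n) :
    ∃ β : G →* ℂˣ, (∀ n : N, β n = 1) ∧ ∀ g : G, χ' g = ((β g : ℂˣ) : ℂ) * η g := by
  classical
  letI : Fintype G := Fintype.ofFinite G
  letI : Fintype N := Fintype.ofFinite N
  have hφ : IsIrrCharacter N (fun _ => (1 : ℂ)) := isIrrCharacter_one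
  have hηc : IsCharacter G η := isCharacter_of_isIrrCharacter hη
  have hηcf : IsClassFunction G η := isClassFunction_of_isCharacter hηc
  have hϑres : ϑ = fun n : N => η n := by
    funext n
    exact (hηN n).symm
  have hϑinv : ∀ g : G, Clifford.conjChar N ϑ g = ϑ := by
    intro g
    rw [hϑres]
    exact Clifford.conjChar_res N hηcf g
  have hone : ((fun _ => (1 : ℂ)) * ϑ : N → ℂ) = ϑ := by
    funext n
    simp
  obtain ⟨-, -, hg3⟩ := Clifford.gallagher N hφ hϑ (fun g => rfl) hϑinv
    (by rw [hone]; exact hϑ) hηc hηN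
  have hχ'cf : IsClassFunction G χ' :=
    isClassFunction_of_isCharacter (isCharacter_of_isIrrCharacter h1)
  have hne : classInner (indFun N ((fun _ => (1 : ℂ)) * ϑ)) χ' ≠ 0 := by
    rw [hone, frobenius_reciprocity N ϑ χ' hχ'cf]
    have : (fun n : N => χ' n) = ϑ := funext h2
    rw [this, Clifford.classInner_irr_irr hϑ hϑ, if_pos rfl]
    exact one_ne_zero
  obtain ⟨β', hβ'irr, hβ'ne, hβ'eq⟩ := hg3 χ' h1 hne
  have hβ'cf : IsClassFunction G β' :=
    isClassFunction_of_isCharacter (isCharacter_of_isIrrCharacter hβ'irr)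
  have hϑ1 : ϑ 1 ≠ 0 := Clifford.irr_one_ne_zero' hϑ
  have hβ'1 : β' 1 = 1 := by
    have e1 := congrFun hβ'eq 1
    rw [Pi.mul_apply] at e1
    have e2 : χ' 1 = ϑ 1 := h2 1
    have e3 : η 1 = ϑ 1 := hηN 1
    rw [e2, e3] at e1
    exact mul_right_cancel₀ hϑ1 (by rw [e1, one_mul])
  set β'' : G →* ℂˣ := H82.irrLinearHom ⟨β', hβ'irr⟩ hβ'1 with hβ''
  have hβ''val : ∀ g : G, ((β'' g : ℂˣ) : ℂ) = β' g := fun g => rfl
  have hβ''N : ∀ n : N, β'' n = 1 := by
    have hirrN : IsIrrCharacter N (fun n : N => β' n) := by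
      have := (H82.linChar (β''.comp N.subtype)).2
      have e : (H82.linChar (β''.comp N.subtype)).1 = fun n : N => β' n := by
        funext n
        rw [H82.linChar_apply]
        rfl
      rwa [e] at this
    rw [frobenius_reciprocity N _ β' hβ'cf] at hβ'ne
    have heq := Clifford.eq_of_classInner_ne_zero hφ hirrN hβ'ne
    intro n
    apply Units.ext
    rw [hβ''val, Units.val_one]
    exact (congrFun heq n).symm
  refine ⟨β'', hβ''N, fun g => ?_⟩
  rw [hβ''val, ← hβ'eq, Pi.mul_apply]

/-- Gallagher uniqueness for extensions: the linear character is determined by the product. -/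
theorem hom_eq_of_mul_ext_eq (N : Subgroup G) [hN : N.Normal] {ϑ : N → ℂ}
    (hϑ : IsIrrCharacter N ϑ) {η : G → ℂ} (hη : IsIrrCharacter G η) (hηN : ∀ n : N, η n = ϑ n)
    (β γ : G →* ℂˣ) (hβ : ∀ n : N, β n = 1) (hγ : ∀ n : N, γ n = 1)
    (h : ∀ g : G, ((β g : ℂˣ) : ℂ) * η g = ((γ g : ℂˣ) : ℂ) * η g) : β = γ := by
  classical
  letI : Fintype G := Fintype.ofFinite G
  letI : Fintype N := Fintype.ofFinite N
  have hφ : IsIrrCharacter N (fun _ => (1 : ℂ)) := isIrrCharacter_one
  have hηc : IsCharacter G η := isCharacter_of_isIrrCharacter hη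
  have hηcf : IsClassFunction G η := isClassFunction_of_isCharacter hηc
  have hϑres : ϑ = fun n : N => η n := by
    funext n
    exact (hηN n).symm
  have hϑinv : ∀ g : G, Clifford.conjChar N ϑ g = ϑ := by
    intro g
    rw [hϑres]
    exact Clifford.conjChar_res N hηcf g
  have hone : ((fun _ => (1 : ℂ)) * ϑ : N → ℂ) = ϑ := by
    funext n
    simp
  obtain ⟨-, hg2, -⟩ := Clifford.gallagher N hφ hϑ (fun g => rfl) hϑinv
    (by rw [hone]; exact hϑ) hηc hηN
  have hlin : ∀ δ : G →* ℂˣ, (∀ n : N, δ n = 1) →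
      classInner (indFun N (fun _ => (1 : ℂ))) (H82.linChar δ).1 ≠ 0 := by
    intro δ hδ
    have hcf : IsClassFunction G (H82.linChar δ).1 :=
      isClassFunction_of_isCharacter (isCharacter_of_isIrrCharacter (H82.linChar δ).2)
    rw [frobenius_reciprocity N _ _ hcf]
    have e : (fun n : N => (H82.linChar δ).1 n) = fun _ => (1 : ℂ) := by
      funext n
      rw [H82.linChar_apply, hδ n, Units.val_one]
    rw [e, Clifford.classInner_irr_irr hφ hφ, if_pos rfl]
    exact one_ne_zero
  have heq : (H82.linChar β).1 * η = (H82.linChar γ).1 * η := by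
    funext g
    rw [Pi.mul_apply, Pi.mul_apply, H82.linChar_apply, H82.linChar_apply]
    exact h g
  have h3 := hg2 _ _ (H82.linChar β).2 (hlin β hβ) (H82.linChar γ).2 (hlin γ hγ) heq
  apply MonoidHom.ext
  intro g
  apply Units.ext
  have h4 := congrFun h3 g
  rwa [H82.linChar_apply, H82.linChar_apply] at h4

end GalB0

end Cfsg.Agent.H4
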