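import Mathlib
import Cfsg.Prelude.Def_Characters
import Cfsg.Agent.H4.GlaubP
import Cfsg.Agent.H4.RealClasses

/-!
# Conjugacy classes under a `p`-group of operators (helper4)

`P` is a `p`-group acting on a finite group `K` of order prime to `p`.
* `exists_fixed_conj` : fixed elements conjugate in `K` are conjugate by a fixed element;
* `exists_fixed_mem_class` : a `P`-invariant class contains a fixed element;
* `card_eq_of_rel` : a one-to-one correspondence given as a relation preserves cardinality;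
* `card_real_inv_irr_eq`, `exists_fixed_conj_of_real` : real characters and real classes.
-/

set_option autoImplicit false
set_option linter.unusedSectionVars false
set_option linter.style.haveILetI false

open Cfsg
open scoped ComplexConjugate

namespace Cfsg.Agent.H4

universe u v w

theorem card_eq_of_rel {X : Type*} {Y : Type*} (R : X → Y → Prop) (h1 : ∀ x, ∃ y, R x y)
    (h2 : ∀ y, ∃ x, R x y) (h3 : ∀ x y y', R x y → R x y' → y = y')
    (h4 : ∀ x x' y, R x y → R x' y → x = x') : Nat.card X = Nat.card Y := by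
  choose f hf using h1
  refine Nat.card_congr (Equiv.ofBijective f
    ⟨fun x x' h => h4 x x' (f x) (hf x) (h ▸ hf x'), fun y => ?_⟩)
  obtain ⟨x, hx⟩ := h2 y
  exact ⟨x, h3 x _ _ (hf x) hx⟩

section Classes

variable {K : Type u} [Group K] [Fintype K] {P : Type v} [Group P] [MulDistribMulAction P K]
  {p : ℕ}

/-- Two fixed elements which are conjugate are conjugate by a fixed element. -/
theorem exists_fixed_conj (hp : p.Prime) (hP : IsPGroup p P) (hpK : ¬ p ∣ Nat.card K)
    (c c' : K) (hc : ∀ x : P, x • c = c) (hc' : ∀ x : P, x • c' = c') (hconj : IsConj c c') :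
    ∃ g : K, (∀ x : P, x • g = g) ∧ g * c * g⁻¹ = c' := by
  classical
  by_contra hcon
  push Not at hcon
  set f : K → ℂ := fun g => if g * c * g⁻¹ = c' then 1 else 0 with hf
  have hinv : ∀ (x : P) (g : K), f (x • g) = f g := by
    intro x g
    have h1 : (x • g) * c * (x • g)⁻¹ = x • (g * c * g⁻¹) := by
      rw [smul_mul', smul_mul', smul_inv', hc x]
    have : (x • g) * c * (x • g)⁻¹ = c' ↔ g * c * g⁻¹ = c' := by
      rw [h1]
      constructor
      · intro h
        have h2 : x • (g * c * g⁻¹) = x • c' := by rw [h, hc' x]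
        exact (smul_left_cancel_iff x).mp h2
      · intro h
        rw [h, hc' x]
    simp only [hf, this]
  have hint : ∀ g, IsIntegral ℤ (f g) := fun g => by
    simp only [hf]
    split_ifs
    · exact isIntegral_one
    · exact isIntegral_zero
  have h := pDiv_sum_sub_sum_fixed hp hP f hinv hint
  have h0 : ∑ a ∈ Finset.univ.filter (fun a : K => ∀ s : P, s • a = a), f a = 0 := by
    apply Finset.sum_eq_zero
    intro g hg
    simp only [hf]
    rw [if_neg (hcon g (Finset.mem_filter.mp hg).2)]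
  rw [h0, sub_zero] at h
  obtain ⟨g₁, hg₁⟩ := isConj_iff.mp hconj
  have hcard : ∑ g : K, f g = (Nat.card (Subgroup.centralizer ({c} : Set K)) : ℂ) := by
    simp only [hf]
    rw [Finset.sum_boole]
    congr 1
    rw [← Fintype.card_subtype, ← Nat.card_eq_fintype_card]
    refine Nat.card_congr ?_
    refine
      { toFun := fun g => ⟨g₁⁻¹ * g.1, ?_⟩
        invFun := fun z => ⟨g₁ * z.1, ?_⟩
        left_inv := fun g => Subtype.ext (by simp)
        right_inv := fun z => Subtype.ext (by simp) }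
    · rw [Subgroup.mem_centralizer_singleton_iff]
      have h2 : g.1 * c * g.1⁻¹ = g₁ * c * g₁⁻¹ := g.2.trans hg₁.symm
      calc g₁⁻¹ * g.1 * c = g₁⁻¹ * (g.1 * c * g.1⁻¹) * g.1 := by group
        _ = g₁⁻¹ * (g₁ * c * g₁⁻¹) * g.1 := by rw [h2]
        _ = c * (g₁⁻¹ * g.1) := by group
    · have hz : z.1 * c = c * z.1 := Subgroup.mem_centralizer_singleton_iff.mp z.2
      calc g₁ * z.1 * c * (g₁ * z.1)⁻¹ = g₁ * (z.1 * c) * z.1⁻¹ * g₁⁻¹ := by group
        _ = g₁ * (c * z.1) * z.1⁻¹ * g₁⁻¹ := by rw [hz]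
        _ = g₁ * c * g₁⁻¹ := by group
        _ = c' := hg₁
  rw [hcard] at h
  have h3 := PDiv.dvd_int hp.pos
    (n := (Nat.card (Subgroup.centralizer ({c} : Set K)) : ℤ)) (by exact_mod_cast h)
  exact hpK ((Int.natCast_dvd_natCast.mp h3).trans (Subgroup.card_subgroup_dvd_card _))

/-- A `P`-invariant conjugacy class contains a fixed element. -/
theorem exists_fixed_mem_class (hp : p.Prime) (hP : IsPGroup p P) (hpK : ¬ p ∣ Nat.card K)
    (K₀ : ConjClasses K)
    (hK₀ : ∀ (x : P) (k : K), ConjClasses.mk k = K₀ → ConjClasses.mk (x • k) = K₀) :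
    ∃ k : K, (∀ x : P, x • k = k) ∧ ConjClasses.mk k = K₀ := by
  classical
  by_contra hcon
  push Not at hcon
  obtain ⟨g₀, hg₀⟩ := ConjClasses.exists_rep K₀
  set f : K → ℂ := fun g => if ConjClasses.mk g = K₀ then 1 else 0 with hf
  have hinv : ∀ (x : P) (g : K), f (x • g) = f g := by
    intro x g
    have : ConjClasses.mk (x • g) = K₀ ↔ ConjClasses.mk g = K₀ := by
      constructor
      · intro h
        have := hK₀ x⁻¹ (x • g) h
        rwa [inv_smul_smul] at this
      · exact hK₀ x g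
    simp only [hf, this]
  have hint : ∀ g, IsIntegral ℤ (f g) := fun g => by
    simp only [hf]
    split_ifs
    · exact isIntegral_one
    · exact isIntegral_zero
  have h := pDiv_sum_sub_sum_fixed hp hP f hinv hint
  have h0 : ∑ a ∈ Finset.univ.filter (fun a : K => ∀ s : P, s • a = a), f a = 0 := by
    apply Finset.sum_eq_zero
    intro g hg
    simp only [hf]
    rw [if_neg (hcon g (Finset.mem_filter.mp hg).2)]
  rw [h0, sub_zero] at h
  have hcard : ∑ g : K, f g = ((Subgroup.centralizer ({g₀} : Set K)).index : ℂ) := by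
    simp only [hf]
    rw [Finset.sum_boole, ← card_filter_isConj g₀]
    congr 2
    apply Finset.filter_congr
    intro g _
    rw [← hg₀, ConjClasses.mk_eq_mk_iff_isConj]
    exact ⟨fun h => h.symm, fun h => h.symm⟩
  rw [hcard] at h
  have h3 := PDiv.dvd_int hp.pos
    (n := ((Subgroup.centralizer ({g₀} : Set K)).index : ℤ)) (by exact_mod_cast h)
  exact hpK ((Int.natCast_dvd_natCast.mp h3).trans (Subgroup.index_dvd_card _))

end Classes

section Real

variable {K : Type u} [Group K] [Fintype K] {P : Type v} [Group P] [MulDistribMulAction P K]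
  {p : ℕ}

theorem fixedPoints_subtype_iff (g : K) :
    (∃ c, (FixedPoints.subgroup P K).subtype c = g) ↔ ∀ s : P, s • g = g := by
  constructor
  · rintro ⟨c, rfl⟩
    exact (FixedPoints.mem_subgroup P K _).mp c.2
  · intro h
    exact ⟨⟨g, (FixedPoints.mem_subgroup P K g).mpr h⟩, rfl⟩

/-- Real `P`-invariant irreducible characters of `K` correspond to real irreducible characters
of the fixed point subgroup. -/
theorem card_real_inv_irr_eq_card_real_irr_fixed (hp : p.Prime) (hP : IsPGroup p P)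
    (hpK : ¬ p ∣ Nat.card K) :
    Nat.card {θ : IrrCharacter K // (∀ k, (θ.1 k).im = 0) ∧
        ∀ (x : P) (k : K), θ.1 (x • k) = θ.1 k} =
      Nat.card {β : IrrCharacter (FixedPoints.subgroup P K) // ∀ c, (β.1 c).im = 0} := by
  classical
  set C := FixedPoints.subgroup P K with hCdef
  haveI : Fintype C := Fintype.ofFinite C
  obtain ⟨h1, -, h3, h4⟩ := glauberman_pgroup hp hP C.subtype (Subgroup.subtype_injective C)
    fixedPoints_subtype_iff (Or.inl hpK)
  have hconjβ : ∀ (θ : IrrCharacter K) (_ : ∀ k, (θ.1 k).im = 0) (β : IrrCharacter C) (m : ℕ),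
      classInner (fun c : C => θ.1 (C.subtype c)) β.1 = m →
      classInner (fun c : C => θ.1 (C.subtype c)) (irrConj β).1 = m := by
    intro θ hθ β m hm
    have : classInner (fun c : C => θ.1 (C.subtype c)) (irrConj β).1 =
        conj (classInner (fun c : C => θ.1 (C.subtype c)) β.1) := by
      unfold classInner
      rw [map_mul, map_inv₀, Complex.conj_natCast, map_sum]
      congr 1
      refine Finset.sum_congr rfl fun c _ => ?_
      rw [map_mul, Complex.conj_conj]
      show θ.1 _ * conj (conj (β.1 c)) = conj (θ.1 _) * β.1 c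
      rw [Complex.conj_conj, Complex.conj_eq_iff_im.mpr (hθ _)]
    rw [this, hm, Complex.conj_natCast]
  have hconjθ : ∀ (θ : IrrCharacter K) (β : IrrCharacter C) (_ : ∀ c, (β.1 c).im = 0) (m : ℕ),
      classInner (fun c : C => θ.1 (C.subtype c)) β.1 = m →
      classInner (fun c : C => (irrConj θ).1 (C.subtype c)) β.1 = m := by
    intro θ β hβ m hm
    have : classInner (fun c : C => (irrConj θ).1 (C.subtype c)) β.1 =
        conj (classInner (fun c : C => θ.1 (C.subtype c)) β.1) := by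
      unfold classInner
      rw [map_mul, map_inv₀, Complex.conj_natCast, map_sum]
      congr 1
      refine Finset.sum_congr rfl fun c _ => ?_
      rw [map_mul, Complex.conj_conj]
      show conj (θ.1 _) * conj (β.1 c) = conj (θ.1 _) * β.1 c
      rw [Complex.conj_eq_iff_im.mpr (hβ c)]
    rw [this, hm, Complex.conj_natCast]
  refine card_eq_of_rel (fun θ β => ∃ m : ℕ,
    classInner (fun c : C => θ.1.1 (C.subtype c)) β.1.1 = m ∧ ¬ p ∣ m) ?_ ?_ ?_ ?_
  · rintro ⟨θ, hθr, hθi⟩
    obtain ⟨β, ⟨m, hm, hpm⟩, huniq⟩ := h1 θ hθi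
    have hβ : irrConj β = β := huniq _ ⟨m, hconjβ θ hθr β m hm, hpm⟩
    refine ⟨⟨β, fun c => ?_⟩, m, hm, hpm⟩
    have := congrArg (fun ψ : IrrCharacter C => ψ.1 c) hβ
    exact Complex.conj_eq_iff_im.mp this
  · rintro ⟨β, hβr⟩
    obtain ⟨θ, hθi, m, hm, hpm⟩ := h4 β
    have hθ' : irrConj θ = θ := h3 (irrConj θ) θ
      (fun x k => by
        show conj (θ.1 (x • k)) = conj (θ.1 k)
        rw [hθi]) hθi β m m (hconjθ θ β hβr m hm) hpm hm hpm
    refine ⟨⟨θ, fun k => ?_, hθi⟩, m, hm, hpm⟩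
    have := congrArg (fun ψ : IrrCharacter K => ψ.1 k) hθ'
    exact Complex.conj_eq_iff_im.mp this
  · rintro ⟨θ, hθr, hθi⟩ ⟨β, hβ⟩ ⟨β', hβ'⟩ ⟨m, hm, hpm⟩ ⟨m', hm', hpm'⟩
    apply Subtype.ext
    exact (h1 θ hθi).unique ⟨m, hm, hpm⟩ ⟨m', hm', hpm'⟩
  · rintro ⟨θ, hθr, hθi⟩ ⟨θ', hθr', hθi'⟩ ⟨β, hβ⟩ ⟨m, hm, hpm⟩ ⟨m', hm', hpm'⟩
    apply Subtype.ext
    exact h3 θ θ' hθi hθi' β m m' hm hpm hm' hpm'

/-- Real `P`-invariant classes of `K` correspond to real classes of the fixed point subgroup. -/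
theorem card_real_classes_fixed_eq (hp : p.Prime) (hP : IsPGroup p P)
    (hpK : ¬ p ∣ Nat.card K) :
    Nat.card {c : ConjClasses K // (∀ k, ConjClasses.mk k = c → IsConj k k⁻¹) ∧
        ∀ (x : P) (k : K), ConjClasses.mk k = c → ConjClasses.mk (x • k) = c} =
      Nat.card {L : ConjClasses (FixedPoints.subgroup P K) //
        ∀ z, ConjClasses.mk z = L → IsConj z z⁻¹} := by
  classical
  set C := FixedPoints.subgroup P K with hCdef
  have hfixC : ∀ (z : C) (x : P), x • (z : K) = z := fun z =>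
    (FixedPoints.mem_subgroup P K _).mp z.2
  have hFa : ∀ z z' : C, IsConj (z : K) (z' : K) → IsConj z z' := by
    intro z z' h
    obtain ⟨g, hg, hgz⟩ := exists_fixed_conj hp hP hpK z z' (hfixC z) (hfixC z') h
    exact isConj_iff.mpr ⟨⟨g, (FixedPoints.mem_subgroup P K g).mpr hg⟩, Subtype.ext hgz⟩
  have hup : ∀ z z' : C, IsConj z z' → IsConj (z : K) (z' : K) := fun z z' h =>
    C.subtype.map_isConj h
  refine card_eq_of_rel (fun c L => ∃ z : C, ConjClasses.mk z = L.1 ∧
    ConjClasses.mk (z : K) = c.1) ?_ ?_ ?_ ?_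
  · rintro ⟨c, hcr, hci⟩
    obtain ⟨k, hk, hkc⟩ := exists_fixed_mem_class hp hP hpK c hci
    let z : C := ⟨k, (FixedPoints.mem_subgroup P K k).mpr hk⟩
    refine ⟨⟨ConjClasses.mk z, ?_⟩, z, rfl, hkc⟩
    intro z' hz'
    have h1 : IsConj z' z := ConjClasses.mk_eq_mk_iff_isConj.mp hz'
    have h2 : IsConj z z⁻¹ := hFa z z⁻¹ (hcr k hkc)
    exact h1.trans (h2.trans (isConj_inv_inv h1.symm))
  · rintro ⟨L, hLr⟩
    obtain ⟨z, hz⟩ := ConjClasses.exists_rep L
    refine ⟨⟨ConjClasses.mk (z : K), ?_, ?_⟩, z, hz, rfl⟩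
    · intro k hk
      have h1 : IsConj k (z : K) := ConjClasses.mk_eq_mk_iff_isConj.mp hk
      have h2 : IsConj (z : K) ((z : K))⁻¹ := hup z z⁻¹ (hLr z hz)
      exact h1.trans (h2.trans (isConj_inv_inv h1.symm))
    · intro x k hk
      have h1 : IsConj k (z : K) := ConjClasses.mk_eq_mk_iff_isConj.mp hk
      obtain ⟨h, hh⟩ := isConj_iff.mp h1
      apply ConjClasses.mk_eq_mk_iff_isConj.mpr
      refine isConj_iff.mpr ⟨x • h, ?_⟩
      rw [← smul_inv', ← smul_mul', ← smul_mul', hh, hfixC z x]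
  · rintro ⟨c, hc⟩ ⟨L, hL⟩ ⟨L', hL'⟩ ⟨z, hz, hzc⟩ ⟨z', hz', hzc'⟩
    apply Subtype.ext
    have hz1 : ConjClasses.mk z = L := hz
    have hz1' : ConjClasses.mk z' = L' := hz'
    show L = L'
    rw [← hz1, ← hz1']
    exact ConjClasses.mk_eq_mk_iff_isConj.mpr
      (hFa z z' (ConjClasses.mk_eq_mk_iff_isConj.mp (hzc.trans hzc'.symm)))
  · rintro ⟨c, hc⟩ ⟨c', hc'⟩ ⟨L, hL⟩ ⟨z, hz, hzc⟩ ⟨z', hz', hzc'⟩
    apply Subtype.ext
    have hzc1 : ConjClasses.mk (z : K) = c := hzc
    have hzc1' : ConjClasses.mk (z' : K) = c' := hzc'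
    show c = c'
    rw [← hzc1, ← hzc1']
    exact ConjClasses.mk_eq_mk_iff_isConj.mpr
      (hup z z' (ConjClasses.mk_eq_mk_iff_isConj.mp (hz.trans hz'.symm)))

/-- The number of real `P`-invariant irreducible characters equals the number of real
`P`-invariant classes. -/
theorem card_real_inv_irr_eq (hp : p.Prime) (hP : IsPGroup p P) (hpK : ¬ p ∣ Nat.card K) :
    Nat.card {θ : IrrCharacter K // (∀ k, (θ.1 k).im = 0) ∧
        ∀ (x : P) (k : K), θ.1 (x • k) = θ.1 k} =
      Nat.card {c : ConjClasses K // (∀ k, ConjClasses.mk k = c → IsConj k k⁻¹) ∧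
        ∀ (x : P) (k : K), ConjClasses.mk k = c → ConjClasses.mk (x • k) = c} := by
  rw [card_real_inv_irr_eq_card_real_irr_fixed hp hP hpK, card_real_classes_fixed_eq hp hP hpK]
  exact card_real_irr_eq_card_real_classes

/-- If `P` fixes every real irreducible character then every real element is conjugate to a
fixed element. -/
theorem exists_fixed_conj_of_real (hp : p.Prime) (hP : IsPGroup p P) (hpK : ¬ p ∣ Nat.card K)
    (hall : ∀ θ : IrrCharacter K, (∀ k, (θ.1 k).im = 0) →
      ∀ (x : P) (k : K), θ.1 (x • k) = θ.1 k)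
    (k : K) (hk : IsConj k k⁻¹) : ∃ k' : K, IsConj k k' ∧ ∀ x : P, x • k' = k' := by
  classical
  have hA : Nat.card {θ : IrrCharacter K // (∀ k, (θ.1 k).im = 0) ∧
      ∀ (x : P) (k : K), θ.1 (x • k) = θ.1 k} =
      Nat.card {θ : IrrCharacter K // ∀ k, (θ.1 k).im = 0} :=
    Nat.card_congr (Equiv.subtypeEquivRight fun θ => ⟨fun h => h.1, fun h => ⟨h, hall θ h⟩⟩)
  have hB := card_real_inv_irr_eq (K := K) (P := P) hp hP hpK
  have hC := card_real_irr_eq_card_real_classes (G := K)
  let incl : {c : ConjClasses K // (∀ k, ConjClasses.mk k = c → IsConj k k⁻¹) ∧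
      ∀ (x : P) (k : K), ConjClasses.mk k = c → ConjClasses.mk (x • k) = c} →
      {c : ConjClasses K // ∀ k, ConjClasses.mk k = c → IsConj k k⁻¹} := fun c => ⟨c.1, c.2.1⟩
  have hinj : Function.Injective incl := fun a b h => by
    apply Subtype.ext
    have h2 : (incl a).1 = (incl b).1 := by rw [h]
    exact h2
  have hbij := (Nat.bijective_iff_injective_and_card incl).mpr ⟨hinj, by rw [← hB, hA, hC]⟩
  have hreal : ∀ k', ConjClasses.mk k' = ConjClasses.mk k → IsConj k' k'⁻¹ := by
    intro k' hk'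
    have h1 : IsConj k' k := ConjClasses.mk_eq_mk_iff_isConj.mp hk'
    exact h1.trans (hk.trans (isConj_inv_inv h1.symm))
  obtain ⟨⟨c, hcr, hci⟩, hc⟩ := hbij.2 ⟨ConjClasses.mk k, hreal⟩
  have hc' : c = ConjClasses.mk k := congrArg Subtype.val hc
  subst hc'
  obtain ⟨k', hk', hkk⟩ := exists_fixed_mem_class hp hP hpK _ hci
  exact ⟨k', (ConjClasses.mk_eq_mk_iff_isConj.mp hkk).symm, hk'⟩

end Real

end Cfsg.Agent.H4
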