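import Cfsg.Agent.H28.JkDefs
import Cfsg.Agent.H82.JtDichAB

/-!
# JK-F1 (piece of the sub-project JK of JZ = S2951 + S2952)

The dichotomy (F1) in the two-sided form, from the `S₃^r` picture of `V = Ω₁Z(O₂(L))`,
`C_G(u) ≤ L` for `u ∈ V#` and TI: `Cfsg.Agent.H82.Jt.dich_ab_L` with `ι := Orb T K`,
`W i := wOf i.1`.
-/

set_option autoImplicit false
open Cfsg

namespace Cfsg.Agent.H4.Jk

universe u

theorem kf1 : Cfsg.Agent.H28.Jk.StKF1.{u} := by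
  intro G _ _ T K L hSR hr hNV hV2 hcent hTI
  obtain ⟨hsup, hind, hfacts, hperm, -, -⟩ := hSR
  exact Cfsg.Agent.H82.Jt.dich_ab_L (Cfsg.Agent.H28.Jk.VV L) L
    (fun i : Cfsg.Agent.H52.Sr.Orb T K => wOf i.1) (le_of_eq hNV.symm) (le_of_eq hNV)
    hcent hV2 hsup hind (fun i => (hfacts i).2.2) hperm hr hTI

example : Cfsg.Agent.H28.Jk.StKF1.{u} := kf1

end Cfsg.Agent.H4.Jk
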