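import Cfsg.Agent.H4.JzZ2Core
import Cfsg.Agent.S2950
import Cfsg.Agent.Helper55.UqBase

/-!
# JZ-Z2, clash-free form: for `T < S`, `Ω₁Z(S)` has order 2

Piece of the team project JZ = S2951 + S2952.  `z2_of (h46 : St46) : Cfsg.Agent.H64.Jz.StZ2`,
where `St46` is the statement S2946 verbatim as a closed `Prop` (this file does not import
`Cfsg.Agent.S2946`, whose closure cannot be imported next to the one of S2950).
-/

set_option autoImplicit false
open Cfsg

namespace Cfsg.Agent.H4.Jz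

universe u

/-- The statement S2946, verbatim, as a closed `Prop`. -/
def St46 : Prop := ∀ {G : Type u} [Group G] [Finite G] (_hL : Cfsg.IsCharacteristicTwoType G)
    (_hN : ∀ N : Subgroup G, Cfsg.IsTwoLocal N → Group.IsSolvable ↥N)
    (_hZ : ∀ S : Sylow 2 G, Subgroup.centralizer (Cfsg.omegaCenterOf (S : Subgroup G) : Set G) ≤
      Subgroup.normalizer ((S : Subgroup G) : Set G)) (T : Subgroup G) (_hT : IsPGroup 2 ↥T)
    (_hT1 : T ≠ ⊥) (K : Subgroup G) (_hK : Cfsg.IsJComponent T K)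
    (Z₀ : Subgroup G) (_hZ₀ : Z₀ = Cfsg.omegaCenterOf (Cfsg.thompsonSubgroupOf 2 T)),
    Nat.card ↥(Z₀ ⊓ Cfsg.wOf K) = 2 ∧
      (Z₀ ⊓ ((K ⊔ Cfsg.thompsonSubgroupOf 2 T) ⊓
        Subgroup.centralizer ((K ⊔ Cfsg.thompsonSubgroupOf 2 T) : Set G))) ⊔
        (Z₀ ⊓ Cfsg.wOf K) = Z₀

theorem z2_cent_union {G : Type u} [Group G] (K J : Subgroup G) :
    Subgroup.centralizer ((K : Set G) ⊔ (J : Set G)) =
      Subgroup.centralizer ((K ⊔ J : Subgroup G) : Set G) := by
  apply le_antisymm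
  · intro x hx
    rw [Subgroup.mem_centralizer_iff] at hx ⊢
    intro y hy
    have hle : K ⊔ J ≤ Subgroup.centralizer {x} := by
      rw [sup_le_iff]
      constructor
      · intro k hk
        rw [Subgroup.mem_centralizer_iff]
        intro z hz
        rw [Set.mem_singleton_iff] at hz
        subst hz
        exact (hx k (Or.inl hk)).symm
      · intro k hk
        rw [Subgroup.mem_centralizer_iff]
        intro z hz
        rw [Set.mem_singleton_iff] at hz
        subst hz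
        exact (hx k (Or.inr hk)).symm
    have h := hle hy
    rw [Subgroup.mem_centralizer_iff] at h
    exact (h x rfl).symm
  · apply Subgroup.centralizer_le
    intro y hy
    rcases hy with h | h
    · exact (le_sup_left : K ≤ K ⊔ J) h
    · exact (le_sup_right : J ≤ K ⊔ J) h

theorem z2_of (h46 : St46.{u}) : Cfsg.Agent.H64.Jz.StZ2.{u} := by
  intro G _ _ S M T K L hB hne
  obtain ⟨⟨hL, hN, hZ⟩, hO, hM, hMJ, hT, hTS, hK, hLmax, hKL⟩ := hB
  obtain ⟨L₀, hL₀max, hKL₀, huniq, -, hsyl⟩ :=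
    Cfsg.Agent.S2950.result hL hN hZ hO S M hM hMJ T hT K hK
  have hLL : L = L₀ := huniq L hLmax hKL
  have h46' := h46 hL hN hZ T hT.1.1 hT.1.2.1 K hK.1.1
    (omegaCenterOf (thompsonSubgroupOf 2 T)) rfl
  exact z2_core hL S T K L hT.1.2.1 hTS hne hLmax
    (fun L' h1 h2 => (huniq L' h1 h2).trans hLL.symm) (hLL ▸ hsyl)
    (fun X hX => Cfsg.Agent.Helper55.Uq.exists_maximalTwoLocal hX) h46'.1
    (by rw [← z2_cent_union]; exact h46'.2)

example (h46 : St46.{u}) : Cfsg.Agent.H64.Jz.StZ2.{u} := z2_of h46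

end Cfsg.Agent.H4.Jz
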