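import Mathlib

/-!
# Piece S0420-BN (for helper93): a group of order 720 from BN-pair style data

A Frobenius group `P ⋊ Q` of order `72` together with an involution `g` normalizing `Q`
and satisfying one relation `(g x)^3 = 1` generates (inside any ambient finite group) a
subgroup acting on `10` cosets with point stabilizer `P Q`; hence of order `720`.
-/

set_option autoImplicit false

open Subgroup
open scoped Pointwise

namespace Cfsg.Agent.H4.M11

section BN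

variable {G : Type*} [Group G]

/-- The product set `P * Q` as a subgroup when `Q` normalizes `P`. -/
def prodSub (P Q : Subgroup G) (hQP : Q ≤ normalizer (P : Set G)) : Subgroup G where
  carrier := {b | ∃ p ∈ P, ∃ q ∈ Q, b = p * q}
  mul_mem' := by
    rintro _ _ ⟨p, hp, q, hq, rfl⟩ ⟨p', hp', q', hq', rfl⟩
    refine ⟨p * (q * p' * q⁻¹),
      P.mul_mem hp ((mem_normalizer_iff.1 (hQP hq) p').1 hp'), q * q', Q.mul_mem hq hq', ?_⟩
    group
  one_mem' := ⟨1, P.one_mem, 1, Q.one_mem, by simp⟩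
  inv_mem' := by
    rintro _ ⟨p, hp, q, hq, rfl⟩
    refine ⟨q⁻¹ * p⁻¹ * q⁻¹⁻¹,
      (mem_normalizer_iff.1 (hQP (Q.inv_mem hq)) p⁻¹).1 (P.inv_mem hp), q⁻¹, Q.inv_mem hq, ?_⟩
    group

theorem left_le_prodSub (P Q : Subgroup G) (hQP : Q ≤ normalizer (P : Set G)) :
    P ≤ prodSub P Q hQP := fun p hp => ⟨p, hp, 1, Q.one_mem, by simp⟩

theorem right_le_prodSub (P Q : Subgroup G) (hQP : Q ≤ normalizer (P : Set G)) :
    Q ≤ prodSub P Q hQP := fun q hq => ⟨1, P.one_mem, q, hq, by simp⟩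

theorem card_prodSub (P Q : Subgroup G) (hQP : Q ≤ normalizer (P : Set G))
    (hPQ : ∀ y ∈ P, y ∈ Q → y = 1) :
    Nat.card (prodSub P Q hQP) = Nat.card P * Nat.card Q := by
  rw [← Nat.card_prod]
  symm
  refine Nat.card_congr (Equiv.ofBijective (fun pq : P × Q =>
    (⟨(pq.1 : G) * (pq.2 : G), ⟨pq.1, pq.1.2, pq.2, pq.2.2, rfl⟩⟩ : prodSub P Q hQP)) ⟨?_, ?_⟩)
  · rintro ⟨⟨p, hp⟩, ⟨q, hq⟩⟩ ⟨⟨p', hp'⟩, ⟨q', hq'⟩⟩ h
    have h' : p * q = p' * q' := congrArg Subtype.val h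
    have h1 : p'⁻¹ * p = q' * q⁻¹ := by
      rw [inv_mul_eq_iff_eq_mul, ← mul_assoc, ← h', mul_inv_cancel_right]
    have h2 : p'⁻¹ * p = 1 :=
      hPQ _ (P.mul_mem (P.inv_mem hp') hp) (h1 ▸ Q.mul_mem hq' (Q.inv_mem hq))
    have h3 : p' = p := inv_mul_eq_one.1 h2
    subst h3
    have h4 : q = q' := mul_left_cancel h'
    subst h4
    rfl
  · rintro ⟨b, p, hp, q, hq, rfl⟩
    exact ⟨(⟨p, hp⟩, ⟨q, hq⟩), rfl⟩

theorem pow_mem_prodSub_aux (P Q : Subgroup G) (hQP : Q ≤ normalizer (P : Set G))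
    {p q : G} (hp : p ∈ P) (hq : q ∈ Q) (n : ℕ) :
    ∃ p' ∈ P, (p * q) ^ n = p' * q ^ n := by
  induction n with
  | zero => exact ⟨1, P.one_mem, by simp⟩
  | succ n ih =>
    obtain ⟨p', hp', h⟩ := ih
    refine ⟨p' * (q ^ n * p * (q ^ n)⁻¹),
      P.mul_mem hp' ((mem_normalizer_iff.1 (hQP (Q.pow_mem hq n)) p).1 hp), ?_⟩
    rw [pow_succ, h, pow_succ]
    group

/-- **Piece S0420-BN.** -/
theorem exists_card_720 {G : Type*} [Group G] [Finite G] (P Q : Subgroup G) (g x : G)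
    (hP : Nat.card P = 9) (hQ : Nat.card Q = 8) (hQP : Q ≤ normalizer (P : Set G))
    (hreg : ∀ q ∈ Q, q ≠ 1 → ∀ p ∈ P, p ≠ 1 → q * p * q⁻¹ ≠ p)
    (hg2 : g * g = 1) (hgQ : ∀ q ∈ Q, g * q * g⁻¹ ∈ Q)
    (hTI : ∀ p ∈ P, p ≠ 1 → g * p * g⁻¹ ∉ P)
    (hx : x ∈ P) (hx1 : x ≠ 1) (hrel : (g * x) ^ 3 = 1) :
    ∃ M : Subgroup G, Nat.card M = 720 := by
  classical
  have hginv : g⁻¹ = g := inv_eq_of_mul_eq_one_left hg2
  have hPQ : ∀ y ∈ P, y ∈ Q → y = 1 := by
    intro y hyP hyQ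
    by_contra hy
    exact hreg y hyQ hy y hyP hy (by group)
  obtain ⟨B, hBdef⟩ : ∃ B : Subgroup G, B = prodSub P Q hQP := ⟨_, rfl⟩
  have hBmem : ∀ b, b ∈ B ↔ ∃ p ∈ P, ∃ q ∈ Q, b = p * q := by
    intro b; rw [hBdef]; exact Iff.rfl
  have hPB : P ≤ B := hBdef ▸ left_le_prodSub P Q hQP
  have hQB : Q ≤ B := hBdef ▸ right_le_prodSub P Q hQP
  have hBcard : Nat.card B = 72 := by rw [hBdef, card_prodSub P Q hQP hPQ, hP, hQ]
  have hnorm : ∀ q ∈ Q, ∀ p ∈ P, q * p * q⁻¹ ∈ P :=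
    fun q hq p hp => (mem_normalizer_iff.1 (hQP hq) p).1 hp
  -- elements of `B` killed by `9` lie in `P`
  have hB9 : ∀ b ∈ B, b ^ 9 = 1 → b ∈ P := by
    intro b hb h9
    obtain ⟨p, hp, q, hq, rfl⟩ := (hBmem b).1 hb
    obtain ⟨p', hp', h⟩ := pow_mem_prodSub_aux P Q hQP hp hq 9
    rw [h9] at h
    have hq9 : q ^ 9 = 1 := by
      apply hPQ _ _ (Q.pow_mem hq 9)
      have h' : q ^ 9 = p'⁻¹ := eq_inv_of_mul_eq_one_right h.symm
      rw [h']
      exact P.inv_mem hp'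
    have hq8 : q ^ 8 = 1 := by
      have h8 := pow_card_eq_one' (G := Q) (x := ⟨q, hq⟩)
      rw [hQ] at h8
      exact congrArg Subtype.val h8
    have hq1 : q = 1 := by
      calc q = q ^ 9 * (q ^ 8)⁻¹ := by group
        _ = 1 := by rw [hq9, hq8]; simp
    rw [hq1, mul_one]; exact hp
  have hP9 : ∀ p ∈ P, p ^ 9 = 1 := by
    intro p hp
    have h9 := pow_card_eq_one' (G := P) (x := ⟨p, hp⟩)
    rw [hP] at h9
    exact congrArg Subtype.val h9
  have hgB : g ∉ B := by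
    intro hg
    obtain ⟨p, hp, q, hq, h⟩ := (hBmem g).1 hg
    apply hTI x hx hx1
    rw [h]
    have : p * q * x * (p * q)⁻¹ = p * (q * x * q⁻¹) * p⁻¹ := by group
    rw [this]
    exact P.mul_mem (P.mul_mem hp (hnorm q hq x hx)) (P.inv_mem hp)
  -- `Q` is transitive on `P \ {1}`
  have htrans : ∀ p ∈ P, p ≠ 1 → ∃ q ∈ Q, p = q * x * q⁻¹ := by
    let f : Q → G := fun q => (q : G) * x * (q : G)⁻¹
    have hf : Function.Injective f := by
      intro q q' h
      have h' : (q : G) * x * (q : G)⁻¹ = (q' : G) * x * (q' : G)⁻¹ := h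
      by_contra hne
      have h1 : ((q' : G)⁻¹ * (q : G)) ≠ 1 := by
        intro h1
        apply hne
        rw [inv_mul_eq_one] at h1
        exact Subtype.ext h1.symm
      apply hreg _ (Q.mul_mem (Q.inv_mem q'.2) q.2) h1 x hx hx1
      calc (q' : G)⁻¹ * (q : G) * x * ((q' : G)⁻¹ * (q : G))⁻¹
          = (q' : G)⁻¹ * ((q : G) * x * (q : G)⁻¹) * (q' : G) := by group
        _ = x := by rw [h']; group
    have hsub : Set.range f ⊆ (P : Set G) \ {1} := by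
      rintro _ ⟨q, rfl⟩
      refine ⟨hnorm q q.2 x hx, ?_⟩
      intro h
      apply hx1
      have h' : (q : G) * x * (q : G)⁻¹ = 1 := h
      exact conj_eq_one_iff.1 h'
    have hcard : ((P : Set G) \ {1}).ncard ≤ (Set.range f).ncard := by
      rw [Set.ncard_range_of_injective hf, hQ, Set.ncard_sdiff_singleton_of_mem P.one_mem]
      have : (P : Set G).ncard = 9 := by rw [← hP]; exact (Nat.card_coe_set_eq _).symm
      omega
    have heq := Set.eq_of_subset_of_ncard_le hsub hcard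
    intro p hp hp1
    have : p ∈ Set.range f := by rw [heq]; exact ⟨hp, hp1⟩
    obtain ⟨q, rfl⟩ := this
    exact ⟨q, q.2, rfl⟩
  -- the ten points
  obtain ⟨pt, hpt⟩ : ∃ pt : G ⧸ B, pt = ((1 : G) : G ⧸ B) := ⟨_, rfl⟩
  let φ : P → G ⧸ B := fun p => (((p : G) * g : G) : G ⧸ B)
  have hφ : ∀ p : P, φ p = (((p : G) * g : G) : G ⧸ B) := fun _ => rfl
  have hφinj : Function.Injective φ := by
    intro p p' h
    rw [hφ, hφ, QuotientGroup.eq] at h
    have h1 : g * ((p : G)⁻¹ * (p' : G)) * g⁻¹ ∈ B := by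
      have : ((p : G) * g)⁻¹ * ((p' : G) * g) = g * ((p : G)⁻¹ * (p' : G)) * g⁻¹ := by
        calc ((p : G) * g)⁻¹ * ((p' : G) * g) = g⁻¹ * ((p : G)⁻¹ * (p' : G)) * g := by group
          _ = g * ((p : G)⁻¹ * (p' : G)) * g⁻¹ := by rw [hginv]
      rw [← this]; exact h
    have hyP : (p : G)⁻¹ * (p' : G) ∈ P := P.mul_mem (P.inv_mem p.2) p'.2
    have h9 : (g * ((p : G)⁻¹ * (p' : G)) * g⁻¹) ^ 9 = 1 := by
      rw [conj_pow, hP9 _ hyP]; group
    by_contra hne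
    have hy1 : (p : G)⁻¹ * (p' : G) ≠ 1 := fun h => hne (Subtype.ext (inv_mul_eq_one.1 h))
    exact hTI _ hyP hy1 (hB9 _ h1 h9)
  have hptφ : pt ∉ Set.range φ := by
    rintro ⟨p, hp⟩
    rw [hφ, hpt, QuotientGroup.eq] at hp
    apply hgB
    have h1 : (p : G) * g ∈ B := by
      have := B.inv_mem hp
      simpa using this
    have : g = (p : G)⁻¹ * ((p : G) * g) := by group
    rw [this]
    exact B.mul_mem (B.inv_mem (hPB p.2)) h1
  obtain ⟨X, hXdef⟩ : ∃ X : Set (G ⧸ B), X = insert pt (Set.range φ) := ⟨_, rfl⟩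
  have hXmem : ∀ a, a ∈ X ↔ a = pt ∨ ∃ p : P, φ p = a := by
    intro a; rw [hXdef]; exact Iff.rfl
  have hXfin : X.Finite := Set.toFinite X
  have hXcard : X.ncard = 10 := by
    rw [hXdef, Set.ncard_insert_of_notMem hptφ, Set.ncard_range_of_injective hφinj, hP]
  have hmem : ∀ m : G, (∀ a ∈ X, m • a ∈ X) → m ∈ MulAction.stabilizer G X := by
    intro m hm
    rw [MulAction.mem_stabilizer_set_iff_smul_set_subset hXfin]
    rintro _ ⟨a, ha, rfl⟩
    exact hm a ha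
  have hBM : B ≤ MulAction.stabilizer G X := by
    intro b hb
    apply hmem
    intro a ha
    rcases (hXmem a).1 ha with rfl | ⟨p, rfl⟩
    · rw [hXmem]
      left
      rw [hpt, MulAction.Quotient.smul_mk, QuotientGroup.eq, smul_eq_mul, mul_one, mul_one]
      exact B.inv_mem hb
    · rw [hXmem]
      right
      obtain ⟨p', hp', q, hq, rfl⟩ := (hBmem b).1 hb
      refine ⟨⟨p' * (q * p * q⁻¹), P.mul_mem hp' (hnorm q hq p p.2)⟩, ?_⟩
      rw [hφ, hφ, MulAction.Quotient.smul_mk, QuotientGroup.eq, smul_eq_mul]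
      have : (p' * (q * (p : G) * q⁻¹) * g)⁻¹ * (p' * q * ((p : G) * g)) = g⁻¹ * q * g := by
        group
      rw [this]
      apply hQB
      have h2 := hgQ q hq
      rw [hginv] at h2 ⊢
      exact h2
  have hcore : x = g⁻¹ * x⁻¹ * g⁻¹ * x⁻¹ * g⁻¹ := by
    have h3 : (g * x * g * x * g) * x = 1 := by
      rw [← hrel]; simp only [pow_succ, pow_zero, one_mul, mul_assoc]
    exact (eq_inv_of_mul_eq_one_right h3).trans (by group)
  have hgM : g ∈ MulAction.stabilizer G X := by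
    apply hmem
    intro a ha
    rcases (hXmem a).1 ha with rfl | ⟨p, rfl⟩
    · rw [hXmem]
      right
      refine ⟨⟨1, P.one_mem⟩, ?_⟩
      rw [hφ, hpt, MulAction.Quotient.smul_mk, smul_eq_mul, one_mul, mul_one]
    · by_cases hp1 : (p : G) = 1
      · rw [hXmem]
        left
        rw [hφ, hpt, MulAction.Quotient.smul_mk, smul_eq_mul, hp1, one_mul, hg2]
      · rw [hXmem]
        right
        obtain ⟨q, hq, hpq⟩ := htrans p p.2 hp1
        have hq' := hgQ q hq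
        refine ⟨⟨(g * q * g⁻¹) * x⁻¹ * (g * q * g⁻¹)⁻¹, hnorm _ hq' _ (P.inv_mem hx)⟩, ?_⟩
        rw [hφ, hφ, MulAction.Quotient.smul_mk, smul_eq_mul, QuotientGroup.eq, hpq]
        have key : ((g * q * g⁻¹) * x⁻¹ * (g * q * g⁻¹)⁻¹ * g)⁻¹ * (g * (q * x * q⁻¹ * g))
            = q * x⁻¹ * (g * q * g⁻¹)⁻¹ := by
          rw [inv_mul_eq_iff_eq_mul]
          calc g * (q * x * q⁻¹ * g)
              = g * (q * (g⁻¹ * x⁻¹ * g⁻¹ * x⁻¹ * g⁻¹) * q⁻¹ * g) := by rw [← hcore]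
            _ = g * q * g⁻¹ * x⁻¹ * g * x⁻¹ * g * q⁻¹ * g⁻¹ := by
                rw [hginv]; simp only [mul_assoc]
            _ = ((g * q * g⁻¹) * x⁻¹ * (g * q * g⁻¹)⁻¹ * g) * (q * x⁻¹ * (g * q * g⁻¹)⁻¹) := by
                group
        rw [key]
        exact B.mul_mem (B.mul_mem (hQB hq) (hPB (P.inv_mem hx))) (B.inv_mem (hQB hq'))
  refine ⟨MulAction.stabilizer G X, ?_⟩
  obtain ⟨M, hMdef⟩ : ∃ M : Subgroup G, M = MulAction.stabilizer G X := ⟨_, rfl⟩
  rw [← hMdef]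
  rw [← hMdef] at hBM hgM
  have horb : MulAction.orbit M pt = X := by
    ext a
    constructor
    · rintro ⟨m, rfl⟩
      have hall : ∀ y ∈ M, y • X = X := by
        intro y hy
        rw [hMdef] at hy
        exact hy
      have hm : (m : G) • X = X := hall _ m.2
      have h1 : (m : G) • pt ∈ (m : G) • X :=
        Set.smul_mem_smul_set ((hXmem pt).2 (Or.inl rfl))
      rw [hm] at h1
      exact h1
    · intro ha
      rcases (hXmem a).1 ha with rfl | ⟨p, rfl⟩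
      · exact MulAction.mem_orbit_self _
      · refine ⟨⟨(p : G) * g, M.mul_mem (hBM (hPB p.2)) hgM⟩, ?_⟩
        show ((p : G) * g) • pt = φ p
        rw [hφ, hpt, MulAction.Quotient.smul_mk, smul_eq_mul, mul_one]
  have hstab : MulAction.stabilizer M pt = B.subgroupOf M := by
    ext m
    rw [MulAction.mem_stabilizer_iff, Subgroup.mem_subgroupOf]
    show (m : G) • pt = pt ↔ (m : G) ∈ B
    rw [hpt, MulAction.Quotient.smul_mk, QuotientGroup.eq, smul_eq_mul, mul_one, mul_one,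
      inv_mem_iff]
  have h1 := Subgroup.card_mul_index (MulAction.stabilizer M pt)
  rw [MulAction.index_stabilizer, horb, hXcard, hstab,
    Nat.card_congr (Subgroup.subgroupOfEquivOfLe hBM).toEquiv, hBcard] at h1
  omega

end BN

section check

example {G : Type*} [Group G] [Finite G] (P Q : Subgroup G) (g x : G)
    (hP : Nat.card P = 9) (hQ : Nat.card Q = 8) (hQP : Q ≤ normalizer (P : Set G))
    (hreg : ∀ q ∈ Q, q ≠ 1 → ∀ p ∈ P, p ≠ 1 → q * p * q⁻¹ ≠ p)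
    (hg2 : g * g = 1) (hgQ : ∀ q ∈ Q, g * q * g⁻¹ ∈ Q)
    (hTI : ∀ p ∈ P, p ≠ 1 → g * p * g⁻¹ ∉ P)
    (hx : x ∈ P) (hx1 : x ≠ 1) (hrel : (g * x) ^ 3 = 1) :
    ∃ M : Subgroup G, Nat.card M = 720 :=
  exists_card_720 P Q g x hP hQ hQP hreg hg2 hgQ hTI hx hx1 hrel

end check

end Cfsg.Agent.H4.M11
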