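import Mathlib
import Cfsg.Agent.H4.M11BN

/-!
# Piece S0420-DQ (for helper93): a semiregular subgroup `Q` of order `8`
-/

set_option autoImplicit false

open Subgroup

namespace Cfsg.Agent.H4.M11

section DQ

variable {G : Type*} [Group G]

theorem eq_one_of_sq_of_cube {z : G} (h2 : z * z = 1) (h3 : z ^ 3 = 1) : z = 1 := by
  calc z = z ^ 3 * (z * z)⁻¹ := by group
    _ = 1 := by rw [h3, h2]; simp

theorem comm_of_inverts (P : Subgroup G) (t : G) (htP : ∀ p ∈ P, t * p * t⁻¹ = p⁻¹) :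
    ∀ a ∈ P, ∀ b ∈ P, a * b = b * a := by
  intro a ha b hb
  have h1 := htP (a * b) (P.mul_mem ha hb)
  have h2 : t * (a * b) * t⁻¹ = (t * a * t⁻¹) * (t * b * t⁻¹) := by group
  rw [h2, htP a ha, htP b hb, mul_inv_rev] at h1
  have h3 := congrArg (fun z => z⁻¹) h1
  simp only [mul_inv_rev, inv_inv] at h3
  exact h3.symm

theorem eq_one_of_comm_inverts (P : Subgroup G) (t : G) (hexp : ∀ p ∈ P, p ^ 3 = 1)
    (htP : ∀ p ∈ P, t * p * t⁻¹ = p⁻¹) : ∀ z ∈ P, z * t = t * z → z = 1 := by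
  intro z hz hzt
  have h1 := htP z hz
  rw [← hzt, mul_inv_cancel_right] at h1
  exact eq_one_of_sq_of_cube (mul_eq_one_iff_eq_inv.2 h1) (hexp z hz)

theorem ne_inv_of_cube (P : Subgroup G) (hexp : ∀ p ∈ P, p ^ 3 = 1) :
    ∀ p ∈ P, p ≠ 1 → p⁻¹ ≠ p := by
  intro p hp hp1 h
  exact hp1 (eq_one_of_sq_of_cube (mul_eq_one_iff_eq_inv.2 h.symm) (hexp p hp))

theorem mem_of_mem_centralizer [Finite G] (P : Subgroup G)
    (hPab : ∀ a ∈ P, ∀ b ∈ P, a * b = b * a)
    (hcard : Nat.card (centralizer (P : Set G)) = Nat.card P) :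
    ∀ z, z ∈ centralizer (P : Set G) → z ∈ P := by
  have hle : P ≤ centralizer (P : Set G) := fun a ha b hb => hPab b hb a ha
  have h := Subgroup.eq_of_le_of_card_ge hle (le_of_eq hcard)
  intro z hz
  rw [h]; exact hz

/-- `N(P) = P ⋊ (C(t) ∩ N(P))`, so the complement has order `16`. -/
theorem card_centralizer_inf_normalizer [Finite G] (P : Subgroup G) (t : G)
    (hexp : ∀ p ∈ P, p ^ 3 = 1) (hP9 : Nat.card P = 9)
    (hN : Nat.card (normalizer (P : Set G)) = 144)
    (hC : Nat.card (centralizer (P : Set G)) = 9) (ht2 : t * t = 1)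
    (htP : ∀ p ∈ P, t * p * t⁻¹ = p⁻¹) :
    Nat.card (centralizer ({t} : Set G) ⊓ normalizer (P : Set G) : Subgroup G) = 16 := by
  have htinv : t⁻¹ = t := inv_eq_of_mul_eq_one_left ht2
  have htP' : ∀ p ∈ P, t * p * t = p⁻¹ := by
    intro p hp
    have := htP p hp
    rwa [htinv] at this
  have hPab := comm_of_inverts P t htP
  have hCP := mem_of_mem_centralizer P hPab (by rw [hC, hP9])
  have hPt := eq_one_of_comm_inverts P t hexp htP
  have hSN : (centralizer ({t} : Set G) ⊓ normalizer (P : Set G) : Subgroup G) ≤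
      normalizer (P : Set G) := inf_le_right
  have hcard := card_prodSub P _ hSN (fun z hzP hzS => hPt z hzP
    (mem_centralizer_singleton_iff.1 hzS.1))
  have heq : prodSub P _ hSN = normalizer (P : Set G) := by
    apply le_antisymm
    · rintro _ ⟨p, hp, s, hs, rfl⟩
      exact (normalizer (P : Set G)).mul_mem (le_normalizer hp) hs.2
    · intro n hn
      have hn' : ∀ h ∈ P, n⁻¹ * h * n ∈ P := fun h hh => (mem_normalizer_iff''.1 hn h).1 hh
      obtain ⟨p', hp'⟩ : ∃ p' : G, p' = n * t * n⁻¹ * t := ⟨_, rfl⟩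
      have hp'C : p' ∈ centralizer (P : Set G) := by
        rw [mem_centralizer_iff]
        intro h hh
        rw [hp']
        calc h * (n * t * n⁻¹ * t) = n * (n⁻¹ * h⁻¹ * n)⁻¹ * t * n⁻¹ * t := by group
          _ = n * (t * (n⁻¹ * h⁻¹ * n) * t) * t * n⁻¹ * t := by
              rw [htP' _ (hn' _ (P.inv_mem hh))]
          _ = n * t * n⁻¹ * h⁻¹ * n * (t * t) * n⁻¹ * t := by group
          _ = n * t * n⁻¹ * h⁻¹ * t := by rw [ht2]; group
          _ = n * t * n⁻¹ * (t * h * t) * t := by rw [htP' h hh]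
          _ = n * t * n⁻¹ * t * h * (t * t) := by group
          _ = (n * t * n⁻¹ * t) * h := by rw [ht2, mul_one]
      have hp'P : p' ∈ P := hCP p' hp'C
      have e1 : n * t = p' * t * n := by
        rw [hp']
        calc n * t = n * t * n⁻¹ * (t * t) * n := by rw [ht2]; group
          _ = n * t * n⁻¹ * t * t * n := by group
      have e2 : t * p' = p'⁻¹ * t := by
        have := htP' p' hp'P
        calc t * p' = (t * p' * t) * t⁻¹ := by group
          _ = p'⁻¹ * t := by rw [this, htinv]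
      have e3 : p'⁻¹ = p' * p' := by
        have := hexp p' hp'P
        calc p'⁻¹ = p'⁻¹ * p' ^ 3 := by rw [this, mul_one]
          _ = p'⁻¹ * (p' * p' * p') := by rw [pow_succ, pow_two]
          _ = p' * p' := by group
      refine ⟨p'⁻¹, P.inv_mem hp'P, p' * n,
        ⟨mem_centralizer_singleton_iff.2 ?_,
          (normalizer (P : Set G)).mul_mem (le_normalizer hp'P) hn⟩, by group⟩
      calc p' * n * t = p' * (n * t) := by group
        _ = p' * (p' * t * n) := by rw [← e1]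
        _ = p' * p' * t * n := by group
        _ = p'⁻¹ * t * n := by rw [e3]
        _ = (t * p') * n := by rw [e2]
        _ = t * (p' * n) := by group
  rw [heq, hN, hP9] at hcard
  omega

/-- The normal core of a subgroup of index `3`. -/
theorem exists_core [Finite G] (C S : Subgroup G) (hSC : S ≤ C)
    (hC : Nat.card C = 48) (hS : Nat.card S = 16) :
    ∃ Q : Subgroup G, Q ≤ S ∧ (∀ c ∈ C, ∀ q ∈ Q, c * q * c⁻¹ ∈ Q) ∧
      (∀ z ∈ S, (∀ c ∈ C, c * z * c⁻¹ = z) → z ∈ Q) ∧
      (Nat.card Q = 8 ∨ Q = S) := by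
  obtain ⟨Sc, hSc⟩ : ∃ Sc : Subgroup C, Sc = S.subgroupOf C := ⟨_, rfl⟩
  obtain ⟨K, hK⟩ : ∃ K : Subgroup C, K = Sc.normalCore := ⟨_, rfl⟩
  have hKn : K.Normal := hK ▸ Subgroup.normalCore_normal Sc
  have hKle : K ≤ Sc := hK ▸ Subgroup.normalCore_le Sc
  have hSc16 : Nat.card Sc = 16 := by
    rw [hSc, Nat.card_congr (Subgroup.subgroupOfEquivOfLe hSC).toEquiv, hS]
  have hScidx : Sc.index = 3 := by
    have := Subgroup.card_mul_index Sc
    rw [hSc16, hC] at this
    omega
  have hKidx : K.index ∣ 6 := by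
    rw [hK, Subgroup.normalCore_eq_ker, Subgroup.index_ker]
    have h1 := Subgroup.card_subgroup_dvd_card (MulAction.toPermHom C (C ⧸ Sc)).range
    have h2 : Nat.card (Equiv.Perm (C ⧸ Sc)) = 6 := by
      rw [Nat.card_perm, ← Subgroup.index_eq_card, hScidx]; rfl
    rwa [h2] at h1
  have hKcard : Nat.card K = 8 ∨ Nat.card K = 16 := by
    have h1 := Subgroup.card_mul_index K
    rw [hC] at h1
    have h2 : Nat.card K ∣ 16 := hSc16 ▸ Subgroup.card_dvd_of_le hKle
    have h3 : K.index ≤ 6 := Nat.le_of_dvd (by norm_num) hKidx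
    generalize K.index = i at h1 hKidx h3
    generalize Nat.card K = a at h1 h2
    obtain ⟨m, hm⟩ := h2
    interval_cases i
    · omega
    · have ha : a = 48 := by omega
      subst ha; omega
    · have ha : a = 24 := by omega
      subst ha; omega
    · right; omega
    · omega
    · omega
    · left; omega
  have hQS : K.map C.subtype ≤ S := by
    rintro _ ⟨k, hk, rfl⟩
    have := hKle hk
    rw [hSc] at this
    exact Subgroup.mem_subgroupOf.1 this
  have hQcard : Nat.card (K.map C.subtype) = Nat.card K :=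
    Nat.card_congr (K.equivMapOfInjective C.subtype (Subgroup.subtype_injective C)).toEquiv.symm
  refine ⟨K.map C.subtype, hQS, ?_, ?_, ?_⟩
  · rintro c hc _ ⟨k, hk, rfl⟩
    exact ⟨⟨c, hc⟩ * k * ⟨c, hc⟩⁻¹, hKn.conj_mem k hk ⟨c, hc⟩, rfl⟩
  · intro z hz hcen
    refine ⟨⟨z, hSC hz⟩, ?_, rfl⟩
    rw [hK]
    intro b
    rw [hSc, Subgroup.mem_subgroupOf]
    show (b : G) * z * (b : G)⁻¹ ∈ S
    rw [hcen b b.2]
    exact hz
  · rcases hKcard with h | h
    · left; rw [hQcard, h]
    · right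
      exact Subgroup.eq_of_le_of_card_ge hQS (by rw [hQcard, h, hS])

/-- An involution outside a subgroup of order `16` cannot normalize it when `32 ∤ |G|`. -/
theorem not_normalize [Finite G] (hG : Nat.card G = 7920) (S : Subgroup G)
    (hS : Nat.card S = 16) (g : G) (hg : orderOf g = 2) (hgS : g ∉ S)
    (hn : ∀ s ∈ S, g * s * g⁻¹ ∈ S) : False := by
  have hg2 : g * g = 1 := by rw [← pow_two, ← hg]; exact pow_orderOf_eq_one g
  have hZ : zpowers g ≤ normalizer (S : Set G) := by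
    rw [zpowers_le, mem_normalizer_iff]
    intro h
    refine ⟨hn h, fun hh => ?_⟩
    have h1 := hn _ hh
    have h2 : g * (g * h * g⁻¹) * g⁻¹ = (g * g) * h * (g * g)⁻¹ := by group
    rw [h2, hg2] at h1
    simpa using h1
  have htriv : ∀ z ∈ S, z ∈ zpowers g → z = 1 := by
    intro z hzS hzZ
    obtain ⟨k, rfl⟩ := mem_zpowers_iff.1 hzZ
    have h1 := zpow_mod_orderOf g k
    rw [hg] at h1
    rcases Int.emod_two_eq_zero_or_one k with h | h
    · rw [← h1]
      have : k % ((2 : ℕ) : ℤ) = 0 := h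
      rw [this, zpow_zero]
    · exfalso
      apply hgS
      have : k % ((2 : ℕ) : ℤ) = 1 := h
      rw [this, zpow_one] at h1
      rw [h1]; exact hzS
  have hcard := card_prodSub S (zpowers g) hZ htriv
  rw [hS, Nat.card_zpowers, hg] at hcard
  have hdvd := Subgroup.card_subgroup_dvd_card (prodSub S (zpowers g) hZ)
  rw [hcard, hG] at hdvd
  norm_num at hdvd

/-- The counting argument: `Q` is semiregular on `P \ {1}`. -/
theorem semiregular_aux [Finite G]
    (h18 : ∀ x : G, orderOf x = 3 → Nat.card (centralizer ({x} : Set G)) = 18)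
    (P : Subgroup G) (hP9 : Nat.card P = 9) (hexp : ∀ p ∈ P, p ^ 3 = 1)
    (hPab : ∀ a ∈ P, ∀ b ∈ P, a * b = b * a)
    (hCP : ∀ z, z ∈ centralizer (P : Set G) → z ∈ P)
    (t : G) (ht2 : t * t = 1) (ht1 : t ≠ 1) (htP : ∀ p ∈ P, t * p * t⁻¹ = p⁻¹)
    (Q : Subgroup G) (hQ8 : Nat.card Q = 8) (hQN : Q ≤ normalizer (P : Set G))
    (hQt : ∀ q ∈ Q, q * t = t * q) (htQ : t ∈ Q)
    (y : G) (hy : orderOf y = 3) (hyt : y * t = t * y) (hyQ : ∀ q ∈ Q, y * q * y⁻¹ ∈ Q) :
    ∀ q ∈ Q, q ≠ 1 → ∀ p ∈ P, p ≠ 1 → q * p * q⁻¹ ≠ p := by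
  classical
  have htinv : t⁻¹ = t := inv_eq_of_mul_eq_one_left ht2
  have hPt := eq_one_of_comm_inverts P t hexp htP
  have hne := ne_inv_of_cube P hexp
  have hord3 : ∀ p ∈ P, p ≠ 1 → orderOf p = 3 :=
    fun p hp hp1 => orderOf_eq_prime (hexp p hp) hp1
  -- centralizers of elements of order `3` meet `Q` in at most two elements
  have hH2 : ∀ z : G, orderOf z = 3 →
      Nat.card (Q ⊓ centralizer ({z} : Set G) : Subgroup G) ∣ 2 := by
    intro z hz
    have h1 : Nat.card (Q ⊓ centralizer ({z} : Set G) : Subgroup G) ∣ 8 :=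
      hQ8 ▸ Subgroup.card_dvd_of_le inf_le_left
    have h2 : Nat.card (Q ⊓ centralizer ({z} : Set G) : Subgroup G) ∣ 18 :=
      h18 z hz ▸ Subgroup.card_dvd_of_le inf_le_right
    exact Nat.dvd_gcd h1 h2
  have hmemH : ∀ z r : G, r ∈ Q → r * z = z * r →
      r ∈ (Q ⊓ centralizer ({z} : Set G) : Subgroup G) :=
    fun z r hr hrz => ⟨hr, mem_centralizer_singleton_iff.2 hrz⟩
  have hsq : ∀ z : G, orderOf z = 3 → ∀ r ∈ Q, r * z = z * r → r * r = 1 := by
    intro z hz r hr hrz
    have h0 := orderOf_dvd_natCard (⟨r, hmemH z r hr hrz⟩ :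
      (Q ⊓ centralizer ({z} : Set G) : Subgroup G))
    rw [Subgroup.orderOf_mk] at h0
    have h1 : orderOf r ∣ 2 := h0.trans (hH2 z hz)
    rw [← pow_two]
    exact orderOf_dvd_iff_pow_eq_one.1 h1
  have huniq : ∀ z : G, orderOf z = 3 → ∀ r ∈ Q, r * z = z * r → r ≠ 1 →
      ∀ r' ∈ Q, r' * z = z * r' → r' ≠ 1 → r = r' := by
    intro z hz r hr hrz hr1 r' hr' hr'z hr'1
    by_contra hrr
    have hsub : ({1, r, r'} : Set G) ⊆
        ((Q ⊓ centralizer ({z} : Set G) : Subgroup G) : Set G) := by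
      intro a ha
      simp only [Set.mem_insert_iff, Set.mem_singleton_iff] at ha
      rcases ha with rfl | rfl | rfl
      · exact Subgroup.one_mem _
      · exact hmemH z _ hr hrz
      · exact hmemH z _ hr' hr'z
    have h3 : ({1, r, r'} : Set G).ncard = 3 := by
      rw [Set.ncard_insert_of_notMem, Set.ncard_pair hrr]
      simp only [Set.mem_insert_iff, Set.mem_singleton_iff, not_or]
      exact ⟨fun h => hr1 h.symm, fun h => hr'1 h.symm⟩
    have h4 := Set.ncard_le_ncard hsub (Set.toFinite _)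
    have h5 : (((Q ⊓ centralizer ({z} : Set G) : Subgroup G) : Set G)).ncard ≤ 2 :=
      Nat.le_of_dvd (by norm_num) (hH2 z hz)
    omega
  intro q₀ hq₀ hq₀1 p₀ hp₀ hp₀1 hfix
  have hq₀p : q₀ * p₀ = p₀ * q₀ := mul_inv_eq_iff_eq_mul.1 hfix
  have hnormP : ∀ q ∈ Q, ∀ p ∈ P, q * p * q⁻¹ ∈ P :=
    fun q hq p hp => (mem_normalizer_iff.1 (hQN hq) p).1 hp
  -- every involution of `Q` other than `t` fixes a nontrivial element of `P`
  have hstepII : ∀ r ∈ Q, r * r = 1 → r ≠ t → ∃ p ∈ P, p ≠ 1 ∧ r * p = p * r := by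
    intro r hr hrr hrt
    by_contra hno
    have hno' : ∀ p ∈ P, r * p = p * r → p = 1 := by
      intro p hp hc
      by_contra hp1
      exact hno ⟨p, hp, hp1, hc⟩
    have hrinv : r⁻¹ = r := inv_eq_of_mul_eq_one_left hrr
    have hinvP : ∀ p ∈ P, r * p * r = p⁻¹ := by
      intro p hp
      have hrp : r * p * r ∈ P := by
        have := hnormP r hr p hp
        rwa [hrinv] at this
      have hw : p * (r * p * r) = 1 := by
        apply hno' _ (P.mul_mem hp hrp)
        calc r * (p * (r * p * r)) = ((r * p * r) * p) * r := by group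
          _ = (p * (r * p * r)) * r := by rw [hPab _ hrp p hp]
      exact eq_inv_of_mul_eq_one_right hw
    have hz : r * t ∈ centralizer (P : Set G) := by
      rw [mem_centralizer_iff]
      intro h hh
      have e1 : t * h = h⁻¹ * t := by
        have := htP h hh
        calc t * h = (t * h * t⁻¹) * t := by group
          _ = h⁻¹ * t := by rw [this]
      have e2 : r * h⁻¹ = h * r := by
        have := hinvP h⁻¹ (P.inv_mem hh)
        calc r * h⁻¹ = (r * h⁻¹ * r) * r⁻¹ := by group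
          _ = h * r := by rw [this, inv_inv, hrinv]
      calc h * (r * t) = (h * r) * t := by group
        _ = (r * h⁻¹) * t := by rw [e2]
        _ = r * (h⁻¹ * t) := by group
        _ = r * (t * h) := by rw [e1]
        _ = r * t * h := by group
    have hz1 : r * t = 1 := by
      apply hPt _ (hCP _ hz)
      calc r * t * t = (t * r) * t := by rw [hQt r hr]
        _ = t * (r * t) := by group
    apply hrt
    rw [← htinv]
    exact eq_inv_of_mul_eq_one_left hz1
  -- the set of involutions of `Q` other than `t`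
  let α := {r : G // r ∈ Q ∧ r * r = 1 ∧ r ≠ 1 ∧ r ≠ t}
  have : Fintype α := Fintype.ofFinite α
  have hq₀t : q₀ ≠ t := by
    intro h
    rw [h, htP p₀ hp₀] at hfix
    exact hne p₀ hp₀ hp₀1 hfix
  have hα0 : 0 < Fintype.card α :=
    Fintype.card_pos_iff.2
      ⟨⟨q₀, hq₀, hsq p₀ (hord3 p₀ hp₀ hp₀1) q₀ hq₀ hq₀p, hq₀1, hq₀t⟩⟩
  have hy3 : y ^ 3 = 1 := by rw [← hy]; exact pow_orderOf_eq_one y
  have hyyy : y * y * y = 1 := by rw [← pow_two, ← pow_succ]; exact hy3
  have h3 : 3 ∣ Fintype.card α := by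
    have hf3 : ∀ r : G, (r ∈ Q ∧ r * r = 1 ∧ r ≠ 1 ∧ r ≠ t) →
        (y * r * y⁻¹ ∈ Q ∧ (y * r * y⁻¹) * (y * r * y⁻¹) = 1 ∧ y * r * y⁻¹ ≠ 1 ∧
          y * r * y⁻¹ ≠ t) := by
      rintro r ⟨hr, hrr, hr1, hrt⟩
      refine ⟨hyQ r hr, ?_, fun h => hr1 (conj_eq_one_iff.1 h), fun h => hrt ?_⟩
      · calc (y * r * y⁻¹) * (y * r * y⁻¹) = y * (r * r) * y⁻¹ := by group
          _ = 1 := by rw [hrr]; group
      · calc r = y⁻¹ * (y * r * y⁻¹) * y := by group
          _ = y⁻¹ * (t * y) := by rw [h]; group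
          _ = y⁻¹ * (y * t) := by rw [hyt]
          _ = t := by group
    let f : Function.End α := fun r => ⟨y * r.1 * y⁻¹, hf3 r.1 r.2⟩
    have hf : f ^ 3 ^ 1 = 1 := by
      have hpt : ∀ r : α, (f ^ 3) r = r := by
        intro r
        show f (f (f r)) = r
        apply Subtype.ext
        show y * (y * (y * r.1 * y⁻¹) * y⁻¹) * y⁻¹ = r.1
        calc y * (y * (y * r.1 * y⁻¹) * y⁻¹) * y⁻¹
            = (y * y * y) * r.1 * (y * y * y)⁻¹ := by group
          _ = r.1 := by rw [hyyy]; group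
      rw [pow_one]
      exact funext hpt
    have hmod := Equiv.Perm.card_fixedPoints_modEq (p := 3) (n := 1) hf
    have hfix0 : Fintype.card (Function.fixedPoints f) = 0 := by
      rw [Fintype.card_eq_zero_iff]
      refine ⟨fun ⟨r, hr⟩ => ?_⟩
      have hr' : y * r.1 * y⁻¹ = r.1 := congrArg Subtype.val hr
      have hry : r.1 * y = y * r.1 := (mul_inv_eq_iff_eq_mul.1 hr').symm
      exact r.2.2.2.2 (huniq y hy r.1 r.2.1 hry r.2.2.2.1 t htQ hyt.symm ht1)
    rw [hfix0] at hmod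
    exact (Nat.modEq_zero_iff_dvd).1 hmod
  have h2 : 2 ∣ Fintype.card α := by
    have hf2 : ∀ r : G, (r ∈ Q ∧ r * r = 1 ∧ r ≠ 1 ∧ r ≠ t) →
        (r * t ∈ Q ∧ (r * t) * (r * t) = 1 ∧ r * t ≠ 1 ∧ r * t ≠ t) := by
      rintro r ⟨hr, hrr, hr1, hrt⟩
      refine ⟨Q.mul_mem hr htQ, ?_, fun h => hrt ?_, fun h => hr1 ?_⟩
      · calc (r * t) * (r * t) = r * (t * r) * t := by group
          _ = r * (r * t) * t := by rw [hQt r hr]
          _ = (r * r) * (t * t) := by group
          _ = 1 := by rw [hrr, ht2, mul_one]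
      · rw [← htinv]
        exact eq_inv_of_mul_eq_one_left h
      · exact mul_eq_right.1 h
    let f : Function.End α := fun r => ⟨r.1 * t, hf2 r.1 r.2⟩
    have hf : f ^ 2 ^ 1 = 1 := by
      have hpt : ∀ r : α, (f ^ 2) r = r := by
        intro r
        show f (f r) = r
        apply Subtype.ext
        show r.1 * t * t = r.1
        rw [mul_assoc, ht2, mul_one]
      rw [pow_one]
      exact funext hpt
    have hmod := Equiv.Perm.card_fixedPoints_modEq (p := 2) (n := 1) hf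
    have hfix0 : Fintype.card (Function.fixedPoints f) = 0 := by
      rw [Fintype.card_eq_zero_iff]
      refine ⟨fun ⟨r, hr⟩ => ?_⟩
      have hr' : r.1 * t = r.1 := congrArg Subtype.val hr
      exact ht1 (mul_eq_left.1 hr')
    rw [hfix0] at hmod
    exact (Nat.modEq_zero_iff_dvd).1 hmod
  have h6 : 6 ≤ Fintype.card α := by omega
  -- choose a fixed point for each element
  choose pc hpcP hpc1 hpcc using
    (fun r : α => hstepII r.1 r.2.1 r.2.2.1 r.2.2.2.2)
  let v : α × Bool → G := fun x => bif x.2 then pc x.1 else (pc x.1)⁻¹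
  have hvP : ∀ x, v x ∈ P ∧ v x ≠ 1 ∧ (x.1 : G) * v x = v x * (x.1 : G) := by
    rintro ⟨r, b⟩
    cases b
    · refine ⟨P.inv_mem (hpcP r), inv_ne_one.2 (hpc1 r), ?_⟩
      have hc : Commute (r : G) (pc r) := hpcc r
      exact hc.inv_right.eq
    · exact ⟨hpcP r, hpc1 r, hpcc r⟩
  have hvinj : Function.Injective v := by
    rintro ⟨r, b⟩ ⟨r', b'⟩ h
    have hr := hvP (r, b)
    have hr' := hvP (r', b')
    rw [← h] at hr'
    have hrr' : (r : G) = (r' : G) :=
      huniq (v (r, b)) (hord3 _ hr.1 hr.2.1) r r.2.1 hr.2.2 r.2.2.2.1 r' r'.2.1 hr'.2.2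
        r'.2.2.2.1
    have hrr'' : r = r' := Subtype.ext hrr'
    subst hrr''
    cases b <;> cases b'
    · rfl
    · exact absurd h (hne _ (hpcP r) (hpc1 r))
    · exact absurd h.symm (hne _ (hpcP r) (hpc1 r))
    · rfl
  have hcount : Nat.card (α × Bool) ≤ 8 := by
    have hsub : Set.range v ⊆ (P : Set G) \ {1} := by
      rintro _ ⟨x, rfl⟩
      exact ⟨(hvP x).1, (hvP x).2.1⟩
    have h8 : ((P : Set G) \ {1}).ncard = 8 := by
      rw [Set.ncard_sdiff_singleton_of_mem P.one_mem]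
      have : (P : Set G).ncard = 9 := by rw [← hP9]; exact (Nat.card_coe_set_eq _).symm
      omega
    have := Set.ncard_le_ncard hsub (Set.toFinite _)
    rw [Set.ncard_range_of_injective hvinj, h8] at this
    exact this
  rw [Nat.card_prod, Nat.card_eq_fintype_card, Nat.card_eq_fintype_card,
    Fintype.card_bool] at hcount
  omega

/-- **Piece S0420-DQ.** -/
theorem exists_regular_Q {G : Type*} [Group G] [Finite G] (hG : Nat.card G = 7920)
    (h48 : ∀ t : G, orderOf t = 2 → Nat.card (centralizer ({t} : Set G)) = 48)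
    (h18 : ∀ x : G, orderOf x = 3 → Nat.card (centralizer ({x} : Set G)) = 18)
    (P : Sylow 3 G) (hP9 : Nat.card (P : Subgroup G) = 9)
    (hexp : ∀ p ∈ (P : Subgroup G), p ^ 3 = 1)
    (hN : Nat.card (normalizer ((P : Subgroup G) : Set G)) = 144)
    (hC : Nat.card (centralizer ((P : Subgroup G) : Set G)) = 9)
    (t g : G) (ht : orderOf t = 2) (htP : ∀ p ∈ (P : Subgroup G), t * p * t⁻¹ = p⁻¹)
    (hg : orderOf g = 2) (hgt : g * t = t * g)
    (hgP : g ∉ normalizer ((P : Subgroup G) : Set G)) :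
    ∃ Q : Subgroup G, Nat.card Q = 8 ∧ Q ≤ normalizer ((P : Subgroup G) : Set G) ∧
      (∀ q ∈ Q, g * q * g⁻¹ ∈ Q) ∧
      (∀ q ∈ Q, q ≠ 1 → ∀ p ∈ (P : Subgroup G), p ≠ 1 → q * p * q⁻¹ ≠ p) := by
  classical
  have ht2 : t * t = 1 := by rw [← pow_two, ← ht]; exact pow_orderOf_eq_one t
  have ht1 : t ≠ 1 := by
    intro h
    rw [h, orderOf_one] at ht
    norm_num at ht
  have htinv : t⁻¹ = t := inv_eq_of_mul_eq_one_left ht2
  have hPab := comm_of_inverts (P : Subgroup G) t htP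
  have hCP := mem_of_mem_centralizer (P : Subgroup G) hPab (by rw [hC, hP9])
  have hS16 := card_centralizer_inf_normalizer (P : Subgroup G) t hexp hP9 hN hC ht2 htP
  have hC48 : Nat.card (centralizer ({t} : Set G)) = 48 := h48 t ht
  obtain ⟨Q, hQS, hQinv, hQcen, hQcard⟩ :=
    exists_core (centralizer ({t} : Set G))
      (centralizer ({t} : Set G) ⊓ normalizer ((P : Subgroup G) : Set G)) inf_le_left hC48 hS16
  have hgC : g ∈ centralizer ({t} : Set G) := mem_centralizer_singleton_iff.2 hgt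
  have hQ8 : Nat.card Q = 8 := by
    rcases hQcard with h | h
    · exact h
    · exfalso
      apply not_normalize hG _ hS16 g hg (fun h' => hgP h'.2)
      intro s hs
      rw [← h] at hs ⊢
      exact hQinv g hgC s hs
  have htN : t ∈ normalizer ((P : Subgroup G) : Set G) := by
    rw [mem_normalizer_iff]
    intro h
    constructor
    · intro hh
      rw [htP h hh]
      exact inv_mem hh
    · intro hh
      have h1 := htP _ hh
      have h2 : t * (t * h * t⁻¹) * t⁻¹ = (t * t) * h * (t * t)⁻¹ := by group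
      rw [h2, ht2] at h1
      have h3 : h = (t * h * t⁻¹)⁻¹ := by simpa using h1
      rw [h3]
      exact inv_mem hh
  have htS : t ∈ centralizer ({t} : Set G) ⊓ normalizer ((P : Subgroup G) : Set G) :=
    ⟨mem_centralizer_singleton_iff.2 rfl, htN⟩
  have htQ : t ∈ Q := by
    apply hQcen t htS
    intro c hc
    have := mem_centralizer_singleton_iff.1 hc
    rw [this, mul_inv_cancel_right]
  obtain ⟨y', hy'⟩ := exists_prime_orderOf_dvd_card' (G := centralizer ({t} : Set G)) 3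
    (by rw [hC48]; norm_num)
  have hQN : Q ≤ normalizer ((P : Subgroup G) : Set G) := hQS.trans inf_le_right
  have hQt : ∀ q ∈ Q, q * t = t * q :=
    fun q hq => mem_centralizer_singleton_iff.1 (hQS hq).1
  refine ⟨Q, hQ8, hQN, fun q hq => hQinv g hgC q hq, ?_⟩
  exact semiregular_aux h18 (P : Subgroup G) hP9 hexp hPab hCP t ht2 ht1 htP Q hQ8 hQN hQt htQ
    (y' : G) (by rw [Subgroup.orderOf_coe]; exact hy') (mem_centralizer_singleton_iff.1 y'.2)
    (fun q hq => hQinv _ y'.2 q hq)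

end DQ

section checkDQ

example {G : Type*} [Group G] [Finite G] (hG : Nat.card G = 7920)
    (h48 : ∀ t : G, orderOf t = 2 → Nat.card (centralizer ({t} : Set G)) = 48)
    (h18 : ∀ x : G, orderOf x = 3 → Nat.card (centralizer ({x} : Set G)) = 18)
    (P : Sylow 3 G) (hP9 : Nat.card (P : Subgroup G) = 9)
    (hexp : ∀ p ∈ (P : Subgroup G), p ^ 3 = 1)
    (hN : Nat.card (normalizer ((P : Subgroup G) : Set G)) = 144)
    (hC : Nat.card (centralizer ((P : Subgroup G) : Set G)) = 9)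
    (t g : G) (ht : orderOf t = 2) (htP : ∀ p ∈ (P : Subgroup G), t * p * t⁻¹ = p⁻¹)
    (hg : orderOf g = 2) (hgt : g * t = t * g)
    (hgP : g ∉ normalizer ((P : Subgroup G) : Set G)) :
    ∃ Q : Subgroup G, Nat.card Q = 8 ∧ Q ≤ normalizer ((P : Subgroup G) : Set G) ∧
      (∀ q ∈ Q, g * q * g⁻¹ ∈ Q) ∧
      (∀ q ∈ Q, q ≠ 1 → ∀ p ∈ (P : Subgroup G), p ≠ 1 → q * p * q⁻¹ ≠ p) :=
  exists_regular_Q hG h48 h18 P hP9 hexp hN hC t g ht htP hg hgt hgP

end checkDQ

end Cfsg.Agent.H4.M11
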