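import Cfsg.Agent.H17.PmDefs

/-!
# Piece S2140-TRDUAL (for helper17): subgroups of prime index contain a hyperplane
-/

set_option autoImplicit false

namespace Cfsg.Agent.H4.Pm

open Cfsg Cfsg.Geo Cfsg.Agent.H17.Mn Cfsg.Agent.H17.Pm
open scoped MatrixGroups Matrix

/-- In a finite vector space over a finite field `F`, an additive subgroup of prime index
contains the kernel of a non-zero `F`-linear form. -/
theorem exists_linear_ker_le {F : Type*} [Field F] [Fintype F] {Y : Type*} [AddCommGroup Y]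
    [Module F Y] [Finite Y] (A : AddSubgroup Y) (hA : A.index.Prime) :
    ∃ ℓ : Y →ₗ[F] F, ℓ ≠ 0 ∧ ∀ y, ℓ y = 0 → y ∈ A := by
  classical
  obtain ⟨p, hpchar⟩ := CharP.exists F
  have hp : p.Prime := CharP.char_is_prime F p
  have hfact : Fact p.Prime := ⟨hp⟩
  have hpY : ∀ x : Y, p • x = 0 := by
    intro x
    rw [← Nat.cast_smul_eq_nsmul F p x, CharP.cast_eq_zero F p, zero_smul]
  have hpF : ∀ x : F, p • x = 0 := by
    intro x
    rw [nsmul_eq_mul, CharP.cast_eq_zero F p, zero_mul]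
  have instY : Module (ZMod p) Y := AddCommGroup.zmodModule hpY
  have instF : Module (ZMod p) F := AddCommGroup.zmodModule hpF
  -- a point outside `A`
  obtain ⟨y₁, hy₁⟩ : ∃ y₁, y₁ ∉ A := by
    by_contra h
    have htop : A = ⊤ := by
      ext x
      constructor
      · intro _; trivial
      · intro _
        by_contra hx
        exact h ⟨x, hx⟩
    rw [htop, AddSubgroup.index_top] at hA
    exact Nat.not_prime_one hA
  -- a separating `ZMod p`-linear form
  obtain ⟨S', hS'⟩ : ∃ S' : Submodule (ZMod p) Y, S' = AddSubgroup.toZModSubmodule p A :=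
    ⟨_, rfl⟩
  have hSS' : ∀ x : Y, x ∈ S' ↔ x ∈ A := by
    intro x
    rw [hS']
    exact AddSubgroup.mem_toZModSubmodule p
  obtain ⟨f, hfy, hfS⟩ := Submodule.exists_dual_map_eq_bot_of_notMem
    (fun h => hy₁ ((hSS' y₁).1 h)) inferInstance
  have hfA : ∀ s ∈ A, f s = 0 := by
    intro s hs
    have hmem : f s ∈ S'.map f := ⟨s, (hSS' s).2 hs, rfl⟩
    rw [hfS] at hmem
    exact hmem
  -- its kernel is `A`
  have hker : ∀ y, f y = 0 → y ∈ A := by
    have hle : A ≤ f.toAddMonoidHom.ker := fun s hs => AddMonoidHom.mem_ker.2 (hfA s hs)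
    have h1 := AddSubgroup.relIndex_mul_index hle
    rw [← h1] at hA
    rcases Nat.prime_mul_iff.1 hA with ⟨-, h2⟩ | ⟨-, h2⟩
    · exfalso
      rw [AddSubgroup.index_eq_one] at h2
      apply hfy
      have hmem : y₁ ∈ f.toAddMonoidHom.ker := by rw [h2]; trivial
      exact AddMonoidHom.mem_ker.1 hmem
    · rw [AddSubgroup.relIndex_eq_one] at h2
      intro y hy
      exact h2 (AddMonoidHom.mem_ker.2 hy)
  -- counting additive characters of `F`
  have hfin : Finite (F →+ ZMod p) :=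
    Finite.of_injective (fun φ : F →+ ZMod p => (φ : F → ZMod p)) DFunLike.coe_injective
  have hcount : Nat.card (F →+ ZMod p) ≤ Nat.card F := by
    rw [Nat.card_congr (AddMonoidHom.toZModLinearMapEquiv p).toEquiv]
    have h1 := Module.natCard_eq_pow_finrank (K := ZMod p) (V := Module.Dual (ZMod p) F)
    have h2 := Module.natCard_eq_pow_finrank (K := ZMod p) (V := F)
    rw [Subspace.dual_finrank_eq] at h1
    exact le_of_eq (h1.trans h2.symm)
  let Φ : F → (F →+ ZMod p) := fun a =>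
    AddMonoidHom.mk' (fun b => f ((b * a) • y₁))
      (by intro b b'; rw [add_mul, add_smul, map_add])
  have hΦ : Function.Injective Φ := by
    intro a a' h
    by_contra hne
    have hsub : a - a' ≠ 0 := sub_ne_zero.2 hne
    have h1 : f (((a - a')⁻¹ * a) • y₁) = f (((a - a')⁻¹ * a') • y₁) :=
      DFunLike.congr_fun h (a - a')⁻¹
    apply hfy
    have h2 : y₁ = ((a - a')⁻¹ * a) • y₁ - ((a - a')⁻¹ * a') • y₁ := by
      rw [← sub_smul, ← mul_sub, inv_mul_cancel₀ hsub, one_smul]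
    rw [h2, map_sub, h1, sub_self]
  have hΦs : Function.Surjective Φ := (hΦ.bijective_of_nat_card_le hcount).2
  -- the largest `F`-subspace inside `A`
  let W : Submodule F Y :=
    { carrier := {θ | ∀ b : F, f (b • θ) = 0}
      add_mem' := by
        intro x x' hx hx' b
        rw [smul_add, map_add, hx b, hx' b, add_zero]
      zero_mem' := by
        intro b
        rw [smul_zero, map_zero]
      smul_mem' := by
        intro a x hx b
        rw [smul_smul]
        exact hx (b * a) }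
  have hWmem : ∀ θ : Y, θ ∈ W ↔ ∀ b : F, f (b • θ) = 0 := fun _ => Iff.rfl
  have hy₁W : y₁ ∉ W := by
    intro h
    apply hfy
    have h1 := (hWmem y₁).1 h 1
    rwa [one_smul] at h1
  obtain ⟨ℓ, hℓ1, hℓW⟩ := Submodule.exists_dual_map_eq_bot_of_notMem hy₁W inferInstance
  refine ⟨ℓ, fun h => hℓ1 (by rw [h]; rfl), ?_⟩
  intro θ hθ
  obtain ⟨a, ha⟩ := hΦs (AddMonoidHom.mk' (fun b => f (b • θ))
    (by intro b b'; rw [add_smul, map_add]))
  have ha' : ∀ b : F, f ((b * a) • y₁) = f (b • θ) := fun b => DFunLike.congr_fun ha b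
  have hmem : θ - a • y₁ ∈ W := by
    rw [hWmem]
    intro b
    rw [smul_sub, map_sub, smul_smul, ha' b, sub_self]
  have h0 : ℓ (θ - a • y₁) = 0 := by
    have hm : ℓ (θ - a • y₁) ∈ W.map ℓ := ⟨_, hmem, rfl⟩
    rw [hℓW] at hm
    exact hm
  rw [map_sub, hθ, zero_sub, neg_eq_zero, map_smul, smul_eq_mul, mul_eq_zero] at h0
  rcases h0 with h0 | h0
  · rw [h0, zero_smul, sub_zero] at hmem
    apply hker
    have h1 := (hWmem θ).1 hmem 1
    rwa [one_smul] at h1
  · exact absurd h0 hℓ1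

variable {ι : Type} [Fintype ι] [DecidableEq ι] {F : Type*} [Field F]

set_option linter.unusedVariables false in
/-- **Piece S2140-TRDUAL.** -/
theorem exists_hyperplane_le [Fintype F] (c : ι → F) (hc : c ≠ 0) (A : AddSubgroup ↥(Yc c))
    (hA : A.index.Prime) :
    ∃ w : ι → F, w ∉ Submodule.span F {c} ∧ ∀ y : ↥(Yc c), y.1 w = 0 → y ∈ A := by
  classical
  have hfin : Finite ((ι → F) →ₗ[F] F) :=
    Finite.of_injective (fun φ : (ι → F) →ₗ[F] F => (φ : (ι → F) → F)) DFunLike.coe_injective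
  obtain ⟨ℓ, hℓ0, hℓA⟩ := exists_linear_ker_le (F := F) A hA
  obtain ⟨g, hg⟩ := LinearMap.exists_extend ℓ
  obtain ⟨w, hwdef⟩ : ∃ w : ι → F, w = (Module.evalEquiv F (ι → F)).symm g := ⟨_, rfl⟩
  have hw : ∀ φ : (ι → F) →ₗ[F] F, φ w = g φ := by
    intro φ
    rw [hwdef]
    exact Module.apply_evalEquiv_symm_apply F (ι → F) φ g
  have hwy : ∀ y : ↥(Yc c), y.1 w = ℓ y := by
    intro y
    rw [hw, ← hg]
    rfl
  refine ⟨w, ?_, fun y hy => hℓA y (by rw [← hwy]; exact hy)⟩
  intro hmem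
  obtain ⟨t, ht⟩ := Submodule.mem_span_singleton.1 hmem
  apply hℓ0
  ext y
  rw [← hwy, ← ht, map_smul, (mem_Yc c y.1).1 y.2, smul_zero]
  rfl

section check

example [Fintype F] (c : ι → F) (hc : c ≠ 0) (A : AddSubgroup ↥(Yc c)) (hA : A.index.Prime) :
    ∃ w : ι → F, w ∉ Submodule.span F {c} ∧ ∀ y : ↥(Yc c), y.1 w = 0 → y ∈ A :=
  exists_hyperplane_le c hc A hA

end check

end Cfsg.Agent.H4.Pm
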