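import Mathlib
import Cfsg.Prelude.Def_Characters
import Cfsg.Agent.Lib.Clifford
import Cfsg.Agent.Lib.CliffordCorr
import Cfsg.Agent.Lib.Gallagher
import Cfsg.Agent.H82.CanonExt
import Cfsg.Agent.H82.PermChar

set_option autoImplicit false
set_option linter.unusedSectionVars false
set_option linter.style.haveILetI false

/-!
# Clifford–Gallagher parametrisation relative to an extension (helper4)

`M ⊴ X`, `θ ∈ Irr(M)`, `T` the inertia group of `θ` and `θh` a character of `T` extending `θ`.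
Then `β ↦ ind_T^X (β θh)` is a bijection from the irreducible characters `β` of `T` that are
constant on `M` onto the irreducible characters of `X` over `θ` (`cg_irr`, `cg_inj`, `cg_surj`).
`mult_formula` computes multiplicities of the restriction along an injective homomorphism
`i : Y →* X` whose range contains `M`.
-/

open Cfsg
open scoped ComplexConjugate

namespace Cfsg.Agent.H4

open Cfsg.Agent.Clifford

universe u v

theorem classInner_one_const' {A : Type*} [Group A] [Fintype A] (c : ℂ) :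
    classInner (1 : A → ℂ) (fun _ => c) = conj c := by
  unfold classInner
  have hA : (Nat.card A : ℂ) ≠ 0 := by exact_mod_cast (Nat.card_pos (α := A)).ne'
  simp only [Pi.one_apply, one_mul, Finset.sum_const, Finset.card_univ, nsmul_eq_mul]
  rw [← Nat.card_eq_fintype_card, ← mul_assoc, inv_mul_cancel₀ hA, one_mul]

/-- An irreducible constituent of a function invariant under translation by the normal subgroup
`N` is constant on `N`. -/
theorem const_of_constituent {G : Type*} [Group G] [Fintype G] (N : Subgroup G) [N.Normal]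
    {A : G → ℂ} (hA : ∀ n ∈ N, ∀ g : G, A (n * g) = A g) (η : IrrCharacter G)
    (hη : classInner A η.1 ≠ 0) : ∀ n ∈ N, η.1 n = η.1 1 := by
  classical
  by_contra hcon
  push Not at hcon
  apply hη
  have hz := Cfsg.Agent.H82.irr_sum_normal_mul_eq_zero η N hcon
  unfold classInner
  have key : ∀ n ∈ N, ∑ g : G, A g * conj (η.1 g) = ∑ g : G, A g * conj (η.1 (n * g)) := by
    intro n hn
    rw [← Equiv.sum_comp (Equiv.mulLeft n) (fun g => A g * conj (η.1 g))]
    refine Finset.sum_congr rfl fun g _ => ?_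
    simp only [Equiv.coe_mulLeft]
    rw [hA n hn g]
  have h2 : ((Finset.univ.filter (· ∈ N)).card : ℂ) * ∑ g : G, A g * conj (η.1 g) = 0 := by
    rw [← nsmul_eq_mul, ← Finset.sum_const]
    rw [Finset.sum_congr rfl (fun n hn => key n (Finset.mem_filter.mp hn).2), Finset.sum_comm]
    apply Finset.sum_eq_zero
    intro g _
    rw [← Finset.mul_sum, ← map_sum, hz g, map_zero, mul_zero]
  have h3 : ((Finset.univ.filter (· ∈ N)).card : ℂ) ≠ 0 := by
    have : (1 : G) ∈ Finset.univ.filter (· ∈ N) := by simp [N.one_mem]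
    exact_mod_cast (Finset.card_pos.mpr ⟨1, this⟩).ne'
  rw [(mul_eq_zero.mp h2).resolve_left h3, mul_zero]

section RelA

variable {X : Type u} [Group X] [Fintype X] (M : Subgroup X) [hM : M.Normal] [Fintype M]

/-- Gallagher's theorem for a subgroup `T` between `M` and the inertia group of `θ`, relative to
a character `θh` of `T` extending `θ`; the characters of `T/M` are the irreducible characters
of `T` that are constant on `M`. -/
theorem gal_T {θ : M → ℂ} (hθ : IsIrrCharacter M θ) {T : Subgroup X} [Fintype T] (hMT : M ≤ T)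
    (hT : T ≤ Clifford.inertia M θ) {θh : T → ℂ} (hθh : IsCharacter T θh)
    (hext : ∀ n : M, θh ⟨n, hMT n.2⟩ = θ n) :
    (∀ β : T → ℂ, IsIrrCharacter T β → (∀ t : T, (t : X) ∈ M → β t = β 1) →
      IsIrrCharacter T (β * θh)) ∧
    (∀ β γ : T → ℂ, IsIrrCharacter T β → (∀ t : T, (t : X) ∈ M → β t = β 1) →
      IsIrrCharacter T γ → (∀ t : T, (t : X) ∈ M → γ t = γ 1) → β * θh = γ * θh → β = γ) ∧
    (∀ ψ : T → ℂ, IsIrrCharacter T ψ → classInner (fun n : M => ψ ⟨n, hMT n.2⟩) θ ≠ 0 →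
      ∃ β : T → ℂ, IsIrrCharacter T β ∧ (∀ t : T, (t : X) ∈ M → β t = β 1) ∧ β * θh = ψ) := by
  classical
  haveI : (M.subgroupOf T).Normal := Subgroup.normal_subgroupOf
  letI : Fintype (M.subgroupOf T) := Fintype.ofFinite _
  let e : M.subgroupOf T ≃* M := Subgroup.subgroupOfEquivOfLe hMT
  set θT : M.subgroupOf T → ℂ := fun n => θ (e n) with hθT_def
  have hθT : IsIrrCharacter (M.subgroupOf T) θT := isIrrCharacter_comp_equiv e hθ
  have hinvT : ∀ g : T, conjChar (M.subgroupOf T) θT g = θT := by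
    intro g
    funext n
    have hg : (g : X) ∈ Clifford.inertia M θ := hT g.2
    rw [Clifford.mem_inertia_iff] at hg
    have h1 := hg (e n)
    show θ (e _) = θ (e n)
    rw [← h1]
    exact congrArg θ (Subtype.ext rfl)
  have hextT : ∀ n : M.subgroupOf T, θh n = θT n := by
    intro n
    show θh (n : T) = θ (e n)
    rw [← hext (e n)]
    exact congrArg θh (Subtype.ext rfl)
  have hover1 : ∀ β : T → ℂ, IsIrrCharacter T β →
      (classInner (indFun (M.subgroupOf T) (1 : M.subgroupOf T → ℂ)) β ≠ 0 ↔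
        ∀ t : T, (t : X) ∈ M → β t = β 1) := by
    intro β hβ
    have hcf : IsClassFunction T β :=
      isClassFunction_of_isCharacter (isCharacter_of_isIrrCharacter hβ)
    rw [frobenius_reciprocity (M.subgroupOf T) 1 β hcf]
    constructor
    · intro h t ht
      have h' : classInner (fun n : M.subgroupOf T => β n) (1 : M.subgroupOf T → ℂ) ≠ 0 := by
        rw [← classInner_conj_symm]
        exact (map_ne_zero _).mpr h
      exact Cfsg.Agent.H82.const_of_over_one (M.subgroupOf T) hβ h'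
        ⟨t, Subgroup.mem_subgroupOf.mpr ht⟩
    · intro h
      have hfun : (fun n : M.subgroupOf T => β n) = fun _ => β 1 := by
        funext n
        exact h n (Subgroup.mem_subgroupOf.mp n.2)
      rw [hfun, classInner_one_const']
      exact (map_ne_zero _).mpr (irr_one_ne_zero' hβ)
  have hoverθ : ∀ ψ : T → ℂ, IsIrrCharacter T ψ →
      (classInner (indFun (M.subgroupOf T) ((1 : M.subgroupOf T → ℂ) * θT)) ψ ≠ 0 ↔
        classInner (fun n : M => ψ ⟨n, hMT n.2⟩) θ ≠ 0) := by
    intro ψ hψ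
    have hcf : IsClassFunction T ψ :=
      isClassFunction_of_isCharacter (isCharacter_of_isIrrCharacter hψ)
    rw [one_mul, frobenius_reciprocity (M.subgroupOf T) θT ψ hcf, ← classInner_conj_symm]
    have h1 : classInner (fun n : M.subgroupOf T => ψ n) θT =
        classInner (fun n : M => ψ ⟨n, hMT n.2⟩) θ := by
      rw [← classInner_comp_equiv e (fun n : M => ψ ⟨n, hMT n.2⟩) θ]
      rfl
    rw [h1]
    exact map_ne_zero _
  obtain ⟨g1, g2, g3⟩ := gallagher (M.subgroupOf T)
    (Cfsg.Agent.H82.isIrrCharacter_one (M.subgroupOf T)) hθT (fun g => rfl) hinvT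
    (by rw [one_mul]; exact hθT) hθh hextT
  refine ⟨fun β hβ hβM => (g1 β hβ ((hover1 β hβ).mpr hβM)).1, ?_, ?_⟩
  · intro β γ hβ hβM hγ hγM hEq
    exact g2 β γ hβ ((hover1 β hβ).mpr hβM) hγ ((hover1 γ hγ).mpr hγM) hEq
  · intro ψ hψ hψθ
    obtain ⟨β, hβ, hβ1, hβψ⟩ := g3 ψ hψ ((hoverθ ψ hψ).mpr hψθ)
    exact ⟨β, hβ, (hover1 β hβ).mp hβ1, hβψ⟩

/-- Clifford + Gallagher: `ind_T^X (β θh)` is irreducible and lies over `θ`. -/
theorem cg_irr {θ : M → ℂ} (hθ : IsIrrCharacter M θ) {T : Subgroup X} [Fintype T] (hMT : M ≤ T)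
    (hT : T = Clifford.inertia M θ) {θh : T → ℂ} (hθh : IsCharacter T θh)
    (hext : ∀ n : M, θh ⟨n, hMT n.2⟩ = θ n)
    {β : T → ℂ} (hβ : IsIrrCharacter T β) (hβM : ∀ t : T, (t : X) ∈ M → β t = β 1) :
    IsIrrCharacter T (β * θh) ∧ classInner (fun n : M => (β * θh) ⟨n, hMT n.2⟩) θ ≠ 0 ∧
    IsIrrCharacter X (indFun T (β * θh)) ∧
    classInner (fun n : M => indFun T (β * θh) (n : X)) θ ≠ 0 := by
  classical
  obtain ⟨g1, -, -⟩ := gal_T M hθ hMT (hT ▸ le_rfl) hθh hext
  have h1 := g1 β hβ hβM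
  have h2 : classInner (fun n : M => (β * θh) ⟨n, hMT n.2⟩) θ ≠ 0 := by
    have hfun : (fun n : M => (β * θh) ⟨n, hMT n.2⟩) = β 1 • θ := by
      funext n
      rw [Pi.mul_apply, hext, hβM ⟨n, hMT n.2⟩ n.2]
      rfl
    rw [hfun, classInner_smul_left, classInner_irr_irr hθ hθ, if_pos rfl, mul_one]
    exact irr_one_ne_zero' hβ
  obtain ⟨h3, h4⟩ := clifford_corr_irr hθ hMT hT h1 h2
  exact ⟨h1, h2, h3, by rw [h4]; exact h2⟩

theorem cg_inj {θ : M → ℂ} (hθ : IsIrrCharacter M θ) {T : Subgroup X} [Fintype T] (hMT : M ≤ T)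
    (hT : T = Clifford.inertia M θ) {θh : T → ℂ} (hθh : IsCharacter T θh)
    (hext : ∀ n : M, θh ⟨n, hMT n.2⟩ = θ n)
    {β γ : T → ℂ} (hβ : IsIrrCharacter T β) (hβM : ∀ t : T, (t : X) ∈ M → β t = β 1)
    (hγ : IsIrrCharacter T γ) (hγM : ∀ t : T, (t : X) ∈ M → γ t = γ 1)
    (hEq : indFun T (β * θh) = indFun T (γ * θh)) : β = γ := by
  obtain ⟨-, g2, -⟩ := gal_T M hθ hMT (hT ▸ le_rfl) hθh hext
  obtain ⟨b1, b2, -, -⟩ := cg_irr M hθ hMT hT hθh hext hβ hβM
  obtain ⟨c1, c2, -, -⟩ := cg_irr M hθ hMT hT hθh hext hγ hγM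
  exact g2 β γ hβ hβM hγ hγM (clifford_corr_inj hθ hMT hT b1 c1 b2 c2 hEq)

theorem cg_surj {θ : M → ℂ} (hθ : IsIrrCharacter M θ) {T : Subgroup X} [Fintype T] (hMT : M ≤ T)
    (hT : T = Clifford.inertia M θ) {θh : T → ℂ} (hθh : IsCharacter T θh)
    (hext : ∀ n : M, θh ⟨n, hMT n.2⟩ = θ n) {χ : X → ℂ} (hχ : IsIrrCharacter X χ)
    (hχθ : classInner (fun n : M => χ n) θ ≠ 0) :
    ∃ β : T → ℂ, IsIrrCharacter T β ∧ (∀ t : T, (t : X) ∈ M → β t = β 1) ∧
      indFun T (β * θh) = χ := by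
  obtain ⟨-, -, g3⟩ := gal_T M hθ hMT (hT ▸ le_rfl) hθh hext
  obtain ⟨ψ, hψ, hind, hc⟩ := clifford_corr_surj hθ hMT hT hχ hχθ
  obtain ⟨β, hβ, hβM, hβψ⟩ := g3 ψ hψ (by rw [hc]; exact hχθ)
  exact ⟨β, hβ, hβM, by rw [hβψ]; exact hind⟩

/-- Multiplying by the extension is an isometry on characters trivial on `M`. -/
theorem gal_mult {θ : M → ℂ} (hθ : IsIrrCharacter M θ) {T : Subgroup X} [Fintype T] (hMT : M ≤ T)
    (hT : T ≤ Clifford.inertia M θ) {θh : T → ℂ} (hθh : IsCharacter T θh)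
    (hext : ∀ n : M, θh ⟨n, hMT n.2⟩ = θ n)
    {A : T → ℂ} (hA : IsCharacter T A) (hAM : ∀ t g : T, (t : X) ∈ M → A (t * g) = A g)
    {γ : T → ℂ} (hγ : IsIrrCharacter T γ) (hγM : ∀ t : T, (t : X) ∈ M → γ t = γ 1) :
    classInner (A * θh) (γ * θh) = classInner A γ := by
  classical
  letI := fintypeIrr T
  haveI : (M.subgroupOf T).Normal := Subgroup.normal_subgroupOf
  obtain ⟨g1, g2, -⟩ := gal_T M hθ hMT hT hθh hext
  have hexp := classFunction_eq_finsum (isClassFunction_of_isCharacter hA)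
  rw [finsum_irr_eq_sum] at hexp
  have hexp2 : A * θh = ∑ η : IrrCharacter T, classInner A η.1 • (η.1 * θh) := by
    conv_lhs => rw [hexp]
    rw [Finset.sum_mul]
    refine Finset.sum_congr rfl fun η _ => ?_
    funext t
    simp only [Pi.mul_apply, Pi.smul_apply, smul_eq_mul, mul_assoc]
  have hγθ : IsIrrCharacter T (γ * θh) := g1 γ hγ hγM
  rw [hexp2, classInner_sum_left]
  conv_rhs => rw [hexp, classInner_sum_left]
  refine Finset.sum_congr rfl fun η _ => ?_
  rw [classInner_smul_left, classInner_smul_left]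
  by_cases h0 : classInner A η.1 = 0
  · rw [h0, zero_mul, zero_mul]
  · congr 1
    have hηM : ∀ t : T, (t : X) ∈ M → η.1 t = η.1 1 := by
      intro t ht
      exact const_of_constituent (M.subgroupOf T)
        (fun n hn g => hAM n g (Subgroup.mem_subgroupOf.mp hn)) η h0 t
        (Subgroup.mem_subgroupOf.mpr ht)
    have hηθ : IsIrrCharacter T (η.1 * θh) := g1 η.1 η.2 hηM
    rw [classInner_irr_irr hηθ hγθ, classInner_irr_irr η.2 hγ]
    by_cases hEq : η.1 = γ
    · rw [if_pos hEq, if_pos (by rw [hEq])]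
    · rw [if_neg hEq, if_neg (fun h => hEq (g2 η.1 γ η.2 hηM hγ hγM h))]

end RelA

section Hom

variable {X : Type u} [Group X] [Fintype X] {Y : Type v} [Group Y] [Fintype Y]
  (i : Y →* X) (M : Subgroup X) [hM : M.Normal] [Fintype M] [Fintype (M.comap i)]

/-- Pull back of a function on `M` to `M.comap i`. -/
def pullM (θ : M → ℂ) : M.comap i → ℂ := fun n => θ ⟨i n, n.2⟩

theorem pullM_apply (θ : M → ℂ) (n : M.comap i) : pullM i M θ n = θ ⟨i n, n.2⟩ := rfl

/-- `M.comap i ≃* M` when `i` is injective and `M ≤ range i`. -/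
noncomputable def comapEquiv (hi : Function.Injective i) (hMi : ∀ m ∈ M, ∃ y, i y = m) :
    M.comap i ≃* M :=
  MulEquiv.ofBijective (i.subgroupComap M) ⟨by
    intro a b hab
    apply Subtype.ext
    apply hi
    exact congrArg Subtype.val hab, by
    rintro ⟨m, hm⟩
    obtain ⟨y, rfl⟩ := hMi m hm
    exact ⟨⟨y, hm⟩, rfl⟩⟩

theorem comapEquiv_coe (hi : Function.Injective i) (hMi : ∀ m ∈ M, ∃ y, i y = m)
    (n : M.comap i) : ((comapEquiv i M hi hMi n : M) : X) = i n := rfl

theorem pullM_eq (hi : Function.Injective i) (hMi : ∀ m ∈ M, ∃ y, i y = m) (θ : M → ℂ) :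
    pullM i M θ = fun n => θ (comapEquiv i M hi hMi n) := rfl

theorem isIrr_pullM (hi : Function.Injective i) (hMi : ∀ m ∈ M, ∃ y, i y = m) {θ : M → ℂ}
    (hθ : IsIrrCharacter M θ) : IsIrrCharacter (M.comap i) (pullM i M θ) :=
  isIrrCharacter_comp_equiv (comapEquiv i M hi hMi) hθ

theorem mem_inertia_pull (hMi : ∀ m ∈ M, ∃ y, i y = m) (θ : M → ℂ) (y : Y) :
    y ∈ Clifford.inertia (M.comap i) (pullM i M θ) ↔ i y ∈ Clifford.inertia M θ := by
  rw [Clifford.mem_inertia_iff, Clifford.mem_inertia_iff]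
  constructor
  · intro h n
    obtain ⟨y', hy'⟩ := hMi n n.2
    have hy'M : y' ∈ M.comap i := by
      show i y' ∈ M
      rw [hy']
      exact n.2
    have h1 := h ⟨y', hy'M⟩
    have h2 : pullM i M θ ⟨y', hy'M⟩ = θ n := congrArg θ (Subtype.ext hy')
    rw [h2] at h1
    rw [← h1]
    exact congrArg θ (Subtype.ext (by simp [hy']))
  · intro h n
    have h1 := h ⟨i n, n.2⟩
    exact (congrArg θ (Subtype.ext (by simp))).trans h1

/-- Multiplicities of restrictions along `i` are computed on the inertia groups. -/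
theorem mult_formula (hi : Function.Injective i) (hMi : ∀ m ∈ M, ∃ y, i y = m)
    {θ : M → ℂ} (hθ : IsIrrCharacter M θ) {T : Subgroup X} [Fintype T] (hMT : M ≤ T)
    (hT : T = Clifford.inertia M θ) {T' : Subgroup Y} [Fintype T'] (hMT' : M.comap i ≤ T')
    (hj : ∀ t' : T', i t' ∈ T)
    {ψ : T → ℂ} (hψ : IsIrrCharacter T ψ) (hψθ : classInner (fun n : M => ψ ⟨n, hMT n.2⟩) θ ≠ 0)
    {ψ' : T' → ℂ} (hψ' : IsIrrCharacter T' ψ')
    (hψ'θ : classInner (fun n : M.comap i => ψ' ⟨n, hMT' n.2⟩) (pullM i M θ) ≠ 0) :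
    classInner (fun y : Y => indFun T ψ (i y)) (indFun T' ψ') =
      classInner (fun t' : T' => ψ ⟨i t', hj t'⟩) ψ' := by
  classical
  letI := fintypeIrr T
  letI := fintypeIrr T'
  obtain ⟨hirr, -⟩ := clifford_corr_irr hθ hMT hT hψ hψθ
  set χ := indFun T ψ with hχ_def
  have hχc : IsCharacter X χ := isCharacter_of_isIrrCharacter hirr
  have hχY : IsCharacter Y (fun y => χ (i y)) := isCharacter_comp i hχc
  have e1 : classInner (fun y : Y => χ (i y)) (indFun T' ψ') =
      classInner (fun t' : T' => χ (i t')) ψ' := by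
    rw [← classInner_conj_symm,
      frobenius_reciprocity T' ψ' _ (isClassFunction_of_isCharacter hχY), classInner_conj_symm]
  rw [e1]
  let j : T' →* T := (i.comp T'.subtype).codRestrict T hj
  let A : T → ℂ := fun t => χ t
  have hA : IsCharacter T A := isCharacter_restrict T hχc
  have e2 := classInner_comp_expand (isClassFunction_of_isCharacter hA) (fun t' => j t') ψ'
  have e3 : (fun t' : T' => χ (i t')) = fun t' => A (j t') := rfl
  rw [e3, e2, finsum_irr_eq_sum, Finset.sum_eq_single (⟨ψ, hψ⟩ : IrrCharacter T)]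
  · have hA1 : classInner A ψ = 1 := by
      rw [← classInner_conj_symm,
        ← frobenius_reciprocity T ψ χ (isClassFunction_of_isCharacter hχc),
        classInner_irr_irr hirr hirr, if_pos rfl, map_one]
    rw [hA1, one_mul]
    rfl
  · intro ψ'' _ hne
    by_contra hcon
    have ha : classInner A ψ''.1 ≠ 0 := fun h => hcon (by rw [h, zero_mul])
    have hb : classInner (fun n => ψ''.1 (j n)) ψ' ≠ 0 := fun h => hcon (by rw [h, mul_zero])
    have hover : classInner (fun n : M => ψ''.1 ⟨n, hMT n.2⟩) θ ≠ 0 := by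
      let e := comapEquiv i M hi hMi
      rw [← classInner_comp_equiv e (fun n : M => ψ''.1 ⟨n, hMT n.2⟩) θ]
      obtain ⟨a, c, ha', hc', hac⟩ := classInner_comp_expand_nat
        (A := fun t' : T' => ψ''.1 (j t'))
        (isCharacter_comp j (isCharacter_of_isIrrCharacter ψ''.2)) (Subgroup.inclusion hMT')
        (isCharacter_of_isIrrCharacter (isIrr_pullM i M hi hMi hθ))
      have hfun : (fun a : M.comap i => ψ''.1 ⟨e a, hMT (e a).2⟩) =
          fun n => (fun t' : T' => ψ''.1 (j t')) (Subgroup.inclusion hMT' n) := by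
        funext n
        exact congrArg ψ''.1 (Subtype.ext rfl)
      show classInner (fun a : M.comap i => ψ''.1 ⟨e a, hMT (e a).2⟩) (pullM i M θ) ≠ 0
      rw [hfun, hac, finsum_irr_eq_sum]
      have ha0 : a ⟨ψ', hψ'⟩ ≠ 0 := by
        intro h0
        apply hb
        rw [ha' ⟨ψ', hψ'⟩, h0]
        simp
      have hc0 : c ⟨ψ', hψ'⟩ ≠ 0 := by
        intro h0
        apply hψ'θ
        have h3 : classInner (fun n : M.comap i => ψ' ⟨n, hMT' n.2⟩) (pullM i M θ) =
            ((c ⟨ψ', hψ'⟩ : ℕ) : ℂ) := hc' ⟨ψ', hψ'⟩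
        rw [h3, h0]
        simp
      have hpos : 0 < ∑ η : IrrCharacter T', a η * c η :=
        lt_of_lt_of_le (Nat.mul_pos (Nat.pos_of_ne_zero ha0) (Nat.pos_of_ne_zero hc0))
          (Finset.single_le_sum (f := fun η => a η * c η) (fun _ _ => Nat.zero_le _)
            (Finset.mem_univ _))
      exact_mod_cast hpos.ne'
    obtain ⟨hirr'', -⟩ := clifford_corr_irr hθ hMT hT ψ''.2 hover
    have hin : classInner (indFun T ψ''.1) χ ≠ 0 := by
      rw [frobenius_reciprocity T ψ''.1 χ (isClassFunction_of_isCharacter hχc),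
        ← classInner_conj_symm]
      exact (map_ne_zero _).mpr ha
    have hEq : indFun T ψ''.1 = indFun T ψ := eq_of_classInner_ne_zero hirr'' hirr hin
    exact hne (Subtype.ext (clifford_corr_inj hθ hMT hT ψ''.2 hψ hover hψθ hEq))
  · intro h
    exact absurd (Finset.mem_univ _) h

end Hom

end Cfsg.Agent.H4
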