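import Mathlib
import Cfsg.Agent.H88.StUDefs

/-!
helper4: generalized monomial matrices acting on the apartment and on unitriangular
matrices (pieces S2546-MONO for helper88).
-/

set_option autoImplicit false
set_option linter.unusedSectionVars false

namespace Cfsg.Agent.H4.StU

open Matrix Cfsg.Agent.H88.Un Cfsg.Agent.H88.StU Cfsg.Agent.H78.StSL Cfsg.Agent.H50.AutPSL

theorem mono_inv_mul {n : ℕ} {K : Type*} [Field K] (N : SpecialLinearGroup (Fin n) K) :
    (N⁻¹).1 * N.1 = 1 := by
  have h := congrArg Subtype.val (inv_mul_cancel N)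
  exact h

theorem mono_pivot {n : ℕ} {K : Type*} [Field K] (s : Equiv.Perm (Fin n))
    (N : SpecialLinearGroup (Fin n) K) (hN : IsMono s N.1) (b : Fin n) :
    (N⁻¹).1 b (s b) * N.1 (s b) b = 1 := by
  have h := congrFun (congrFun (mono_inv_mul N) b) b
  rw [Matrix.mul_apply, Matrix.one_apply_eq, Fintype.sum_eq_single (s b)] at h
  · exact h
  · intro k hk
    rw [hN k b hk, mul_zero]

theorem mono_pivot_ne {n : ℕ} {K : Type*} [Field K] (s : Equiv.Perm (Fin n))
    (N : SpecialLinearGroup (Fin n) K) (hN : IsMono s N.1) (b : Fin n) :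
    N.1 (s b) b ≠ 0 := by
  intro h
  have h1 := mono_pivot s N hN b
  rw [h, mul_zero] at h1
  exact zero_ne_one h1

theorem mono_inv_pivot_ne {n : ℕ} {K : Type*} [Field K] (s : Equiv.Perm (Fin n))
    (N : SpecialLinearGroup (Fin n) K) (hN : IsMono s N.1) (b : Fin n) :
    (N⁻¹).1 b (s b) ≠ 0 := by
  intro h
  have h1 := mono_pivot s N hN b
  rw [h, zero_mul] at h1
  exact zero_ne_one h1

theorem mono_inv_zero {n : ℕ} {K : Type*} [Field K] (s : Equiv.Perm (Fin n))
    (N : SpecialLinearGroup (Fin n) K) (hN : IsMono s N.1) (c d : Fin n) (hd : d ≠ s c) :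
    (N⁻¹).1 c d = 0 := by
  have hcb : c ≠ s.symm d := by
    intro e
    apply hd
    rw [e, Equiv.apply_symm_apply]
  have h := congrFun (congrFun (mono_inv_mul N) c) (s.symm d)
  rw [Matrix.mul_apply, Matrix.one_apply_ne hcb, Fintype.sum_eq_single (s (s.symm d))] at h
  · rw [Equiv.apply_symm_apply] at h
    have h2 := mono_pivot_ne s N hN (s.symm d)
    rw [Equiv.apply_symm_apply] at h2
    exact (mul_eq_zero.1 h).resolve_right h2
  · intro k hk
    rw [hN k (s.symm d) hk, mul_zero]

theorem mono_inv_mulVec {n : ℕ} {K : Type*} [Field K] (s : Equiv.Perm (Fin n))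
    (N : SpecialLinearGroup (Fin n) K) (hN : IsMono s N.1) (v : Fin n → K) (c : Fin n) :
    ((N⁻¹).1 *ᵥ v) c = (N⁻¹).1 c (s c) * v (s c) := by
  show ∑ d, (N⁻¹).1 c d * v d = _
  rw [Fintype.sum_eq_single (s c)]
  intro d hd
  rw [mono_inv_zero s N hN c d hd, zero_mul]

theorem mono_smul_apt {n : ℕ} {K : Type*} [Field K] (s : Equiv.Perm (Fin n)) (N : SpecialLinearGroup (Fin n) K) (hN : IsMono s N.1) (w : Equiv.Perm (Fin n)) : N • (apt w : Flg n K) = apt (s * w) := by
  apply Flg.ext'
  intro k v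
  rw [mem_smul, mem_apt, mem_apt]
  have hsymm : ∀ c : Fin n, (s * w).symm (s c) = w.symm c := by
    intro c
    rw [Equiv.symm_apply_eq]
    simp [Equiv.Perm.mul_apply]
  constructor
  · intro h c hc
    have hc' : k < w.symm (s.symm c) := by
      have := hsymm (s.symm c)
      rw [Equiv.apply_symm_apply] at this
      rw [← this]
      exact hc
    have h1 := h (s.symm c) hc'
    rw [mono_inv_mulVec s N hN, Equiv.apply_symm_apply] at h1
    have h2 := mono_inv_pivot_ne s N hN (s.symm c)
    rw [Equiv.apply_symm_apply] at h2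
    exact (mul_eq_zero.1 h1).resolve_left h2
  · intro h c hc
    rw [mono_inv_mulVec s N hN]
    have h1 := h (s c) (by rw [hsymm c]; exact hc)
    rw [h1, mul_zero]

theorem isUT_conj_mono {n : ℕ} {K : Type*} [Field K] (s : Equiv.Perm (Fin n)) (N : SpecialLinearGroup (Fin n) K) (hN : IsMono s N.1) (M : Matrix (Fin n) (Fin n) K) (hM : IsUT M) (h0 : ∀ a b : Fin n, a < b → s b < s a → M a b = 0) : IsUT (N.1 * M * (N⁻¹).1) := by
  have key : ∀ x y : Fin n, (N.1 * M * (N⁻¹).1) x y =
      N.1 x (s.symm x) * M (s.symm x) (s.symm y) * (N⁻¹).1 (s.symm y) y := by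
    intro x y
    rw [Matrix.mul_apply, Fintype.sum_eq_single (s.symm y)]
    · rw [Matrix.mul_apply, Fintype.sum_eq_single (s.symm x)]
      intro k hk
      have hx : x ≠ s k := by
        intro e
        apply hk
        rw [e, Equiv.symm_apply_apply]
      rw [hN x k hx, zero_mul]
    · intro l hl
      have hy : y ≠ s l := by
        intro e
        apply hl
        rw [e, Equiv.symm_apply_apply]
      rw [mono_inv_zero s N hN l y hy, mul_zero]
  constructor
  · intro x y hyx
    rw [key]
    have hM0 : M (s.symm x) (s.symm y) = 0 := by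
      rcases lt_trichotomy (s.symm x) (s.symm y) with h | h | h
      · apply h0 _ _ h
        rw [Equiv.apply_symm_apply, Equiv.apply_symm_apply]
        exact hyx
      · have : x = y := s.symm.injective h
        rw [this] at hyx
        exact absurd hyx (lt_irrefl _)
      · exact hM.1 _ _ h
    rw [hM0, mul_zero, zero_mul]
  · intro x
    rw [key, hM.2, mul_one]
    have h1 := mono_pivot s N hN (s.symm x)
    rw [Equiv.apply_symm_apply] at h1
    rw [mul_comm]
    exact h1

end Cfsg.Agent.H4.StU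

section check
open Matrix Cfsg.Agent.H88.Un Cfsg.Agent.H88.StU Cfsg.Agent.H78.StSL Cfsg.Agent.H50.AutPSL

example {n : ℕ} {K : Type*} [Field K] (s : Equiv.Perm (Fin n)) (N : SpecialLinearGroup (Fin n) K) (hN : IsMono s N.1) (w : Equiv.Perm (Fin n)) : N • (apt w : Flg n K) = apt (s * w) := Cfsg.Agent.H4.StU.mono_smul_apt s N hN w
example {n : ℕ} {K : Type*} [Field K] (s : Equiv.Perm (Fin n)) (N : SpecialLinearGroup (Fin n) K) (hN : IsMono s N.1) (M : Matrix (Fin n) (Fin n) K) (hM : IsUT M) (h0 : ∀ a b : Fin n, a < b → s b < s a → M a b = 0) : IsUT (N.1 * M * (N⁻¹).1) := Cfsg.Agent.H4.StU.isUT_conj_mono s N hN M hM h0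

end check
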