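import Mathlib
import Cfsg.Agent.H88.StUDefs

/-!
helper4: unitarity relations for upper unitriangular elements of `UG n φ` at adjacent
positions (pieces S2546-REL for helper88).
-/

set_option autoImplicit false
set_option linter.unusedSectionVars false

namespace Cfsg.Agent.H4.StU

open Matrix Cfsg.Agent.H88.Un Cfsg.Agent.H88.StU Cfsg.Agent.H78.StSL Cfsg.Agent.H50.AutPSL

/-- The `(x, y)` entry of `adj φ u * u = 1` for `x ≠ y`. -/
theorem rel_entry {n : ℕ} {K : Type*} [Field K] [Fintype K] {φ : K →+* K}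
    (u : UG n φ) (x y : Fin n) (hxy : x ≠ y) :
    ∑ a : Fin n, φ (u.1.1 a.rev x.rev) * u.1.1 a y = 0 := by
  have h := congrFun (congrFun (adj_mul_self u) x) y
  rw [Matrix.mul_apply, Matrix.one_apply_ne hxy] at h
  rw [← h]
  rfl

theorem rel_short {n : ℕ} {K : Type*} [Field K] [Fintype K] {φ : K →+* K} [Invol φ] {p q : Fin n} (hpq : p.val + 1 = q.val) (hq : 2 * q.val + 1 < n) (u : UG n φ) (hu : u ∈ EL φ (rk n)) : u.1.1 q.rev p.rev = - φ (u.1.1 p q) := by
  have hut := isUT_of_mem_U hu
  have hqv : q.rev.val = n - 1 - q.val := rev_val q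
  have hpv : p.rev.val = n - 1 - p.val := rev_val p
  have hne : q.rev ≠ p.rev := by
    intro e
    have := congrArg Fin.val e
    omega
  have h := rel_entry u q.rev p.rev hne
  rw [Fintype.sum_eq_add q.rev p.rev hne] at h
  · rw [Fin.rev_rev, Fin.rev_rev, hut.2 q, hut.2 p.rev, map_one, one_mul, mul_one] at h
    exact eq_neg_of_add_eq_zero_left h
  · intro a ha
    rw [Fin.rev_rev]
    have hav : a.rev.val = n - 1 - a.val := rev_val a
    by_cases h1 : q < a.rev
    · rw [hut.1 a.rev q h1, map_zero, zero_mul]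
    · have h2 : p.rev < a := by
        rw [Fin.lt_def] at h1 ⊢
        have ha1 : a.val ≠ q.rev.val := fun e => ha.1 (Fin.ext e)
        have ha2 : a.val ≠ p.rev.val := fun e => ha.2 (Fin.ext e)
        have := a.2
        omega
      rw [hut.1 a p.rev h2, mul_zero]

theorem rel_long {n : ℕ} {K : Type*} [Field K] [Fintype K] {φ : K →+* K} [Invol φ] {p : Fin n} (hp : 2 * p.val + 2 = n) (u : UG n φ) (hu : u ∈ EL φ (rk n)) : u.1.1 p p.rev + φ (u.1.1 p p.rev) = 0 := by
  have hut := isUT_of_mem_U hu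
  have hpv : p.rev.val = n - 1 - p.val := rev_val p
  have hne : p ≠ p.rev := by
    intro e
    have := congrArg Fin.val e
    omega
  have h := rel_entry u p p.rev hne
  rw [Fintype.sum_eq_add p p.rev hne] at h
  · rw [Fin.rev_rev, hut.2 p.rev, map_one, one_mul, mul_one] at h
    exact h
  · intro a ha
    have hav : a.rev.val = n - 1 - a.val := rev_val a
    by_cases h1 : p.rev < a.rev
    · rw [hut.1 a.rev p.rev h1, map_zero, zero_mul]
    · have h2 : p.rev < a := by
        rw [Fin.lt_def] at h1 ⊢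
        have ha1 : a.val ≠ p.val := fun e => ha.1 (Fin.ext e)
        have ha2 : a.val ≠ p.rev.val := fun e => ha.2 (Fin.ext e)
        have := a.2
        omega
      rw [hut.1 a p.rev h2, mul_zero]

theorem rel_su3 {n : ℕ} {K : Type*} [Field K] [Fintype K] {φ : K →+* K} [Invol φ] {p m : Fin n} (hp : 2 * p.val + 3 = n) (hm : m.val = p.val + 1) (u : UG n φ) (hu : u ∈ EL φ (rk n)) : u.1.1 m p.rev = - φ (u.1.1 p m) ∧ u.1.1 p p.rev + φ (u.1.1 p p.rev) + u.1.1 p m * φ (u.1.1 p m) = 0 := by
  have hut := isUT_of_mem_U hu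
  have hpv : p.rev.val = n - 1 - p.val := rev_val p
  have hmv : m.rev.val = n - 1 - m.val := rev_val m
  have hmm : m.rev = m := Fin.ext (by omega)
  have hne1 : m ≠ p.rev := by
    intro e
    have := congrArg Fin.val e
    omega
  have hne2 : p ≠ p.rev := by
    intro e
    have := congrArg Fin.val e
    omega
  have hne3 : p ≠ m := by
    intro e
    have := congrArg Fin.val e
    omega
  have first : u.1.1 m p.rev = - φ (u.1.1 p m) := by
    have h := rel_entry u m p.rev hne1
    rw [Fintype.sum_eq_add m p.rev hne1] at h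
    · rw [Fin.rev_rev, hmm, hut.2 m, hut.2 p.rev, map_one, one_mul, mul_one] at h
      exact eq_neg_of_add_eq_zero_left h
    · intro a ha
      have hav : a.rev.val = n - 1 - a.val := rev_val a
      rw [hmm]
      by_cases h1 : m < a.rev
      · rw [hut.1 a.rev m h1, map_zero, zero_mul]
      · have h2 : p.rev < a := by
          rw [Fin.lt_def] at h1 ⊢
          have ha1 : a.val ≠ m.val := fun e => ha.1 (Fin.ext e)
          have ha2 : a.val ≠ p.rev.val := fun e => ha.2 (Fin.ext e)
          have := a.2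
          omega
        rw [hut.1 a p.rev h2, mul_zero]
  refine ⟨first, ?_⟩
  have h := rel_entry u p p.rev hne2
  rw [← Finset.add_sum_erase Finset.univ _ (Finset.mem_univ p),
    Finset.sum_eq_add (s := Finset.univ.erase p) m p.rev hne1] at h
  · rw [Fin.rev_rev, hmm, hut.2 p.rev, map_one, one_mul, mul_one, first, map_neg,
      Invol.invol] at h
    linear_combination h
  · intro a ha1 ha
    have hap : a ≠ p := (Finset.mem_erase.1 ha1).1
    have hav : a.rev.val = n - 1 - a.val := rev_val a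
    by_cases h1 : p.rev < a.rev
    · rw [hut.1 a.rev p.rev h1, map_zero, zero_mul]
    · have h2 : p.rev < a := by
        rw [Fin.lt_def] at h1 ⊢
        have ha0 : a.val ≠ p.val := fun e => hap (Fin.ext e)
        have ha1' : a.val ≠ m.val := fun e => ha.1 (Fin.ext e)
        have ha2 : a.val ≠ p.rev.val := fun e => ha.2 (Fin.ext e)
        have := a.2
        omega
      rw [hut.1 a p.rev h2, mul_zero]
  · intro h'
    exact absurd (Finset.mem_erase.2 ⟨hne3.symm, Finset.mem_univ m⟩) h'
  · intro h'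
    exact absurd (Finset.mem_erase.2 ⟨hne2.symm, Finset.mem_univ p.rev⟩) h'

end Cfsg.Agent.H4.StU

section check
open Matrix Cfsg.Agent.H88.Un Cfsg.Agent.H88.StU Cfsg.Agent.H78.StSL Cfsg.Agent.H50.AutPSL

example {n : ℕ} {K : Type*} [Field K] [Fintype K] {φ : K →+* K} [Invol φ] {p q : Fin n} (hpq : p.val + 1 = q.val) (hq : 2 * q.val + 1 < n) (u : UG n φ) (hu : u ∈ EL φ (rk n)) : u.1.1 q.rev p.rev = - φ (u.1.1 p q) := Cfsg.Agent.H4.StU.rel_short hpq hq u hu
example {n : ℕ} {K : Type*} [Field K] [Fintype K] {φ : K →+* K} [Invol φ] {p : Fin n} (hp : 2 * p.val + 2 = n) (u : UG n φ) (hu : u ∈ EL φ (rk n)) : u.1.1 p p.rev + φ (u.1.1 p p.rev) = 0 := Cfsg.Agent.H4.StU.rel_long hp u hu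
example {n : ℕ} {K : Type*} [Field K] [Fintype K] {φ : K →+* K} [Invol φ] {p m : Fin n} (hp : 2 * p.val + 3 = n) (hm : m.val = p.val + 1) (u : UG n φ) (hu : u ∈ EL φ (rk n)) : u.1.1 m p.rev = - φ (u.1.1 p m) ∧ u.1.1 p p.rev + φ (u.1.1 p p.rev) + u.1.1 p m * φ (u.1.1 p m) = 0 := Cfsg.Agent.H4.StU.rel_su3 hp hm u hu

end check
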