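import Mathlib
import Cfsg.Prelude.Def_Characters
import Cfsg.Prelude.Def_Blocks
import Cfsg.Agent.H1.MinNormal
import Cfsg.Agent.H1.HallHigman
import Cfsg.Agent.H2.Coprime

/-!
# Winter's theorem on prime-power divisors of character degrees (S4467): group theory

* `WGood p n`: `n` has a prime-power divisor `q > 1` with `q ≡ -1, 0, 1 (mod p)`.
* `comm_of_comm_fixed`: the norm trick for a `p`-element acting on a class-2 `r`-group.
* `pp_core_free`, `pp_index`: a solvable group generated by the conjugates of two `p`-elements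
  has, for every proper subgroup `T`, a prime power `q ≡ 0, 1 (mod p)` dividing `[G : T]`
  (primitive solvable permutation groups).
-/

set_option autoImplicit false
set_option linter.unusedSectionVars false
set_option linter.style.haveILetI false

namespace Cfsg.Agent.H4

universe u

/-- `n` has a prime-power divisor `q > 1` with `q ≡ -1, 0, 1 (mod p)`. -/
def WGood (p n : ℕ) : Prop :=
  ∃ q : ℕ, IsPrimePow q ∧ q ∣ n ∧
    ((q : ℤ) ≡ -1 [ZMOD p] ∨ (q : ℤ) ≡ 0 [ZMOD p] ∨ (q : ℤ) ≡ 1 [ZMOD p])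

theorem wGood_of_dvd {p m n : ℕ} (h : WGood p m) (hd : m ∣ n) : WGood p n := by
  obtain ⟨q, hq, hqm, hc⟩ := h
  exact ⟨q, hq, hqm.trans hd, hc⟩

theorem pow_sub_modEq_one {p r : ℕ} (hp : p.Prime) (hr : r.Prime) (hrp : r ≠ p) {i k : ℕ}
    (hik : i ≤ k) (h : r ^ k ≡ r ^ i [MOD p]) : r ^ (k - i) ≡ 1 [MOD p] := by
  have hcop : p.gcd (r ^ i) = 1 :=
    Nat.Coprime.pow_right i ((Nat.coprime_primes hp hr).mpr (Ne.symm hrp))
  apply Nat.ModEq.cancel_left_of_coprime hcop
  rw [mul_one, ← pow_add, Nat.add_sub_cancel' hik]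
  exact h

section Grp

variable {G : Type u} [Group G]

theorem eq_one_of_pow_of_isPGroup {p r : ℕ} (hp : p.Prime) (hr : r.Prime) (hrp : r ≠ p)
    {E : Subgroup G} (hE : IsPGroup r E) {x : G} (hx : x ∈ E) {N : ℕ} (hxN : x ^ (p ^ N) = 1) :
    x = 1 := by
  obtain ⟨j, hj⟩ := hE ⟨x, hx⟩
  have hj' : x ^ (r ^ j) = 1 := by
    have := congrArg Subtype.val hj
    simpa using this
  have h1 : orderOf x ∣ r ^ j := orderOf_dvd_of_pow_eq_one hj'
  have h2 : orderOf x ∣ p ^ N := orderOf_dvd_of_pow_eq_one hxN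
  have hcop : (r ^ j).Coprime (p ^ N) :=
    Nat.Coprime.pow _ _ ((Nat.coprime_primes hr hp).mpr hrp)
  exact orderOf_eq_one_iff.mp (Nat.eq_one_of_dvd_coprimes hcop h1 h2)

/-- **Norm trick.** Let `E ⊴ G` be an `r`-group with `[E, E]` central in `G`, and let `u` be a
`p`-element (`p ≠ r`). If `c ∈ C_E(u)` commutes with every element of `C_E(u)`, then `c` is
central in `E`. -/
theorem comm_of_comm_fixed {p r : ℕ} (hp : p.Prime) (hr : r.Prime) (hrp : r ≠ p)
    (E : Subgroup G) [hEn : E.Normal] (hE : IsPGroup r E)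
    (hcl : ∀ a ∈ E, ∀ b ∈ E, ∀ g : G, g * (a * b * a⁻¹ * b⁻¹) = (a * b * a⁻¹ * b⁻¹) * g)
    (u : G) (N : ℕ) (huN : u ^ (p ^ N) = 1) (c : G) (hcE : c ∈ E) (hcu : c * u = u * c)
    (hcC : ∀ d ∈ E, d * u = u * d → c * d = d * c) (e : G) (he : e ∈ E) : c * e = e * c := by
  have hPE : (e * u⁻¹) ^ (p ^ N) ∈ E := by
    rw [← QuotientGroup.eq_one_iff (N := E)]
    have h1 : (((e * u⁻¹ : G)) : G ⧸ E) = ((u⁻¹ : G) : G ⧸ E) := by
      rw [QuotientGroup.mk_mul, (QuotientGroup.eq_one_iff e).mpr he, one_mul]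
    rw [QuotientGroup.mk_pow, h1, ← QuotientGroup.mk_pow, inv_pow, huN, inv_one,
      QuotientGroup.mk_one]
  generalize hP : (e * u⁻¹) ^ (p ^ N) = P at hPE
  have hPw : P * (e * u⁻¹) = (e * u⁻¹) * P := by
    rw [← hP, ← pow_succ, ← pow_succ']
  have hzc : ∀ g : G, g * (P⁻¹ * e⁻¹ * P * e) = (P⁻¹ * e⁻¹ * P * e) * g := by
    intro g
    have := hcl _ (E.inv_mem hPE) _ (E.inv_mem he) g
    rw [inv_inv, inv_inv] at this
    exact this
  have hzE : P⁻¹ * e⁻¹ * P * e ∈ E :=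
    E.mul_mem (E.mul_mem (E.mul_mem (E.inv_mem hPE) (E.inv_mem he)) hPE) he
  generalize hz : P⁻¹ * e⁻¹ * P * e = z at hzc hzE
  have hconj : u⁻¹ * P * u = P * z := by
    have h3 : u⁻¹ * P = e⁻¹ * ((e * u⁻¹) * P) := by group
    rw [h3, ← hPw, ← hz]; group
  have hpow : ∀ k : ℕ, u⁻¹ ^ k * P * u ^ k = P * z ^ k := by
    intro k
    induction k with
    | zero => simp
    | succ k ih =>
      have hzk : z ^ k * u = u * z ^ k := by
        have hc : Commute u z := hzc u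
        exact (hc.pow_right k).eq.symm
      calc u⁻¹ ^ (k + 1) * P * u ^ (k + 1) = u⁻¹ * (u⁻¹ ^ k * P * u ^ k) * u := by
            rw [pow_succ', pow_succ]; group
        _ = u⁻¹ * (P * z ^ k) * u := by rw [ih]
        _ = u⁻¹ * P * (z ^ k * u) := by group
        _ = u⁻¹ * P * (u * z ^ k) := by rw [hzk]
        _ = (u⁻¹ * P * u) * z ^ k := by group
        _ = P * z ^ (k + 1) := by rw [hconj, pow_succ', mul_assoc]
  have hz1 : z = 1 := by
    have h := hpow (p ^ N)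
    rw [inv_pow, huN, inv_one, one_mul, mul_one] at h
    exact eq_one_of_pow_of_isPGroup hp hr hrp hE hzE (mul_eq_left.mp h.symm)
  have hPu : P * u = u * P := by
    rw [hz1, mul_one] at hconj
    calc P * u = u * (u⁻¹ * P * u) := by group
      _ = u * P := by rw [hconj]
  have hcP : c * P = P * c := hcC P hPE hPu
  have hz₀c : ∀ g : G, g * (c * e * c⁻¹ * e⁻¹) = (c * e * c⁻¹ * e⁻¹) * g := hcl c hcE e he
  have hz₀E : c * e * c⁻¹ * e⁻¹ ∈ E :=
    E.mul_mem (E.mul_mem (E.mul_mem hcE he) (E.inv_mem hcE)) (E.inv_mem he)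
  have hcu' : u⁻¹ * c⁻¹ = c⁻¹ * u⁻¹ := by
    rw [← mul_inv_rev, ← mul_inv_rev, hcu]
  have hcw : c * (e * u⁻¹) * c⁻¹ = (c * e * c⁻¹ * e⁻¹) * (e * u⁻¹) := by
    calc c * (e * u⁻¹) * c⁻¹ = c * e * (u⁻¹ * c⁻¹) := by group
      _ = c * e * (c⁻¹ * u⁻¹) := by rw [hcu']
      _ = c * e * c⁻¹ * e⁻¹ * (e * u⁻¹) := by group
  generalize hz₀ : c * e * c⁻¹ * e⁻¹ = z₀ at hz₀c hz₀E hcw
  have hcPc : c * P * c⁻¹ = z₀ ^ (p ^ N) * P := by
    rw [← hP, ← conj_pow, hcw]
    exact Commute.mul_pow (show Commute z₀ (e * u⁻¹) from (hz₀c (e * u⁻¹)).symm) _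
  have hz₀1 : z₀ = 1 := by
    have h1 : c * P * c⁻¹ = P := by rw [hcP]; group
    rw [h1] at hcPc
    exact eq_one_of_pow_of_isPGroup hp hr hrp hE hz₀E (mul_eq_right.mp hcPc.symm)
  calc c * e = (c * e * c⁻¹ * e⁻¹) * (e * c) := by group
    _ = e * c := by rw [hz₀, hz₀1, one_mul]

/-- In a nonabelian finite solvable group some `O_r(G)` is not central. -/
theorem exists_pCore_not_central [Finite G] [Group.IsSolvable G]
    (hnc : ¬ ∀ a b : G, a * b = b * a) :
    ∃ r : ℕ, r.Prime ∧ ¬ Cfsg.pCore r G ≤ Subgroup.center G := by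
  by_contra hcon
  push Not at hcon
  apply hnc
  have hF : Cfsg.fittingSubgroup G ≤ Subgroup.center G := by
    rw [Cfsg.Agent.H1.fitting_eq_iSup_pCore]
    exact iSup_le fun r => hcon (r : ℕ) r.2
  have hC : Subgroup.centralizer (Cfsg.fittingSubgroup G : Set G) = ⊤ :=
    Subgroup.centralizer_eq_top_iff_subset.mpr (SetLike.coe_subset_coe.mpr hF)
  have hle := Cfsg.Agent.H1.centralizer_fitting_le (G := G)
  rw [hC] at hle
  intro a b
  have ha : a ∈ Subgroup.center G := hF (hle (Subgroup.mem_top a))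
  exact (Subgroup.mem_center_iff.mp ha b).symm

/-- A minimal noncentral normal subgroup inside a noncentral normal subgroup `R`. -/
theorem exists_min_noncentral [Finite G] (R : Subgroup G) [R.Normal]
    (hR : ¬ R ≤ Subgroup.center G) :
    ∃ E : Subgroup G, E.Normal ∧ E ≤ R ∧ ¬ E ≤ Subgroup.center G ∧
      ∀ N : Subgroup G, N.Normal → N ≤ E → N ≠ E → N ≤ Subgroup.center G := by
  classical
  have hne : ∃ n, ∃ N : Subgroup G, N.Normal ∧ N ≤ R ∧ ¬ N ≤ Subgroup.center G ∧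
      Nat.card N = n := ⟨_, R, inferInstance, le_rfl, hR, rfl⟩
  obtain ⟨E, hEn, hER, hEc, hEcard⟩ := Nat.find_spec hne
  refine ⟨E, hEn, hER, hEc, fun N hN hNE hne' => ?_⟩
  by_contra hNc
  have hlt : N < E := lt_of_le_of_ne hNE hne'
  have h1 : Nat.card N < Nat.find hne := by
    rw [← hEcard]; exact Cfsg.Agent.H1.card_lt_card_of_lt hlt
  exact Nat.find_min hne h1 ⟨N, hN, hNE.trans hER, hNc, rfl⟩

/-- If a Sylow `p`-subgroup is not normal, there are two `p`-elements whose product is not a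
`p`-element. -/
theorem exists_prod_not_pElement [Finite G] {p : ℕ} (P : Sylow p G)
    (hP : ¬ (P : Subgroup G).Normal) :
    ∃ x y : G, (∃ a : ℕ, x ^ (p ^ a) = 1) ∧ (∃ b : ℕ, y ^ (p ^ b) = 1) ∧
      ¬ ∃ c : ℕ, (x * y) ^ (p ^ c) = 1 := by
  by_contra hcon
  push Not at hcon
  apply hP
  let Q : Subgroup G :=
    { carrier := {g | ∃ k : ℕ, g ^ (p ^ k) = 1}
      mul_mem' := fun {a b} ha hb => hcon a b ha hb
      one_mem' := ⟨0, by simp⟩
      inv_mem' := fun {a} ha => by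
        obtain ⟨k, hk⟩ := ha
        exact ⟨k, by rw [inv_pow, hk, inv_one]⟩ }
  have hQp : IsPGroup p Q := fun g => by
    have hg : ∃ k : ℕ, (g : G) ^ (p ^ k) = 1 := g.2
    obtain ⟨k, hk⟩ := hg
    exact ⟨k, Subtype.ext (by simpa using hk)⟩
  have hPQ : (P : Subgroup G) ≤ Q := by
    intro g hg
    obtain ⟨k, hk⟩ := P.isPGroup' ⟨g, hg⟩
    exact ⟨k, by simpa using congrArg Subtype.val hk⟩
  have hQP : Q = (P : Subgroup G) := P.is_maximal' hQp hPQ
  rw [← hQP]
  constructor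
  intro n hn g
  obtain ⟨k, hk⟩ := hn
  exact ⟨k, by rw [conj_pow, hk, mul_one, mul_inv_cancel]⟩

/-- An element which is not a `p`-element has a nontrivial `p'`-power. -/
theorem exists_pPrime_power [Finite G] {p : ℕ} (hp : p.Prime) (w : G)
    (hw : ¬ ∃ c : ℕ, w ^ (p ^ c) = 1) :
    ∃ z ∈ Subgroup.zpowers w, (orderOf z).Coprime p ∧ z ≠ 1 := by
  have hpos : orderOf w ≠ 0 := (orderOf_pos w).ne'
  obtain ⟨e, m, hm, hem⟩ := Nat.exists_eq_pow_mul_and_not_dvd hpos p hp.ne_one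
  refine ⟨w ^ (p ^ e), Subgroup.npow_mem_zpowers w _, ?_, fun h => hw ⟨e, h⟩⟩
  have h1 : orderOf (w ^ (p ^ e)) = orderOf w / p ^ e :=
    orderOf_pow_of_dvd (pow_ne_zero e hp.ne_zero) (by rw [hem]; exact dvd_mul_right _ _)
  rw [h1, hem, Nat.mul_div_cancel_left m (pow_pos hp.pos e)]
  exact ((Nat.Prime.coprime_iff_not_dvd hp).mpr hm).symm

end Grp

section PP

/-- A solvable group with a core-free maximal subgroup `T` and a nontrivial `p`-element: some
prime power `q ≡ 0, 1 (mod p)` divides `[H : T]`. -/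
theorem pp_core_free {H : Type u} [Group H] [Finite H] [Group.IsSolvable H] {p : ℕ}
    (hp : p.Prime) (T : Subgroup H) (hT : IsCoatom T) (hcore : T.normalCore = ⊥) (u : H)
    (hu1 : u ≠ 1) (a : ℕ) (hua : u ^ (p ^ a) = 1) :
    ∃ q : ℕ, IsPrimePow q ∧ q ∣ T.index ∧ ((q : ℤ) ≡ 0 [ZMOD p] ∨ (q : ℤ) ≡ 1 [ZMOD p]) := by
  classical
  haveI : Nontrivial H := ⟨⟨u, 1, hu1⟩⟩
  haveI : Fact p.Prime := ⟨hp⟩
  obtain ⟨V, hVn, hVb, hmin⟩ := Cfsg.Agent.H1.exists_minimal_normal (G := H)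
  haveI := hVn
  obtain ⟨hVc, -⟩ := Cfsg.Agent.H1.minimal_normal_elementary_abelian V hVb hmin
  obtain ⟨r, hr, hVp⟩ := Cfsg.Agent.H1.minimal_normal_isPGroup V hVb hmin
  haveI : Fact r.Prime := ⟨hr⟩
  have hVcomm : ∀ a ∈ V, ∀ b ∈ V, a * b = b * a := by
    intro a ha b hb
    exact congrArg Subtype.val (hVc.is_comm.comm (⟨a, ha⟩ : V) ⟨b, hb⟩)
  have hVT : ¬ V ≤ T := by
    intro h
    apply hVb
    have h2 : V ≤ T.normalCore := Subgroup.normal_le_normalCore.mpr h
    rw [hcore] at h2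
    exact le_bot_iff.mp h2
  have hsup : V ⊔ T = ⊤ :=
    hT.2 _ (lt_of_le_of_ne le_sup_right (fun h => hVT (by rw [h]; exact le_sup_left)))
  have hdecomp : ∀ g : H, ∃ v ∈ V, ∃ t ∈ T, g = v * t := by
    intro g
    have hg : g ∈ ((V ⊔ T : Subgroup H) : Set H) := by rw [hsup]; trivial
    rw [Subgroup.normal_mul] at hg
    obtain ⟨v, hv, t, ht, rfl⟩ := Set.mem_mul.mp hg
    exact ⟨v, hv, t, ht, rfl⟩
  have hVT0 : V ⊓ T = ⊥ := by
    haveI hn : (V ⊓ T).Normal := by
      constructor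
      intro n hn g
      obtain ⟨v, hv, t, ht, rfl⟩ := hdecomp g
      have h1 : t * n * t⁻¹ ∈ V ⊓ T :=
        ⟨hVn.conj_mem n hn.1 t, T.mul_mem (T.mul_mem ht hn.2) (T.inv_mem ht)⟩
      have h2 : v * t * n * (v * t)⁻¹ = v * (t * n * t⁻¹) * v⁻¹ := by group
      rw [h2, hVcomm v hv _ h1.1, mul_inv_cancel_right]
      exact h1
    have h2 : V ⊓ T ≤ T.normalCore := Subgroup.normal_le_normalCore.mpr inf_le_right
    rw [hcore] at h2
    exact le_bot_iff.mp h2
  have hidx : T.index = Nat.card V := by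
    have hcompl : Subgroup.IsComplement' V T := by
      apply Subgroup.isComplement'_of_disjoint_and_mul_eq_univ (disjoint_iff.mpr hVT0)
      rw [← Subgroup.normal_mul, hsup, Subgroup.coe_top]
    exact hcompl.index_eq_card
  obtain ⟨k, hk⟩ := hVp.exists_card_eq
  have hk0 : k ≠ 0 := by
    rintro rfl
    rw [pow_zero] at hk
    exact hVb (Subgroup.card_eq_one.mp hk)
  by_cases hrp : r = p
  · refine ⟨r ^ k, hr.isPrimePow.pow hk0, by rw [hidx, hk], Or.inl ?_⟩
    rw [Int.modEq_zero_iff_dvd, hrp]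
    push_cast
    exact dvd_pow_self _ hk0
  · have hCV : ∃ v ∈ V, u * v ≠ v * u := by
      by_contra hcon
      push Not at hcon
      obtain ⟨v, hv, t, ht, hut⟩ := hdecomp u
      haveI hDn : (T ⊓ Subgroup.centralizer (V : Set H)).Normal := by
        constructor
        intro n hn g
        obtain ⟨v', hv', t', ht', rfl⟩ := hdecomp g
        have hCn : (Subgroup.centralizer (V : Set H)).Normal := Subgroup.normal_centralizer
        have h1 : t' * n * t'⁻¹ ∈ T ⊓ Subgroup.centralizer (V : Set H) :=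
          ⟨T.mul_mem (T.mul_mem ht' hn.1) (T.inv_mem ht'), hCn.conj_mem n hn.2 t'⟩
        have h2 : v' * t' * n * (v' * t')⁻¹ = v' * (t' * n * t'⁻¹) * v'⁻¹ := by group
        have h3 : v' * (t' * n * t'⁻¹) = (t' * n * t'⁻¹) * v' :=
          Subgroup.mem_centralizer_iff.mp h1.2 v' hv'
        rw [h2, h3, mul_inv_cancel_right]
        exact h1
      have hD0 : T ⊓ Subgroup.centralizer (V : Set H) ≤ T.normalCore :=
        Subgroup.normal_le_normalCore.mpr inf_le_left
      rw [hcore] at hD0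
      have htC : t ∈ Subgroup.centralizer (V : Set H) := by
        rw [Subgroup.mem_centralizer_iff]
        intro b hb
        have ht' : t = v⁻¹ * u := by rw [hut]; group
        have hb' : b ∈ V := hb
        rw [ht']
        have e1 : b * v⁻¹ = v⁻¹ * b := hVcomm b hb' v⁻¹ (V.inv_mem hv)
        have e2 : u * b = b * u := hcon b hb'
        calc b * (v⁻¹ * u) = (b * v⁻¹) * u := by group
          _ = v⁻¹ * (b * u) := by rw [e1]; group
          _ = v⁻¹ * u * b := by rw [← e2]; group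
      have ht1 : t = 1 := Subgroup.mem_bot.mp (hD0 ⟨ht, htC⟩)
      have huV : u ∈ V := by rw [hut, ht1, mul_one]; exact hv
      exact hu1 (eq_one_of_pow_of_isPGroup hp hr hrp hVp huV hua)
    obtain ⟨v, hv, hvu⟩ := hCV
    have hQ : IsPGroup p (Subgroup.zpowers u) := by
      have h1 : orderOf u ∣ p ^ a := orderOf_dvd_of_pow_eq_one hua
      obtain ⟨j, -, hj⟩ := (Nat.dvd_prime_pow hp).mp h1
      exact IsPGroup.of_card (n := j) (by rw [Nat.card_zpowers, hj])
    have hQV : Subgroup.zpowers u ≤ Subgroup.normalizer (V : Set H) := by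
      rw [Subgroup.normalizer_eq_top]; exact le_top
    have hmod := Cfsg.Agent.H2.card_modEq_card_inf_centralizer (q := p) (Subgroup.zpowers u) V
      hQ hQV
    have hlt : V ⊓ Subgroup.centralizer ((Subgroup.zpowers u : Subgroup H) : Set H) < V := by
      refine lt_of_le_of_ne inf_le_left fun h => hvu ?_
      have hvC : v ∈ V ⊓ Subgroup.centralizer ((Subgroup.zpowers u : Subgroup H) : Set H) := by
        rw [h]; exact hv
      exact Subgroup.mem_centralizer_iff.mp hvC.2 u (Subgroup.mem_zpowers u)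
    obtain ⟨i, hi⟩ := (hVp.to_le (inf_le_left :
      V ⊓ Subgroup.centralizer ((Subgroup.zpowers u : Subgroup H) : Set H) ≤ V)).exists_card_eq
    have hik : i < k := by
      have h1 := Cfsg.Agent.H1.card_lt_card_of_lt hlt
      rw [hi, hk] at h1
      exact (Nat.pow_lt_pow_iff_right hr.one_lt).mp h1
    rw [hk, hi] at hmod
    have h1 := pow_sub_modEq_one hp hr hrp hik.le hmod
    refine ⟨r ^ (k - i), hr.isPrimePow.pow (by omega), ?_, Or.inr ?_⟩
    · rw [hidx, hk]; exact pow_dvd_pow r (Nat.sub_le k i)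
    · exact_mod_cast Int.natCast_modEq_iff.mpr h1

/-- If no proper normal subgroup of the solvable group `G` contains the two `p`-elements
`x`, `y`, then every proper subgroup has index divisible by a prime power `q ≡ 0, 1 (mod p)`. -/
theorem pp_index {G : Type u} [Group G] [Finite G] [Group.IsSolvable G] {p : ℕ} (hp : p.Prime)
    (T : Subgroup G) (hT : T ≠ ⊤) (x y : G)
    (hR : ∀ M : Subgroup G, M.Normal → x ∈ M → y ∈ M → M = ⊤)
    (hx : ∃ a : ℕ, x ^ (p ^ a) = 1) (hy : ∃ b : ℕ, y ^ (p ^ b) = 1) :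
    ∃ q : ℕ, IsPrimePow q ∧ q ∣ T.index ∧ ((q : ℤ) ≡ 0 [ZMOD p] ∨ (q : ℤ) ≡ 1 [ZMOD p]) := by
  obtain ⟨T₁, hT₁, hle⟩ := (eq_top_or_exists_le_coatom T).resolve_left hT
  have hMT : T₁.normalCore ≤ T₁ := Subgroup.normalCore_le T₁
  have hMtop : T₁.normalCore ≠ ⊤ := fun h => hT₁.1 (top_le_iff.mp (by rw [← h]; exact hMT))
  have hex : ∃ u : G, u ∉ T₁.normalCore ∧ ∃ a : ℕ, u ^ (p ^ a) = 1 := by
    by_cases hxM : x ∈ T₁.normalCore
    · by_cases hyM : y ∈ T₁.normalCore
      · exact absurd (hR T₁.normalCore inferInstance hxM hyM) hMtop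
      · exact ⟨y, hyM, hy⟩
    · exact ⟨x, hxM, hx⟩
  obtain ⟨u, huM, a, hua⟩ := hex
  have hsurj : Function.Surjective (QuotientGroup.mk' T₁.normalCore) :=
    QuotientGroup.mk'_surjective _
  have hker : (QuotientGroup.mk' T₁.normalCore).ker ≤ T₁ := by
    rw [QuotientGroup.ker_mk']; exact hMT
  generalize hπ : QuotientGroup.mk' T₁.normalCore = π at hsurj hker
  have hcm : (T₁.map π).comap π = T₁ := Subgroup.comap_map_eq_self hker
  have hco : IsCoatom (T₁.map π) := by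
    refine ⟨fun h => hT₁.1 ?_, fun S hS => ?_⟩
    · rw [← hcm, h, Subgroup.comap_top]
    · have h1 : T₁ ≤ S.comap π := le_of_eq_of_le hcm.symm (Subgroup.comap_mono hS.le)
      have h2 : T₁ ≠ S.comap π := by
        intro h
        apply hS.ne
        rw [← Subgroup.map_comap_eq_self_of_surjective hsurj S, ← h]
      have h3 := hT₁.2 _ (lt_of_le_of_ne h1 h2)
      rw [← Subgroup.map_comap_eq_self_of_surjective hsurj S, h3,
        Subgroup.map_top_of_surjective π hsurj]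
  have hcore : (T₁.map π).normalCore = ⊥ := by
    rw [eq_bot_iff]
    intro q hq
    obtain ⟨g, rfl⟩ := hsurj q
    haveI hn : ((T₁.map π).normalCore.comap π).Normal := Subgroup.Normal.comap inferInstance π
    have h1 : (T₁.map π).normalCore.comap π ≤ T₁ :=
      le_of_le_of_eq (Subgroup.comap_mono (Subgroup.normalCore_le _)) hcm
    have h2 : (T₁.map π).normalCore.comap π ≤ T₁.normalCore :=
      Subgroup.normal_le_normalCore.mpr h1
    have h3 : g ∈ T₁.normalCore := h2 hq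
    rw [Subgroup.mem_bot, ← hπ]
    exact (QuotientGroup.eq_one_iff g).mpr h3
  have hu1 : π u ≠ 1 := by
    rw [← hπ]
    exact fun h => huM ((QuotientGroup.eq_one_iff u).mp h)
  have hua' : π u ^ (p ^ a) = 1 := by rw [← map_pow, hua, map_one]
  obtain ⟨q, hq, hqd, hq01⟩ := pp_core_free hp (T₁.map π) hco hcore (π u) hu1 a hua'
  refine ⟨q, hq, ?_, hq01⟩
  rw [Subgroup.index_map_eq T₁ hsurj hker] at hqd
  exact hqd.trans (Subgroup.index_dvd_of_le hle)

end PP

end Cfsg.Agent.H4
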