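import Mathlib
import Cfsg.Prelude.Def_Characters
import Cfsg.Prelude.Def_Blocks
import Cfsg.Agent.H4.WinA
import Cfsg.Agent.H4.Blich1
import Cfsg.Agent.Lib.Clifford
import Cfsg.Agent.Lib.CliffordCorr
import Cfsg.Agent.Lib.ItoConv
import Cfsg.Agent.H82.Irr
import Cfsg.Agent.H82.Extra
import Cfsg.Agent.H82.CanonExt
import Cfsg.Agent.H82.Codeg
import Cfsg.Agent.H83.Gagola2

/-!
# Winter's theorem (S4467): character-theoretic lemmas

* `exists_constituent_ne`: a constituent of a restriction not containing `z` in its kernel.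
* `res_eq_of_inertia_top`, `inertia_eq_top_of_hC`: quasi-primitivity from "no proper subgroup has
  index dividing the degree".
* `le_center_of_linear_constituent`, `le_center_of_isPGroup`, `le_center_of_comm`.
* `ker_of_constituent_central`: a central element in the kernel of a constituent of `χ|H`
  is in the kernel of `χ`.
* `card_eq_of_fully_ramified`: `|H| = |Z| ψ(1)²` for `ψ` vanishing off the central subgroup `Z`.
-/

set_option autoImplicit false
set_option linter.unusedSectionVars false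
set_option linter.style.haveILetI false

namespace Cfsg.Agent.H4

open Cfsg Cfsg.Agent.Clifford
open scoped ComplexConjugate

universe u

section WinB

variable {G : Type u} [Group G]

/-- A character `χ` with `χ z ≠ χ 1` for `z ∈ M` has an irreducible constituent `ψ` on `M` with
`ψ z ≠ ψ 1`. -/
theorem exists_constituent_ne [Finite G] (M : Subgroup G) [Fintype M] {χ : G → ℂ}
    (hχ : IsCharacter G χ) (z : M) (hz : χ (z : G) ≠ χ 1) :
    ∃ ψ : IrrCharacter M, classInner (fun m : M => χ m) ψ.1 ≠ 0 ∧ ψ.1 z ≠ ψ.1 1 := by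
  classical
  letI := fintypeIrr M
  have hX : IsCharacter M (fun m : M => χ m) := isCharacter_restrict M hχ
  have hexp := classFunction_eq_finsum (isClassFunction_of_isCharacter hX)
  rw [finsum_irr_eq_sum] at hexp
  have hval : ∀ m : M, χ (m : G) =
      ∑ ψ : IrrCharacter M, classInner (fun m : M => χ m) ψ.1 * ψ.1 m := by
    intro m
    have h := congrFun hexp m
    rw [Finset.sum_apply] at h
    exact h
  by_contra hcon
  push Not at hcon
  apply hz
  have h1 := hval 1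
  rw [Subgroup.coe_one] at h1
  rw [hval z, h1]
  refine Finset.sum_congr rfl fun ψ _ => ?_
  by_cases h0 : classInner (fun m : M => χ m) ψ.1 = 0
  · rw [h0, zero_mul, zero_mul]
  · rw [hcon ψ h0]

/-- If `θ` is `G`-invariant, then `χ|N = e θ`. -/
theorem res_eq_of_inertia_top [Fintype G] (N : Subgroup G) [hN : N.Normal] [Fintype N]
    {χ : G → ℂ} (hχ : IsIrrCharacter G χ) {θ : N → ℂ} (hθ : IsIrrCharacter N θ)
    (h1 : classInner (fun n : N => χ n) θ ≠ 0) (hinv : Clifford.inertia N θ = ⊤) (n : N) :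
    χ (n : G) = classInner (fun n : N => χ n) θ * θ n := by
  have h := clifford_res N hχ hθ h1
  have hset : {ψ : N → ℂ | ∃ g : G, ψ = conjChar N θ g} = {θ} := by
    ext ψ
    constructor
    · rintro ⟨g, rfl⟩
      have hg : g ∈ Clifford.inertia N θ := by rw [hinv]; trivial
      exact (Clifford.mem_inertia N).1 hg
    · intro hψ
      rw [Set.mem_singleton_iff] at hψ
      exact ⟨1, by rw [hψ, conjChar_one]⟩
  rw [hset, finsum_mem_singleton] at h
  exact congrFun h n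

/-- If no proper subgroup has index dividing `χ(1)`, every constituent of `χ|N` is invariant;
its degree divides `χ(1)`. -/
theorem inertia_eq_top_of_hC [Fintype G] (N : Subgroup G) [hN : N.Normal] [Fintype N]
    (χ : IrrCharacter G) (hC : ∀ T : Subgroup G, T ≠ ⊤ → ¬ T.index ∣ charDegree χ.1)
    (θ : IrrCharacter N) (h1 : classInner (fun n : N => χ.1 n) θ.1 ≠ 0) :
    Clifford.inertia N θ.1 = ⊤ ∧ charDegree θ.1 ∣ charDegree χ.1 := by
  obtain ⟨f, hf⟩ := Cfsg.Agent.ItoConv.degree_over N θ χ h1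
  constructor
  · by_contra hne
    exact hC _ hne ⟨f * charDegree θ.1, by rw [hf, mul_assoc]⟩
  · exact ⟨(Clifford.inertia N θ.1).index * f, by rw [hf, mul_comm]⟩

/-- A normal subgroup on which a faithful quasi-primitive character has a linear constituent
is central. -/
theorem le_center_of_linear_constituent [Fintype G] (N : Subgroup G) [hN : N.Normal] [Fintype N]
    (χ : IrrCharacter G) (hfaith : ∀ g : G, χ.1 g = χ.1 1 → g = 1)
    (hC : ∀ T : Subgroup G, T ≠ ⊤ → ¬ T.index ∣ charDegree χ.1)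
    (θ : IrrCharacter N) (h1 : classInner (fun n : N => χ.1 n) θ.1 ≠ 0) (hlin : θ.1 1 = 1) :
    N ≤ Subgroup.center G := by
  obtain ⟨hinv, -⟩ := inertia_eq_top_of_hC N χ hC θ h1
  intro a ha
  rw [Subgroup.mem_center_iff]
  intro g
  have hres := res_eq_of_inertia_top N χ.2 θ.2 h1 hinv
  have hg : g ∈ Clifford.inertia N θ.1 := by rw [hinv]; trivial
  have hθg : θ.1 ⟨g * a * g⁻¹, hN.conj_mem a ha g⟩ = θ.1 ⟨a, ha⟩ :=
    (Clifford.mem_inertia_iff N).1 hg ⟨a, ha⟩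
  have hmem : g * a * g⁻¹ * a⁻¹ ∈ N := N.mul_mem (hN.conj_mem a ha g) (N.inv_mem ha)
  have hθc : θ.1 ⟨g * a * g⁻¹ * a⁻¹, hmem⟩ = θ.1 1 := by
    have e : (⟨g * a * g⁻¹ * a⁻¹, hmem⟩ : N) =
        ⟨g * a * g⁻¹, hN.conj_mem a ha g⟩ * (⟨a, ha⟩ : N)⁻¹ := rfl
    rw [e, Cfsg.Agent.H82.irr_linear_mul θ hlin, hθg, ← Cfsg.Agent.H82.irr_linear_mul θ hlin,
      mul_inv_cancel]
  have hχc : χ.1 (g * a * g⁻¹ * a⁻¹) = χ.1 1 := by
    have e1 := hres ⟨g * a * g⁻¹ * a⁻¹, hmem⟩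
    have e2 := hres 1
    rw [hθc] at e1
    rw [Subgroup.coe_one] at e2
    rw [e2]
    exact e1
  have hc1 := hfaith _ hχc
  calc g * a = (g * a * g⁻¹ * a⁻¹) * (a * g) := by group
    _ = a * g := by rw [hc1, one_mul]

/-- A normal `p`-subgroup is central if `p` does not divide the degree of the faithful
quasi-primitive character `χ`. -/
theorem le_center_of_isPGroup [Fintype G] {p : ℕ} (hp : p.Prime) (N : Subgroup G)
    [hN : N.Normal] [Fintype N] (hNp : IsPGroup p N) (χ : IrrCharacter G)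
    (hfaith : ∀ g : G, χ.1 g = χ.1 1 → g = 1)
    (hC : ∀ T : Subgroup G, T ≠ ⊤ → ¬ T.index ∣ charDegree χ.1)
    (hpn : ¬ p ∣ charDegree χ.1) : N ≤ Subgroup.center G := by
  haveI : Fact p.Prime := ⟨hp⟩
  obtain ⟨θ, hθ, h1⟩ := Cfsg.Agent.H82.exists_constituent_res' N χ.2
  obtain ⟨-, hdvd⟩ := inertia_eq_top_of_hC N χ hC ⟨θ, hθ⟩ h1
  have hdN : charDegree θ ∣ Nat.card N :=
    (Cfsg.Agent.H82.charDegree_dvd_index_irrKer ⟨θ, hθ⟩).trans (Subgroup.index_dvd_card _)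
  obtain ⟨k, hk⟩ := hNp.exists_card_eq
  rw [hk] at hdN
  obtain ⟨j, -, hj⟩ := (Nat.dvd_prime_pow hp).mp hdN
  have hj0 : j = 0 := by
    by_contra hne
    apply hpn
    have h2 : p ∣ charDegree θ := by rw [hj]; exact dvd_pow_self p hne
    exact h2.trans hdvd
  have hlin : θ 1 = 1 := by
    have h3 := Cfsg.Agent.H82.irr_one_eq_charDegree (⟨θ, hθ⟩ : IrrCharacter N)
    rw [hj, hj0, pow_zero, Nat.cast_one] at h3
    exact h3
  exact le_center_of_linear_constituent N χ hfaith hC ⟨θ, hθ⟩ h1 hlin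

/-- An abelian normal subgroup is central (faithful quasi-primitive `χ`). -/
theorem le_center_of_comm [Fintype G] (N : Subgroup G) [hN : N.Normal] [Fintype N]
    (hNc : ∀ a ∈ N, ∀ b ∈ N, a * b = b * a) (χ : IrrCharacter G)
    (hfaith : ∀ g : G, χ.1 g = χ.1 1 → g = 1)
    (hC : ∀ T : Subgroup G, T ≠ ⊤ → ¬ T.index ∣ charDegree χ.1) : N ≤ Subgroup.center G := by
  obtain ⟨θ, hθ, h1⟩ := Cfsg.Agent.H82.exists_constituent_res' N χ.2
  have hlin := (Cfsg.Agent.H83.IsIrrCharacter.linear_of_comm (A := N)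
    (fun a b => Subtype.ext (hNc a a.2 b b.2)) hθ).1
  exact le_center_of_linear_constituent N χ hfaith hC ⟨θ, hθ⟩ h1 hlin

/-- A central element of `G` lying in the kernel of a constituent of `χ|H` lies in the kernel
of the irreducible character `χ`. -/
theorem ker_of_constituent_central [Fintype G] (H : Subgroup G) [Fintype H] (χ : IrrCharacter G)
    (ψ : IrrCharacter H) (h1 : classInner (fun h : H => χ.1 h) ψ.1 ≠ 0) (z : H)
    (hz : ∀ g : G, g * (z : G) = (z : G) * g) (hψz : ψ.1 z = ψ.1 1) : χ.1 (z : G) = χ.1 1 := by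
  obtain ⟨c, hc, -, hc1⟩ := Cfsg.Agent.H82.irr_central_scalar χ (z : G) hz
  apply hc1
  have hker : z ∈ Cfsg.Agent.H82.irrKer ψ := hψz
  have hsum : ∑ h : H, χ.1 (h : G) * conj (ψ.1 h) =
      c * ∑ h : H, χ.1 (h : G) * conj (ψ.1 h) := by
    calc ∑ h : H, χ.1 (h : G) * conj (ψ.1 h)
        = ∑ h : H, χ.1 ((z * h : H) : G) * conj (ψ.1 (z * h)) :=
          (Equiv.sum_comp (Equiv.mulLeft z) (fun h : H => χ.1 (h : G) * conj (ψ.1 h))).symm
      _ = ∑ h : H, c * (χ.1 (h : G) * conj (ψ.1 h)) := by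
          refine Finset.sum_congr rfl fun h _ => ?_
          rw [Subgroup.coe_mul, hc, (Cfsg.Agent.H82.irr_mul_of_mem_irrKer ψ hker h).1, mul_assoc]
      _ = c * ∑ h : H, χ.1 (h : G) * conj (ψ.1 h) := Finset.mul_sum _ _ _ |>.symm
  have hS : ∑ h : H, χ.1 (h : G) * conj (ψ.1 h) ≠ 0 := by
    intro h0
    apply h1
    show (Nat.card H : ℂ)⁻¹ * ∑ h : H, χ.1 (h : G) * conj (ψ.1 h) = 0
    rw [h0, mul_zero]
  have h2 : (1 - c) * ∑ h : H, χ.1 (h : G) * conj (ψ.1 h) = 0 := by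
    rw [sub_mul, one_mul, ← hsum, sub_self]
  rcases mul_eq_zero.mp h2 with h | h
  · exact (sub_eq_zero.mp h).symm
  · exact absurd h hS

/-- If `ψ ∈ Irr(H)` vanishes off the central subgroup `Z` (each `h ∉ Z` has a central
commutator outside `ker ψ`), then `|H| = |Z| ψ(1)²`. -/
theorem card_eq_of_fully_ramified {H : Type u} [Group H] [Finite H] (ψ : IrrCharacter H)
    (Z : Subgroup H) (hZ : ∀ z ∈ Z, ∀ g : H, g * z = z * g)
    (hoff : ∀ h : H, h ∉ Z → ∃ k : H,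
        (∀ g : H, g * (h⁻¹ * k⁻¹ * h * k) = (h⁻¹ * k⁻¹ * h * k) * g) ∧
        ψ.1 (h⁻¹ * k⁻¹ * h * k) ≠ ψ.1 1) :
    Nat.card H = Nat.card Z * charDegree ψ.1 ^ 2 := by
  classical
  haveI : Fintype H := Fintype.ofFinite H
  have hd : ψ.1 1 = (charDegree ψ.1 : ℂ) := Cfsg.Agent.H82.irr_one_eq_charDegree ψ
  have hvan : ∀ h : H, h ∉ Z → ψ.1 h = 0 := by
    intro h hh
    obtain ⟨k, hzc, hne⟩ := hoff h hh
    obtain ⟨c, hc, -, hc1⟩ := Cfsg.Agent.H82.irr_central_scalar ψ _ hzc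
    have e1 : ψ.1 (k⁻¹ * h * k) = ψ.1 h := by
      have := Cfsg.Agent.H82.irr_conj ψ h k⁻¹
      rwa [inv_inv] at this
    have e2 : k⁻¹ * h * k = (h⁻¹ * k⁻¹ * h * k) * h := by
      rw [← hzc h]; group
    rw [e2, hc] at e1
    by_contra h0
    apply hne
    apply hc1
    have h3 : (c - 1) * ψ.1 h = 0 := by rw [sub_mul, one_mul, e1, sub_self]
    rcases mul_eq_zero.mp h3 with h' | h'
    · exact sub_eq_zero.mp h'
    · exact absurd h' h0
  have hon : ∀ z ∈ Z, ψ.1 z * conj (ψ.1 z) = (charDegree ψ.1 : ℂ) ^ 2 := by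
    intro z hz
    obtain ⟨c, hc, hpow, -⟩ := Cfsg.Agent.H82.irr_central_scalar ψ z (hZ z hz)
    have hcn : ‖c‖ = 1 :=
      Complex.norm_eq_one_of_pow_eq_one (hpow _ (pow_orderOf_eq_one z)) (orderOf_pos z).ne'
    have hcc : c * conj c = 1 := by
      rw [Complex.mul_conj, Complex.normSq_eq_norm_sq, hcn]; simp
    have hz1 : ψ.1 z = c * (charDegree ψ.1 : ℂ) := by
      have := hc 1
      rw [mul_one, hd] at this
      exact this
    rw [hz1, map_mul, Complex.conj_natCast]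
    calc c * (charDegree ψ.1 : ℂ) * (conj c * (charDegree ψ.1 : ℂ))
        = (c * conj c) * (charDegree ψ.1 : ℂ) ^ 2 := by ring
      _ = (charDegree ψ.1 : ℂ) ^ 2 := by rw [hcc, one_mul]
  have hsum := Cfsg.Agent.H82.irr_norm_sq ψ
  have hsum2 : ∑ g : H, ψ.1 g * conj (ψ.1 g) =
      ∑ g : H, if g ∈ Z then (charDegree ψ.1 : ℂ) ^ 2 else 0 := by
    refine Finset.sum_congr rfl fun g _ => ?_
    by_cases hg : g ∈ Z
    · rw [if_pos hg, hon g hg]
    · rw [if_neg hg, hvan g hg, zero_mul]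
  rw [hsum2, ← Finset.sum_filter, Finset.sum_const, nsmul_eq_mul] at hsum
  have hcard : (Finset.univ.filter (fun g : H => g ∈ Z)).card = Nat.card Z := by
    rw [Nat.card_eq_fintype_card, ← Fintype.card_subtype]
  rw [hcard] at hsum
  exact_mod_cast hsum.symm

/-- The arithmetic at the end of the quasi-primitive case. -/
theorem wGood_of_squares {p r : ℕ} (hp : p.Prime) (hr : r.Prime) (hrp : r ≠ p)
    {z0 a b s n : ℕ} (hE : z0 * a ^ 2 = r ^ s) (hlt : z0 * b ^ 2 < z0 * a ^ 2)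
    (hbd : b ∣ r ^ s) (hmod : z0 * a ^ 2 ≡ z0 * b ^ 2 [MOD p]) (han : a ∣ n) : WGood p n := by
  obtain ⟨j, -, hj⟩ := (Nat.dvd_prime_pow hr).mp (Dvd.intro _ hE : z0 ∣ r ^ s)
  have ha2 : a ∣ r ^ s := by
    rw [← hE]
    exact (dvd_pow_self a two_ne_zero).trans (dvd_mul_left _ _)
  obtain ⟨α, -, hα⟩ := (Nat.dvd_prime_pow hr).mp ha2
  obtain ⟨β, -, hβ⟩ := (Nat.dvd_prime_pow hr).mp hbd
  have hcop : p.gcd z0 = 1 := by
    rw [hj]
    exact Nat.Coprime.pow_right j ((Nat.coprime_primes hp hr).mpr (Ne.symm hrp))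
  have hab : a ^ 2 ≡ b ^ 2 [MOD p] := Nat.ModEq.cancel_left_of_coprime hcop hmod
  have hba : b < a := by
    have h1 : b ^ 2 < a ^ 2 := Nat.lt_of_mul_lt_mul_left hlt
    exact lt_of_pow_lt_pow_left₀ 2 (Nat.zero_le a) h1
  rw [hα, hβ] at hba
  have hβα : β < α := (Nat.pow_lt_pow_iff_right hr.one_lt).mp hba
  rw [hα, hβ, ← pow_mul, ← pow_mul] at hab
  have h1 : r ^ (α * 2 - β * 2) ≡ 1 [MOD p] :=
    pow_sub_modEq_one hp hr hrp (Nat.mul_le_mul_right 2 hβα.le) hab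
  have h2 : (r ^ (α - β)) ^ 2 ≡ 1 [MOD p] := by
    rw [← pow_mul, Nat.sub_mul]
    exact h1
  have h3 : ((r ^ (α - β) : ℕ) : ℤ) ^ 2 ≡ 1 [ZMOD p] := by
    exact_mod_cast Int.natCast_modEq_iff.mpr h2
  have h4 : (p : ℤ) ∣ (1 - ((r ^ (α - β) : ℕ) : ℤ)) * (1 + ((r ^ (α - β) : ℕ) : ℤ)) := by
    have := Int.modEq_iff_dvd.mp h3
    have e : (1 : ℤ) - ((r ^ (α - β) : ℕ) : ℤ) ^ 2 =
        (1 - ((r ^ (α - β) : ℕ) : ℤ)) * (1 + ((r ^ (α - β) : ℕ) : ℤ)) := by ring
    rwa [e] at this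
  refine ⟨r ^ (α - β), hr.isPrimePow.pow (by omega), ?_, ?_⟩
  · refine Dvd.dvd.trans ?_ han
    rw [hα]
    exact pow_dvd_pow r (Nat.sub_le α β)
  · rcases (Nat.prime_iff_prime_int.mp hp).dvd_or_dvd h4 with h | h
    · exact Or.inr (Or.inr (Int.modEq_iff_dvd.mpr h))
    · refine Or.inl (Int.modEq_iff_dvd.mpr ?_)
      have e : (-1 : ℤ) - ((r ^ (α - β) : ℕ) : ℤ) = -(1 + ((r ^ (α - β) : ℕ) : ℤ)) := by ring
      rw [e]
      exact (dvd_neg).mpr h

end WinB

end Cfsg.Agent.H4
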